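import Cfsg.Agent.IT.Two
import Cfsg.Agent.H9.Hall

/-! Groups in which many elements have class size `1` or `m`: local lemmas. -/

set_option autoImplicit false
set_option linter.unusedSectionVars false
set_option linter.unusedVariables false

namespace I4

open Cfsg Subgroup FT H4 BS IT
open H5 (IsSylowOf)
open scoped commutatorElement

universe u

variable {G : Type u} [Group G] [Finite G] {L H U V X Y N E P S C : Subgroup G} {g x y z w : G}
  {p r l m : ℕ}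

theorem top_of_cover {H : Subgroup G} (h : ∀ g : G, ∃ k : G, k * g * k⁻¹ ∈ H) : H = ⊤ := by
  classical
  have := Fintype.ofFinite G
  have h1 := MulAction.sum_card_fixedBy_eq_card_orbits_mul_card_group G (G ⧸ H)
  have h2 : Fintype.card (Quotient (MulAction.orbitRel G (G ⧸ H))) = 1 :=
    Fintype.card_eq_one_iff.mpr ⟨Quotient.mk _ ((1 : G) : G ⧸ H), fun a => by
      obtain ⟨a, rfl⟩ := Quotient.exists_rep a
      exact Quotient.sound (MulAction.exists_smul_eq G _ a)⟩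
  rw [h2, one_mul, ← Finset.add_sum_erase _ _ (Finset.mem_univ 1)] at h1
  have h3 : (Finset.univ.erase (1 : G)).card • 1 ≤ ∑ g ∈ Finset.univ.erase (1 : G),
      Fintype.card (MulAction.fixedBy (G ⧸ H) g) := Finset.card_nsmul_le_sum _ _ _ fun g _ => by
    obtain ⟨k, hk⟩ := h g
    refine Fintype.card_pos_iff.mpr ⟨⟨((k⁻¹ : G) : G ⧸ H), ?_⟩⟩
    rw [MulAction.mem_fixedBy]
    change ((g * k⁻¹ : G) : G ⧸ H) = _
    rw [eq_comm, QuotientGroup.eq]
    simpa [mul_assoc] using hk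
  have h4 : Fintype.card (MulAction.fixedBy (G ⧸ H) (1 : G)) = H.index := by
    rw [index, ← Nat.card_eq_fintype_card, MulAction.fixedBy_one_eq_univ, Nat.card_univ]
  rw [Finset.card_erase_of_mem (Finset.mem_univ _), Finset.card_univ, smul_eq_mul, mul_one] at h3
  have h5 : 0 < Fintype.card G := Fintype.card_pos
  have h6 := Nat.pos_of_ne_zero (index_ne_zero_of_finite (H := H))
  exact index_eq_one.mp (by omega)

/-- a group is not the union of the conjugates of a proper subgroup -/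
theorem le_of_cover (h : ∀ g ∈ L, ∃ k ∈ L, k * g * k⁻¹ ∈ H) : L ≤ H :=
  subgroupOf_eq_top.mp (top_of_cover fun g => by
    obtain ⟨k, hk, e⟩ := h g g.2
    exact ⟨⟨k, hk⟩, e⟩)

theorem syl_up (hp : p.Prime) (h : IsSylowOf p P (L ⊓ C)) (hC : ¬ p ∣ C.relIndex L) :
    IsSylowOf p P L := ⟨h.le.trans inf_le_left, h.isPGroup, fun e => by
  rw [← relIndex_mul_relIndex P (L ⊓ C) L h.le inf_le_left, inf_comm, inf_relIndex_right] at e
  exact ((Nat.Prime.dvd_mul hp).mp e).elim (inf_comm L C ▸ h.not_dvd) hC⟩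

theorem not_dvd_rel (h : IsSylowOf p P L) (hC : P ≤ C) : ¬ p ∣ C.relIndex L := fun e =>
  h.not_dvd (e.trans (relIndex_dvd_of_le_left L hC))

theorem syl_card (hp : p.Prime) (h : IsSylowOf p P U) (hV : P ≤ V) (e : Nat.card V = Nat.card U) :
    IsSylowOf p P V := by
  have : Fact p.Prime := ⟨hp⟩
  exact H5.isSylowOf_of_card hV h.isPGroup (by rw [e, h.card_eq])

theorem mem_syl (hp : p.Prime) (h : IsSylowOf p P L) (hg : g ∈ L) (h1 : PE p g)
    (h2 : P ≤ Cen1 g) : g ∈ P := by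
  have : Fact p.Prime := ⟨hp⟩
  exact h.le_of_le_normalizer h1.isPGroup (zpowers_le.mpr hg) (h2.trans
    ((H4.centralizer_zpowers g).ge.trans (centralizer_le_normalizer _))) (mem_zpowers g)

theorem mem_syl' (hp : p.Prime) (h : IsSylowOf p P L) (hn : L ≤ Nor P) (hg : g ∈ L) (h1 : PE p g) :
    g ∈ P := by
  have : Fact p.Prime := ⟨hp⟩
  exact h.le_of_le_normalizer' h1.isPGroup (zpowers_le.mpr hg) ((zpowers_le.mpr hg).trans hn)
    (mem_zpowers g)

theorem card_eq_of_rel (hU : U ≤ L) (hV : V ≤ L) (e : U.relIndex L = V.relIndex L) :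
    Nat.card U = Nat.card V := by
  have h1 := H5.card_mul_relIndex hU
  rw [e, ← H5.card_mul_relIndex hV] at h1
  exact Nat.eq_of_mul_eq_mul_right (Nat.pos_of_ne_zero (relIndex_ne_zero_of_finite _ _)) h1

theorem eq_of_rel (h : U ≤ V) (hV : V ≤ L) (e : U.relIndex L = V.relIndex L) : U = V :=
  eq_of_le_of_card_ge h (card_eq_of_rel (h.trans hV) hV e).ge

theorem rel_inf (L C : Subgroup G) : (L ⊓ C).relIndex L = C.relIndex L := by
  rw [inf_comm, inf_relIndex_right]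

/-- if the `p'`-elements have class size prime to `p` they commute with all `p`-elements -/
theorem pn (hp : p.Prime) (h : ∀ g ∈ L, (orderOf g).Coprime p → ¬ p ∣ (Cen1 g).relIndex L)
    (hg : g ∈ L) (ho : (orderOf g).Coprime p) (hx : x ∈ L) (h1 : PE p x) : x ∈ Cen1 g := by
  have : Fact p.Prime := ⟨hp⟩
  obtain ⟨P, hP⟩ := H5.exists_isSylowOf p L
  have h2 : L ≤ Nor P := le_of_cover fun g hg => by
    obtain ⟨a, ha, b, hb, rfl, h3, h4⟩ := exists_pPart p g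
    obtain ⟨Q, hQ, h5⟩ := H5.exists_isSylowOf_ge (PE.isPGroup h3) (K := L ⊓ Cen1 b)
      (zpowers_le.mpr ⟨zpowers_le.mpr hg ha, cen1_le_of_mem hb (c1_symm
        (cen1_le_of_mem ha (self_mem _)))⟩)
    obtain ⟨k, hk, e⟩ := (syl_up hp hQ (h b (zpowers_le.mpr hg hb) h4)).exists_conj hP
    refine ⟨k, hk, ?_⟩
    rw [show k * (a * b) * k⁻¹ = k * a * k⁻¹ * (k * b * k⁻¹) by group]
    refine mul_mem (le_normalizer (e ▸ conj_mem_conjS (h5 (mem_zpowers a))))
      (centralizer_le_normalizer _ ?_)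
    rw [← e]
    exact (conjS_centralizer k Q).le
      (conj_mem_conjS (cen_iff.mpr fun u hu => (c1_iff.mp (hQ.le hu).2).symm))
  obtain ⟨Q, hQ⟩ := H5.exists_isSylowOf p (L ⊓ Cen1 g)
  have h3 := syl_up hp hQ (h g hg ho)
  have h4 := h3.eq_of_le hP.isPGroup (hP.le_of_le_normalizer' hQ.isPGroup h3.le (h3.le.trans h2))
    hP.le
  exact (hQ.le (h4 ▸ mem_syl' hp hP h2 hx h1)).2

theorem npc_of_pn (hp : p.Prime)
    (h : ∀ g ∈ L, (orderOf g).Coprime p → ∀ x ∈ L, PE p x → x ∈ Cen1 g) : H7.NPC p L := by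
  have : Fact p.Prime := ⟨hp⟩
  refine H7.npc_top_iff.mp (H7.FrobHyp.npc (fun U hU g _ ho => cen_iff.mpr fun x hx => ?_) ⊤)
  obtain ⟨k, hk⟩ := PE.of_mem hU hx
  exact Subtype.ext (c1_iff.mp (h g g.2 (by rwa [orderOf_coe]) x x.2
    ⟨k, congrArg Subtype.val hk⟩)).symm

/-- a 2-group in which squaring does not enlarge centralizers is abelian -/
theorem comm_of_sq (hS : IsPGroup 2 S) (h : ∀ g ∈ S, g * g ≠ 1 → Cen1 (g * g) ≤ Cen1 g) :
    IsMulCommutative S := by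
  by_contra hn
  obtain ⟨g, hg, h1, h2, h3⟩ := H7.exists_central_mod (N := Cen S) hS le_rfl le_normalizer
    fun e => hn (H5.isMulCommutative_of_forall fun a ha b hb => cen_iff.mp (e ha) b hb)
  rw [pow_two] at h3
  have g2 : g * g = 1 := by
    by_contra e
    exact h1 (cen_iff.mpr fun a ha => (c1_iff.mp (h g hg e (c1_iff.mpr
      (cen_iff.mp h3 a ha).symm))).symm)
  have key : ∀ a ∈ S, a ∉ Cen1 g → a * a = 1 := fun a ha ha' => by
    by_contra e
    refine ha' (c1_symm (h a ha e (c1_iff'.mpr ?_)))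
    have e1 := cen_iff.mp (h2 a ha) a ha
    have e2 := cen_iff.mp (h2 a ha) g hg
    rw [commutatorElement_def] at e1 e2
    have e3 : g * a * g⁻¹ = g * a * g⁻¹ * a⁻¹ * a := by group
    have e4 : g * a * g⁻¹ * a⁻¹ * (g * a * g⁻¹ * a⁻¹) = 1 := by
      calc _ = g * (g⁻¹ * (g * a * g⁻¹ * a⁻¹ * g)) * a * g⁻¹ * a⁻¹ := by group
        _ = (g * g) * a * (g * g)⁻¹ * a⁻¹ := by rw [e2]; group
        _ = 1 := by rw [g2]; group
    calc g * (a * a) * g⁻¹ = g * a * g⁻¹ * a⁻¹ * (a * (g * a * g⁻¹ * a⁻¹)) * a := by group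
      _ = a * a := by rw [← e1, ← mul_assoc, e4]; group
  obtain ⟨a, ha, ha'⟩ : ∃ a ∈ S, a ∉ Cen1 g := by
    by_contra! e
    exact h1 (cen_iff.mpr fun a ha => (c1_iff.mp (e a ha)).symm)
  have e1 := key a ha ha'
  have e2 := key (g * a) (mul_mem hg ha) fun e => ha' ((mul_mem_cancel_left (self_mem g)).mp e)
  exact ha' (c1_iff.mpr (by
    rw [← inv_eq_self_of_sq e2, mul_inv_rev, inv_eq_self_of_sq e1, inv_eq_self_of_sq g2]))

theorem ix_map {G' : Type*} [Group G'] {f : G →* G'} (hf : Function.Surjective f) (g : G) :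
    ix (f g) ∣ ix g :=
  (index_dvd_of_le (map_le_iff_le_comap.mpr fun a ha => c1_iff.mpr (by
    rw [← map_mul, c1_iff.mp ha, map_mul]))).trans (index_map_dvd _ hf)

theorem cen1_sub (g : L) : Cen1 g = (Cen1 (g : G)).subgroupOf L := by
  ext a; rw [mem_subgroupOf, c1_iff, c1_iff, Subtype.ext_iff]; rfl

theorem pow_quot {G' : Type*} [Group G'] {f : G →* G'} (hf : Function.Surjective f) (hp : p.Prime)
    (h : ∀ g : G, (orderOf g).Coprime p → ∃ k, ix g ∣ p ^ k) (g : G')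
    (ho : (orderOf g).Coprime p) : ∃ k, ix g ∣ p ^ k := by
  obtain ⟨g, rfl⟩ := hf g
  obtain ⟨j, hj⟩ := H7.exists_pow_coprime hp g
  obtain ⟨k, hk⟩ := h _ hj
  refine ⟨k, (index_dvd_of_le fun a ha => ?_).trans ((ix_map hf _).trans hk)⟩
  rw [map_pow] at ha
  exact c1_iff.mpr (c1_iff.mp (mem_of_pow_mem_of_coprime (N := Cen1 a)
    (c1_iff.mpr (c1_iff.mp ha).symm) (ho.pow_right j))).symm

theorem solv_aux (hp : p.Prime) (n : ℕ) : ∀ (G : Type u) [Group G] [Finite G], Nat.card G = n →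
    (∀ g : G, (orderOf g).Coprime p → ∃ k, ix g ∣ p ^ k) → Group.IsSolvable G := by
  have : Fact p.Prime := ⟨hp⟩
  induction n using Nat.strong_induction_on with | _ n ih => ?_
  intro G _ _ hn h
  rcases subsingleton_or_nontrivial G with h1 | h1
  · infer_instance
  by_cases hs : IsSimpleGroup G
  · by_cases hc : IsMulCommutative G
    · exact Group.isSolvable_of_comm hc.1.1
    · have h2 : IsPGroup p G := fun g => by
        obtain ⟨j, hj⟩ := H7.exists_pow_coprime hp g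
        obtain ⟨k, hk⟩ := h _ hj
        obtain ⟨i, -, hi⟩ := (Nat.dvd_prime_pow hp).mp hk
        exact ⟨j, by_contra fun e => ix_ne_pow hc e hp i hi⟩
      have := h2.isNilpotent
      infer_instance
  · obtain ⟨N, hN, h1, h2⟩ : ∃ N : Subgroup G, N.Normal ∧ N ≠ ⊥ ∧ N ≠ ⊤ := by
      by_contra! hcon
      exact hs ⟨fun N hN => or_iff_not_imp_left.2 (hcon N hN)⟩
    have a1 : Group.IsSolvable N := ih _ (hn ▸ H7.card_lt_of_ne_top h2) N rfl fun g ho => by
      obtain ⟨k, hk⟩ := h g (by rwa [orderOf_coe])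
      exact ⟨k, by rw [ix, cen1_sub]; exact (H9.relIndex_dvd_index_of_normal' _ N).trans hk⟩
    have a2 : Group.IsSolvable (G ⧸ N) := ih _ (hn ▸ H7.card_quotient_lt N h1) (G ⧸ N) rfl
      (pow_quot (QuotientGroup.mk'_surjective N) hp h)
    exact Group.isSolvable_of_ker_le_range N.subtype (QuotientGroup.mk' N) (by simp)

theorem comm_aux (hp : p.Prime) (h : ∀ g : G, (orderOf g).Coprime p → ∃ k, ix g ∣ p ^ k)
    (hx : (orderOf x).Coprime p) (hy : (orderOf y).Coprime p) : ⁅x, y⁆ ∈ pCore p G := by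
  have : Fact p.Prime := ⟨hp⟩
  set f := QuotientGroup.mk' (pCore p G)
  have h1 := pow_quot (QuotientGroup.mk'_surjective (pCore p G)) hp h
  have := solv_aux hp _ _ rfl h1
  have h2 : ∀ g : G, (orderOf g).Coprime p → fittingSubgroup _ ≤ Cen1 (f g) := fun g ho => by
    obtain ⟨k, hk⟩ := h1 (f g) (ho.coprime_dvd_left (orderOf_map_dvd f g))
    refine H9.le_of_index_dvd_pow hk le_normalizer_of_normal (coprime_card_of_le
      (fitting_le_sup p) ?_)
    rw [pCore_quotient_pCore, bot_sup_eq]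
    exact coprime_card_pPrimeCore _ _
  have h3 := c1_iff.mp (h2 y hy (centralizer_fitting_le (cen_iff.mpr fun a ha =>
    (c1_iff.mp (h2 x hx ha)).symm)))
  rw [← QuotientGroup.eq_one_iff]
  change f _ = 1
  rw [map_commutatorElement, commutatorElement_eq_one_iff_mul_comm, h3]

section Pow
variable (hp : p.Prime) (h : ∀ g ∈ L, (orderOf g).Coprime p → ∃ k, (Cen1 g).relIndex L ∣ p ^ k)
include hp h

theorem pow_sub (g : L) (ho : (orderOf g).Coprime p) : ∃ k, ix g ∣ p ^ k := by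
  rw [ix, cen1_sub]; exact h g g.2 (by rwa [orderOf_coe])

theorem solv_of_pow : Group.IsSolvable L := solv_aux hp _ _ rfl (pow_sub hp h)

theorem comm_mod (hx : x ∈ L) (hy : y ∈ L) (h1 : (orderOf x).Coprime p)
    (h2 : (orderOf y).Coprime p) : ⁅x, y⁆ ∈ pCoreIn p L :=
  ⟨_, comm_aux (x := (⟨x, hx⟩ : L)) (y := ⟨y, hy⟩) hp (pow_sub hp h) (by rwa [← orderOf_coe])
    (by rwa [← orderOf_coe]), rfl⟩

theorem comm_of_pow (hX : X ≤ L) (hc : (Nat.card X).Coprime p) : IsMulCommutative X :=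
  H5.isMulCommutative_of_forall fun a ha b hb => commutatorElement_eq_one_iff_mul_comm.mp
    (mem_bot.mp ((inf_eq_bot_of_pGroup_coprime (isPGroup_pCoreIn p L) hc).le ⟨comm_mod hp h (hX ha)
      (hX hb) (coprime_orderOf_of_mem hc ha) (coprime_orderOf_of_mem hc hb),
      X.mul_mem (X.mul_mem (X.mul_mem ha hb) (X.inv_mem ha)) (X.inv_mem hb)⟩))

end Pow

theorem comm_of {X : Subgroup G} (h : IsMulCommutative X) : X ≤ Cen X := fun a ha =>
  cen_iff.mpr fun b hb => H5.comm_of_isMulCommutative h ha hb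

theorem cen_iff_le : x ∈ Cen X ↔ X ≤ Cen1 x :=
  cen_iff.trans ⟨fun h a ha => c1_iff.mpr (h a ha).symm, fun h a ha => (c1_iff.mp (h ha)).symm⟩

/-- a normal subgroup inducing an `l`-group on a normal abelian `r`-subgroup -/
theorem fin1 (hr : r.Prime) (hl : l.Prime) (hne : l ≠ r) (hX : IsPGroup r X)
    (hc : IsMulCommutative X) (hn : N ≤ Nor X) (hE : E ≤ N) (hnE : N ≤ Nor E)
    (hpow : ∀ e ∈ E, ∃ k, e ^ l ^ k ∈ Cen X)
    (hfix : ∀ w ∈ X, ¬ r ∣ (Cen1 w).relIndex N → N ≤ Cen1 w) : E ≤ Cen X := by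
  have : Fact r.Prime := ⟨hr⟩
  have : Fact l.Prime := ⟨hl⟩
  obtain ⟨T, hT⟩ := H5.exists_isSylowOf l E
  obtain ⟨R, hR⟩ := H5.exists_isSylowOf r N
  have h1 := H7.le_sup_sylow (H5.le_normalizer_centralizer (hE.trans hn)) hpow hT
  have h2 : ⁅X, T⁆ ≤ X := H5.commutator_le_left_of_le_normalizer (hT.le.trans (hE.trans hn))
  have h3 : ⁅X, E⁆ ≤ ⁅X, T⁆ := commutator_le.mpr fun a ha e he => by
    obtain ⟨c, hc, t, ht, rfl⟩ := (H5.mem_sup_left_iff (H5.le_normalizer_centralizer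
      (hT.le.trans (hE.trans hn)))).mp (h1 he)
    have h4 := commutator_mem_commutator ha ht
    refine H5.mem_of_eq h4 ?_
    have e1 := cen_iff.mp hc a ha
    have e2 := cen_iff.mp hc _ (h2 h4)
    rw [commutatorElement_def] at e2 ⊢
    rw [commutatorElement_def]
    calc _ = c * (a * t * a⁻¹ * t⁻¹) * c⁻¹ := by rw [e2]; group
      _ = _ := by rw [← mul_assoc a c, ← e1]; group
  by_contra h0
  obtain ⟨z, h4, h5, -, h6⟩ := H7.exists_fixed_order_p (hX.to_le (h3.trans h2)) hR.isPGroup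
    (hR.le.trans (H5.le_normalizer_commutator hn hnE)) fun e => h0
      (commutator_eq_bot_iff_le_centralizer.mp ((commutator_comm E X).trans e))
  exact h5 (mem_bot.mp ((H5.commutator_inf_centralizer_eq_bot hc (hT.le.trans (hE.trans hn))
    (IsPGroup.coprime_card_of_ne l r hne _ _ hT.isPGroup hX)).le ⟨h3 h4, cen_iff_le.mpr
      (hT.le.trans (hE.trans (hfix z (h2 (h3 h4)) (not_dvd_rel hR fun a ha =>
        c1_iff.mpr (h6 a (mem_sup_right ha))))))⟩))

/-- a proper normal extension of prime power index -/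
def Ext (N C : Subgroup G) : Prop := ∃ l : ℕ, l.Prime ∧ ∃ E ≤ N, N ≤ Nor E ∧ ¬ E ≤ C ∧
  ∀ e ∈ E, ∃ k, e ^ l ^ k ∈ C

theorem ext_of_solv (hC : C ≤ N) (hn : N ≤ Nor C) (hne : ¬ N ≤ C)
    (hs : Group.IsSolvable N ∨ Odd (C.relIndex N)) : Ext N C := by
  obtain ⟨Q, _, _, f, hf, hk⟩ := H5.exists_hom_ker_eq hn
  have h1 : Group.IsSolvable (⊤ : Subgroup Q) := by
    rcases hs with hs | hs
    · exact H5.im_self hf ▸ H5.isSolvable_im hs
    · refine odd_solvable ?_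
      have h2 := H5.card_eq_card_im_mul hk (le_refl N)
      rw [H5.im_self hf, inf_eq_right.mpr hC, ← H5.card_mul_relIndex hC, mul_comm] at h2
      rwa [← Nat.eq_of_mul_eq_mul_right Nat.card_pos h2]
  obtain ⟨l, M, hl, -, h2, h3, h4⟩ := H5.exists_char_pgroup h1 fun e => hne
    ((H5.im_eq_bot_iff hk le_rfl).mp ((H5.im_self hf).trans e))
  refine ⟨l, hl, H5.pre f M, H5.pre_le M, H5.le_normalizer_pre le_rfl (le_top.trans
    (le_normalizer.trans h4)), fun e => h2 ?_, fun e he => ?_⟩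
  · rw [← H5.im_pre hf M, H5.im_eq_bot_iff hk (H5.pre_le M)]; exact e
  · obtain ⟨h5, h6⟩ := H5.mem_pre.mp he
    refine ⟨1, (H5.map_eq_one_iff_of_ker hk (x := ⟨e, h5⟩ ^ l ^ 1)).mp ?_⟩
    rw [map_pow, pow_one]; exact h3.2 _ h6

theorem fin2 (hp : p.Prime) (hr : r.Prime) (hne : p ≠ r) (hX : IsPGroup p X) (hY : IsPGroup r Y)
    (cX : IsMulCommutative X) (cY : IsMulCommutative Y) (nX : N ≤ Nor X) (nY : N ≤ Nor Y)
    (h1 : C ≤ Cen X) (h2 : C ≤ Cen Y) (h3 : N ⊓ Cen X ≤ C) (h4 : N ⊓ Cen Y ≤ C)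
    (fX : ∀ w ∈ X, ¬ p ∣ (Cen1 w).relIndex N → N ≤ Cen1 w)
    (fY : ∀ w ∈ Y, ¬ r ∣ (Cen1 w).relIndex N → N ≤ Cen1 w) : ¬ Ext N C := by
  rintro ⟨l, hl, E, a1, a2, a3, a4⟩
  by_cases e : l = r
  · exact a3 ((le_inf a1 (fin1 hp hl (e ▸ hne.symm) hX cX nX a1 a2
      (fun e he => (a4 e he).imp fun k hk => h1 hk) fX)).trans h3)
  · exact a3 ((le_inf a1 (fin1 hr hl e hY cY nY a1 a2
      (fun e he => (a4 e he).imp fun k hk => h2 hk) fY)).trans h4)

/-- the elements of `N` centralizing `Y` modulo the centre -/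
def stab (N Y : Subgroup G) : Subgroup G where
  carrier := {n | n ∈ N ∧ ∀ u ∈ Y, n * u * n⁻¹ * u⁻¹ ∈ Cen N}
  one_mem' := ⟨one_mem _, fun u _ => by simp⟩
  mul_mem' := fun {a b} ha hb => ⟨mul_mem ha.1 hb.1, fun u hu => H5.mem_of_eq (mul_mem
    (H5.conj_mem_of_le_normalizer (H5.le_normalizer_centralizer le_normalizer) ha.1 (hb.2 u hu))
    (ha.2 u hu)) (by group)⟩
  inv_mem' := fun {a} ha => ⟨inv_mem ha.1, fun u hu => H5.mem_of_eq (inv_mem
    (H5.inv_conj_mem_of_le_normalizer (H5.le_normalizer_centralizer le_normalizer) ha.1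
      (ha.2 u hu))) (by group)⟩

theorem ext_of_even (hr : r.Prime) (h2 : r ≠ 2) (hY : IsPGroup r Y) (cY : IsMulCommutative Y)
    (nY : N ≤ Nor Y) (hC : C = N ⊓ Cen Y) (hf : ∀ w ∈ Y, N ≤ Cen1 w ∨ N ⊓ Cen1 w ≤ C)
    (he : 2 ∣ C.relIndex N) : Ext N C := by
  have : Fact r.Prime := ⟨hr⟩
  have nC : N ≤ Nor C := hC ▸ H5.le_normalizer_inf le_normalizer (H5.le_normalizer_centralizer nY)
  have nZ : N ≤ Nor (Cen N) := H5.le_normalizer_centralizer le_normalizer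
  by_cases hO : stab N Y ≤ C
  swap
  · refine ⟨r, hr, stab N Y, fun a ha => ha.1, fun n hn => H5.mem_normalizer_of_forall
      fun a ha => ⟨mul_mem (mul_mem hn ha.1) (inv_mem hn), fun u hu => H5.mem_of_eq
        (H5.conj_mem_of_le_normalizer nZ hn (ha.2 _ (H5.inv_conj_mem_of_le_normalizer nY hn hu)))
        (by group)⟩, hO, fun e he => ?_⟩
    obtain ⟨k, hk⟩ := H7.exists_pow_coprime hr e
    have h3 : zpowers (e ^ r ^ k) ≤ stab N Y := zpowers_le.mpr (pow_mem he _)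
    have h4 : zpowers (e ^ r ^ k) ≤ N := fun a ha => (h3 ha).1
    refine ⟨k, hC ▸ ⟨pow_mem he.1 _, le_centralizer_iff.mp (H5.le_centralizer_of_commutator_le
      (N := Cen N) (h4.trans nY) (coprime_card_of_pGroup' hY (by rwa [Nat.card_zpowers])).symm
      (Or.inr (H5.isSolvable_of_isPGroup hY)) (commutator_le.mpr fun u hu a ha => ?_)
      (centralizer_anti h4)) (mem_zpowers _)⟩⟩
    exact H5.mem_of_eq (inv_mem ((h3 ha).2 u hu)) (by rw [commutatorElement_def]; group)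
  obtain ⟨T, hT⟩ := H5.exists_isSylowOf 2 N
  obtain ⟨a, ha, ha'⟩ := SetLike.not_le_iff_exists.mp fun e => not_dvd_rel hT e he
  obtain ⟨k, hk⟩ := PE.of_mem hT.isPGroup ha
  obtain ⟨j, h3, h4⟩ := H7.exists_pow_notMem_pow_mem hk ha'
  have h5 := pow_mem (hT.le ha) (2 ^ j)
  generalize a ^ 2 ^ j = i at h3 h4 h5
  have key : ∀ i ∈ N, i ∉ C → i ^ 2 ∈ C → ∀ u ∈ Y, i * u * i⁻¹ * u ∈ Cen N :=
    fun i h5 h3 h4 u hu => by
      have h6 := H5.conj_mem_of_le_normalizer nY h5 hu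
      refine cen_iff_le.mpr ((hf _ (mul_mem h6 hu)).resolve_right fun e => h3 (e ⟨h5, c1_iff'.mpr ?_⟩))
      have e1 := cen_iff.mp (hC ▸ h4).2 u hu
      calc _ = i ^ 2 * u * (i ^ 2)⁻¹ * (i * u * i⁻¹) := by rw [pow_two]; group
        _ = _ := by rw [e1, mul_inv_cancel_right, H5.comm_of_isMulCommutative cY hu h6]
  refine ⟨2, Nat.prime_two, C ⊔ zpowers i, sup_le (hC ▸ inf_le_left) (zpowers_le.mpr h5),
    fun n hn => mem_normalizer_of_conjS_le ?_, fun e => h3 (e (mem_sup_right (mem_zpowers i))),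
    fun e he => ?_⟩
  · rw [conjS_sup, mem_normalizer_iff_conjS.mp (nC hn)]
    refine sup_le le_sup_left ((MonoidHom.map_zpowers _ _).le.trans (zpowers_le.mpr ?_))
    have h6 : n * i * n⁻¹ ∈ N := mul_mem (mul_mem hn h5) (inv_mem hn)
    have h7 := key _ h6 (fun e => h3 (H5.mem_of_eq (H5.inv_conj_mem_of_le_normalizer nC hn e)
      (by group))) (by rw [conj_pow]; exact H5.conj_mem_of_le_normalizer nC hn h4)
    have h8 : i * (n * i * n⁻¹) ∈ C := hO ⟨mul_mem h5 h6, fun u hu => H5.mem_of_eq (mul_mem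
      (H5.conj_mem_of_le_normalizer nZ h5 (h7 u hu)) (inv_mem (H5.mem_of_eq (key i h5 h3 h4 u hu)
        (H5.comm_of_isMulCommutative cY (H5.conj_mem_of_le_normalizer nY h5 hu) hu)))) (by group)⟩
    exact H5.mem_of_eq (mul_mem (inv_mem (mem_sup_right (mem_zpowers i))) (mem_sup_left h8))
      (by simp)
  · obtain ⟨c, hc, k, rfl⟩ := (H7.mem_sup_zpowers_nat (nC h5)).mp he
    refine ⟨1, H5.mem_of_eq (mul_mem (mul_mem hc (H5.conj_mem_of_le_normalizer nC (pow_mem h5 k) hc))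
      (pow_mem h4 k)) (by rw [pow_one, pow_two (c * _), ← pow_mul, mul_comm 2, pow_mul, pow_two]; group)⟩

/-- the class of `g` in `L` has size `1` or `m` -/
def CS (L : Subgroup G) (m : ℕ) (g : G) : Prop := L ≤ Cen1 g ∨ (Cen1 g).relIndex L = m

theorem CS.cen (h : CS L m g) (hp : p ∣ m) (h1 : ¬ p ∣ (Cen1 g).relIndex L) : L ≤ Cen1 g :=
  h.resolve_right fun e => h1 (e ▸ hp)

theorem CS.eq (h : CS L m g) (h1 : ¬ L ≤ Cen1 g) (hU : U ≤ L) (h2 : U ≤ Cen1 g)
    (e : U.relIndex L = m) : L ⊓ Cen1 g = U :=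
  (eq_of_rel (le_inf hU h2) inf_le_left (by rw [rel_inf, h.resolve_left h1, e])).symm

/-- a Sylow `p`-subgroup of a centralizer is not central -/
theorem exists_noncen (hp : p.Prime) (hm : p ∣ m) (h : ∀ g ∈ L, PE p g → CS L m g) (hU : U ≤ L)
    (hZ : L ⊓ Cen L ≤ U) (e : U.relIndex L = m) (hX : IsSylowOf p X U) :
    ∃ x ∈ X, ¬ L ≤ Cen1 x := by
  have : Fact p.Prime := ⟨hp⟩
  by_contra! h1
  obtain ⟨P, hP⟩ := H5.exists_isSylowOf p L
  refine not_dvd_rel hP (fun g hg => ?_) (e ▸ hm)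
  have h2 := PE.of_mem hP.isPGroup hg
  rcases h g (hP.le hg) h2 with h3 | h3
  · exact hZ ⟨hP.le hg, cen_iff_le.mpr h3⟩
  have h4 : X ≤ Cen1 g := fun a ha => c1_symm (h1 a ha (hP.le hg))
  exact hX.le (mem_syl hp (syl_card hp hX (le_inf (hX.le.trans hU) h4) (card_eq_of_rel inf_le_left
    hU (by rw [rel_inf, h3, e]))) ⟨hP.le hg, self_mem g⟩ h2 h4)

theorem ep_aux (hp : p.Prime) (hm : p ∣ m) (h : ∀ g ∈ L, PE p g → CS L m g) (hU : U ≤ L)
    (hZ : L ⊓ Cen L ≤ U) (e : U.relIndex L = m) (hc : ∀ g ∈ U, PE p g → U ≤ Cen1 g) :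
    ∃ X : Subgroup G, IsPGroup p X ∧ IsMulCommutative X ∧ L ⊓ Nor U ≤ Nor X ∧ U = L ⊓ Nor U ⊓ Cen X ∧
      (∀ w ∈ X, L ⊓ Nor U ≤ Cen1 w ∨ L ⊓ Nor U ⊓ Cen1 w ≤ U) ∧ p ∣ U.relIndex (L ⊓ Nor U) := by
  have : Fact p.Prime := ⟨hp⟩
  obtain ⟨X, hX⟩ := H5.exists_isSylowOf p U
  have h1 : ∀ a ∈ X, U ≤ Cen1 a := fun a ha => hc a (hX.le ha) (PE.of_mem hX.isPGroup ha)
  have h2 : U ≤ Cen X := le_centralizer_iff.mp fun a ha => cen_iff_le.mpr (h1 a ha)
  have h3 : ∀ w ∈ X, ¬ L ≤ Cen1 w → L ⊓ Cen1 w = U := fun w hw h3 =>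
    (h w (hU (hX.le hw)) (PE.of_mem hX.isPGroup hw)).eq h3 hU (h1 w hw) e
  obtain ⟨x, hx, h4⟩ := exists_noncen hp hm h hU hZ e hX
  have h5 : L ⊓ Cen X = U := le_antisymm (h3 x hx h4 ▸ inf_le_inf_left _ fun a ha =>
    c1_symm (cen_iff_le.mp ha hx)) (le_inf hU h2)
  have h6 : U ≤ L ⊓ Nor U := le_inf hU le_normalizer
  refine ⟨X, hX.isPGroup, H5.isMulCommutative_of_forall fun a ha b hb =>
    cen_iff.mp (h2 (hX.le ha)) b hb, inf_le_right.trans ((hall_singleton.mpr hX).nor_le_nor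
      (h2.trans (centralizer_le_normalizer _))), le_antisymm (le_inf h6 h2)
      (h5 ▸ inf_le_inf_right _ inf_le_left), fun w hw => ?_, by_contra fun h7 => ?_⟩
  · by_cases h7 : L ≤ Cen1 w
    · exact Or.inl (inf_le_left.trans h7)
    · exact Or.inr (h3 w hw h7 ▸ inf_le_inf_right _ inf_le_left)
  · have h8 : IsSylowOf p X (L ⊓ Nor U) := syl_up hp (C := U) (by rwa [inf_eq_right.mpr h6]) h7
    refine not_dvd_rel (h8.of_le (le_inf (hX.le.trans hU) le_normalizer) (le_inf inf_le_left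
      ?_)).of_normalizer hX.le (e ▸ hm)
    rw [← h5]
    exact H5.le_normalizer_inf (H5.le_normalizer_of_le inf_le_left)
      (H5.le_normalizer_centralizer inf_le_right)

theorem ep (hp : p.Prime) (hr : r.Prime) (hne : p ≠ r) (hm : p ∣ m) (hm' : r ∣ m)
    (h : ∀ g ∈ L, PE p g → CS L m g) (h' : ∀ g ∈ L, PE r g → CS L m g) (hU : U ≤ L)
    (hZ : L ⊓ Cen L ≤ U) (e : U.relIndex L = m) (hc : ∀ g ∈ U, PE p g → U ≤ Cen1 g)
    (hc' : ∀ g ∈ U, PE r g → U ≤ Cen1 g) : False := by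
  obtain ⟨X, a1, a2, a3, a4, a5, a6⟩ := ep_aux hp hm h hU hZ e hc
  obtain ⟨Y, b1, b2, b3, b4, b5, b6⟩ := ep_aux hr hm' h' hU hZ e hc'
  refine fin2 (C := U) hp hr hne a1 b1 a2 b2 a3 b3 (a4.le.trans inf_le_right)
    (b4.le.trans inf_le_right) a4.ge b4.ge (fun w hw h1 => (a5 w hw).resolve_right fun e =>
      h1 (a6.trans (rel_inf _ (Cen1 w) ▸ relIndex_dvd_of_le_left _ e)))
    (fun w hw h1 => (b5 w hw).resolve_right fun e =>
      h1 (b6.trans (rel_inf _ (Cen1 w) ▸ relIndex_dvd_of_le_left _ e))) ?_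
  by_cases h2 : 2 ∣ U.relIndex (L ⊓ Nor U)
  · by_cases h3 : r = 2
    · exact ext_of_even hp (h3 ▸ hne) a1 a2 a3 a4 a5 h2
    · exact ext_of_even hr h3 b1 b2 b3 b4 b5 h2
  · exact ext_of_solv (le_inf hU le_normalizer) inf_le_right (fun e => hp.one_lt.ne'
      (Nat.dvd_one.mp (relIndex_eq_one.mpr e ▸ a6))) (Or.inr (Nat.odd_iff.mpr (by omega)))

theorem fit_le (h : ∀ q : ℕ, q.Prime → pCoreIn q L ≤ V) : fittingIn L ≤ V :=
  le_of_forall_primePow fun q hq x hx ⟨k, hk⟩ => by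
    have : Fact q.Prime := ⟨hq⟩
    exact h q hq ((SN.of_normal (fittingIn_le L) (le_normalizer_fittingIn L)).pCoreIn_le
      (mem_pCoreIn_of_isNilpotent (isNilpotent_fittingIn L) hx hk))

end I4
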