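import Cfsg.Agent.I4.A
import Cfsg.Agent.GW.L6

/-! A class of elements with a single non-maximal centralizer order. -/

set_option autoImplicit false
set_option linter.unusedSectionVars false
set_option linter.unusedVariables false

namespace I4

open Cfsg Subgroup FT H4 BS IT
open H5 (IsSylowOf)
open scoped commutatorElement

universe u

variable {G : Type u} [Group G] [Finite G] {L H U V X Y N E P S C : Subgroup G} {g x y z w t : G}
  {p r l m γ : ℕ} {K : G → Prop}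

/-- a class of elements, closed under commuting, with at most one non-maximal type -/
structure One (K : G → Prop) (γ : ℕ) : Prop where
  comm : ∀ x y, K x → y ≠ 1 → y ∈ Cen1 x → K y
  ty : ∀ x, K x → Mx x ∨ (Mn x ∧ ix x = γ)

/-- a `p`-element of maximal type -/
structure Loc (K : G → Prop) (γ p : ℕ) (x : G) (m : ℕ) : Prop where
  one : One K γ
  pp : p.Prime
  cx : K x
  mx : Mx x
  pe : PE p x
  hm : m * ix x = γ
  ex : ∃ U ≤ Cen1 x, Cen1 x ⊓ Cen (Cen1 x) ≤ U ∧ U.relIndex (Cen1 x) = m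

theorem zle (hg : g ∈ L) : L ⊓ Cen L ≤ L ⊓ Cen1 g :=
  inf_le_inf_left _ fun a ha => c1_symm (cen_iff_le.mp ha hg)

theorem rel_mul (hg : g ∈ Cen1 x) (ho : (orderOf x).Coprime (orderOf g)) :
    (Cen1 g).relIndex (Cen1 x) * ix x = ix (x * g) := by
  rw [ix, ix, cen1_mul hg ho, ← rel_inf, relIndex_mul_index inf_le_left]

theorem One.cs (h : One K γ) (h1 : K x) (h2 : Mx x) (hg : g ∈ Cen1 x)
    (ho : (orderOf x).Coprime (orderOf g)) (hn : ¬ Cen1 x ≤ Cen1 g) :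
    Mn (x * g) ∧ ix (x * g) = γ :=
  (h.ty _ (h.comm x _ h1 (mul_ne_one h2.1 hg ho) (mul_mem (self_mem x) hg))).resolve_left fun e =>
    hn ((e.eq h2.1 ((cen1_mul hg ho).le.trans inf_le_left)).le.trans
      ((cen1_mul hg ho).le.trans inf_le_right))

theorem One.loc (h : One K γ) (hp : p.Prime) (h1 : K x) (h2 : Mx x) (h3 : PE p x) (hg : g ∈ Cen1 x)
    (ho : (orderOf g).Coprime p) (hn : ¬ Cen1 x ≤ Cen1 g) :
    Loc K γ p x ((Cen1 g).relIndex (Cen1 x)) :=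
  ⟨h, hp, h1, h2, h3, (rel_mul hg (h3.coprime ho)).trans (h.cs h1 h2 hg (h3.coprime ho) hn).2,
    _, inf_le_left, zle hg, rel_inf _ _⟩

/-- the normal closure of `g` in `L` -/
def ncl (L : Subgroup G) (g : G) : Subgroup G := closure {y | ∃ k ∈ L, y = k * g * k⁻¹}

theorem ncl_le (hn : L ≤ Nor V) (hg : g ∈ V) : ncl L g ≤ V := (closure_le _).mpr (by
  rintro _ ⟨k, hk, rfl⟩; exact H5.conj_mem_of_le_normalizer hn hk hg)

theorem mem_cen_ncl : x ∈ Cen (ncl L g) ↔ ∀ k ∈ L, k⁻¹ * x * k ∈ Cen1 g := by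
  rw [cen_iff_le, ncl, closure_le]
  refine ⟨fun h k hk => ?_, ?_⟩
  · exact mem_conjS.mp (conjS_cen1 k g ▸ c1_symm (h ⟨k, hk, rfl⟩))
  · rintro h _ ⟨k, hk, rfl⟩
    exact c1_symm (conjS_cen1 k g ▸ mem_conjS.mpr (h k hk))

theorem nor_ncl : L ≤ Nor (ncl L g) := fun n hn => mem_normalizer_of_conjS_le (by
  rw [ncl, conjS, MonoidHom.map_closure]
  refine closure_mono ?_
  rintro _ ⟨_, ⟨k, hk, rfl⟩, rfl⟩
  exact ⟨n * k, mul_mem hn hk, by simp [mul_assoc]⟩)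

theorem exists_other (hp : p.Prime) (hm : m ≠ 0) (h : ¬ ∃ k, m = p ^ k) :
    ∃ r : ℕ, r.Prime ∧ r ≠ p ∧ r ∣ m := by
  by_contra! h1
  exact h ⟨_, Nat.eq_prime_pow_of_unique_prime_dvd hm fun hq h2 => by_contra fun e => h1 _ hq e h2⟩

theorem dvd_two_pow {n : ℕ} (hn : n ≠ 0) (h : ∀ q : ℕ, q.Prime → q ∣ n → q = p ∨ q = r) :
    n ∣ p ^ n * r ^ n := (Nat.dvd_iff_prime_pow_dvd_dvd _ _).mpr fun q k hq hk => by
  rcases k with _ | k
  · simp
  have h1 : k + 1 ≤ n := (Nat.lt_pow_self hq.one_lt).le.trans (Nat.le_of_dvd (Nat.pos_of_ne_zero hn) hk)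
  rcases h q hq ((dvd_pow_self q k.succ_ne_zero).trans hk) with rfl | rfl
  · exact (pow_dvd_pow _ h1).mul_right _
  · exact (pow_dvd_pow _ h1).mul_left _

namespace Loc
variable (h : Loc K γ p x m)
include h

theorem dvd : m ∣ Nat.card (Cen1 x) := by
  obtain ⟨U, -, -, e⟩ := h.ex
  exact e ▸ relIndex_dvd_card _ _

theorem ne_zero : m ≠ 0 := ne_zero_of_dvd_ne_zero Nat.card_pos.ne' h.dvd

theorem cs (hg : g ∈ Cen1 x) (ho : (orderOf g).Coprime p) : CS (Cen1 x) m g := by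
  refine or_iff_not_imp_left.mpr fun hn => Nat.eq_of_mul_eq_mul_right (ix_pos x) ?_
  rw [h.hm, (h.one.loc h.pp h.cx h.mx h.pe hg ho hn).hm]

theorem cs' (hr : r.Prime) (hne : r ≠ p) (hg : g ∈ Cen1 x) (ho : PE r g) : CS (Cen1 x) m g :=
  h.cs hg (ho.coprime ((Nat.coprime_primes h.pp hr).mpr hne.symm))

theorem swap (hr : r.Prime) (h1 : z ≠ 1) (h2 : PE r z) (e : Cen1 z = Cen1 x) : Loc K γ r z m :=
  ⟨h.one, hr, h.one.comm x z h.cx h1 (e ▸ self_mem z), h.mx.congr h1 (congrArg index e), h2,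
    by rw [ix, e]; exact h.hm, e ▸ h.ex⟩

theorem exists_z (hr : r.Prime) (hne : r ≠ p) (hm : r ∣ m) :
    ∃ z, orderOf z = r ∧ Cen1 z = Cen1 x := by
  have : Fact r.Prime := ⟨hr⟩
  obtain ⟨R, hR⟩ := H5.exists_isSylowOf r (Cen1 x)
  obtain ⟨z, hz, h1, h2⟩ := exists_cen hr hR.isPGroup (hR.ne_bot (hm.trans h.dvd))
  exact ⟨z, h1, h.mx.eq (ne_one_of_orderOf hr h1) ((h.cs' hr hne (hR.le hz)
    (PE.of_orderOf h1)).cen hm (not_dvd_rel hR h2))⟩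

theorem full (hr : r.Prime) (hne : r ≠ p) (hm : r ∣ m) (hm' : p ∣ m) :
    ∃ S, IsSylowOf p S ⊤ ∧ ∀ z ∈ S, z ≠ 1 → S ≤ Cen1 z → Cen1 z = Cen1 x := by
  have : Fact p.Prime := ⟨h.pp⟩
  obtain ⟨y, h1, h2⟩ := h.exists_z hr hne hm
  have h3 := h.swap hr (ne_one_of_orderOf hr h1) (PE.of_orderOf h1) h2
  obtain ⟨P, hP⟩ := H5.exists_isSylowOf p (Cen1 x)
  obtain ⟨S, hS, h4⟩ := H5.exists_isSylowOf_ge hP.isPGroup le_top
  refine ⟨S, hS, fun z hz h5 h6 => h.mx.eq h5 ?_⟩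
  have h7 := h3.cs' h.pp hne.symm (g := z) (h2 ▸ c1_symm (h6 (h4 (mem_syl h.pp hP (self_mem x) h.pe
    hP.le)))) (PE.of_mem hS.isPGroup hz)
  rw [h2] at h7
  exact h7.cen hm' (not_dvd_rel hP (h4.trans h6))

theorem conj {m' r' : ℕ} (h' : Loc K γ p y m') (hr : r.Prime) (hne : r ≠ p) (hm : r ∣ m)
    (hm' : p ∣ m) (hr' : r'.Prime) (hne' : r' ≠ p) (h1 : r' ∣ m') (h2 : p ∣ m') :
    ∃ k, conjS k (Cen1 x) = Cen1 y := by
  have : Fact p.Prime := ⟨h.pp⟩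
  obtain ⟨S, hS, h3⟩ := h.full hr hne hm hm'
  obtain ⟨T, hT, h4⟩ := h'.full hr' hne' h1 h2
  obtain ⟨k, -, e⟩ := hS.exists_conj hT
  obtain ⟨z, hz, h5, h6⟩ := exists_cen h.pp hS.isPGroup (hS.ne_bot (by
    rw [card_top]; exact (hm'.trans h.dvd).trans (card_subgroup_dvd_card _)))
  have h7 := ne_one_of_orderOf h.pp h5
  refine ⟨k, ?_⟩
  rw [← h3 z hz h7 h6, conjS_cen1]
  exact h4 _ (e ▸ conj_mem_conjS hz) (conj_ne_one h7) (e ▸ conjS_cen1 k z ▸ conjS_mono k h6)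

theorem pow (hk : ∃ k, m = p ^ k) (g : G) (hg : g ∈ Cen1 x) (ho : (orderOf g).Coprime p) :
    ∃ k, (Cen1 g).relIndex (Cen1 x) ∣ p ^ k := by
  obtain ⟨k, hk⟩ := hk
  rcases h.cs hg ho with e | e
  · exact ⟨0, by rw [relIndex_eq_one.mpr e, pow_zero]⟩
  · exact ⟨k, by rw [e, hk]⟩

theorem pn (hm : ¬ p ∣ m) (hg : g ∈ Cen1 x) (ho : (orderOf g).Coprime p) (hy : y ∈ Cen1 x)
    (h1 : PE p y) : y ∈ Cen1 g := I4.pn h.pp (fun g hg ho => by
  rcases h.cs hg ho with e | e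
  · rw [relIndex_eq_one.mpr e]; exact h.pp.not_dvd_one
  · rwa [e]) hg ho hy h1

theorem half (h' : Loc K γ r z m) (hne : r ≠ p) (e : Cen1 z = Cen1 x) (hm : r ∣ m) (hm' : p ∣ m)
    (hg : g ∈ Cen1 x) (h1 : PE p g) (hn : ¬ Cen1 x ≤ Cen1 g) :
    (∃ y ∈ Cen1 x, PE r y ∧ Cen1 x ⊓ Cen1 y = Cen1 x ⊓ Cen1 g) ∨
      ∀ R ≤ Cen1 g, IsPGroup r R → IsMulCommutative R := by
  have : Fact p.Prime := ⟨h.pp⟩
  have : Fact r.Prime := ⟨h'.pp⟩
  have g1 : g ≠ 1 := fun e => hn (by rw [e]; exact fun a _ => c1_iff.mpr (by simp))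
  have kg := h.one.comm x g h.cx g1 hg
  have h2 : (Cen1 x ⊓ Cen1 g).relIndex (Cen1 x) = m := by
    have := (h'.cs' h.pp hne.symm (e ▸ hg) h1)
    rw [e] at this
    rw [rel_inf, this.resolve_left hn]
  rcases h.one.ty g kg with h3 | ⟨h3, h4⟩
  swap
  · obtain ⟨R, hR⟩ := H5.exists_isSylowOf r (Cen1 x ⊓ Cen1 g)
    obtain ⟨y, hy, h5⟩ := exists_noncen h'.pp hm (fun a ha h1 => h.cs' h'.pp hne ha h1) inf_le_left
      (zle hg) h2 hR
    have h6 := PE.of_mem hR.isPGroup hy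
    exact Or.inl ⟨y, (hR.le hy).1, h6, (h.cs' h'.pp hne (hR.le hy).1 h6).eq h5 inf_le_left
      (inf_le_right.trans (h3.le (hR.le hy).2 (h1.coprime' h6 h.pp h'.pp hne.symm))) h2⟩
  have h4 : ¬ Cen1 g ≤ Cen1 x := fun e => hn (h3.eq h.mx.1 e).le
  have hz : z ∈ Cen1 g := c1_symm (e ▸ hg)
  have oz : (orderOf z).Coprime p := h'.pe.coprime ((Nat.coprime_primes h.pp h'.pp).mpr hne.symm)
  have h5 := h.one.loc h.pp kg h3 h1 hz oz (e ▸ h4)
  by_cases h6 : p ∣ (Cen1 z).relIndex (Cen1 g)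
  swap
  · exact absurd (le_of_forall_p_p' p (fun a ha h7 => e ▸ h5.pn h6 hz oz ha h7)
      fun a ha h7 => c1_symm (h5.pn h6 ha h7 (c1_symm hg) h.pe)) h4
  by_cases h7 : ∃ k, (Cen1 z).relIndex (Cen1 g) = p ^ k
  · exact Or.inr fun R h8 h9 => comm_of_pow h.pp (h5.pow h7) h8 (coprime_card_of_pGroup hne h9)
  obtain ⟨r', a1, a2, a3⟩ := exists_other h.pp (relIndex_ne_zero_of_finite _ _) h7
  obtain ⟨k, hk⟩ := h.conj h5 h'.pp hne hm hm' a1 a2 a3 h6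
  rw [← e, conjS_cen1] at hk
  exact Or.inl ⟨_, c1_symm (hk ▸ c1_symm hg), h'.pe.conj k, by rw [hk]⟩

theorem pair (h' : Loc K γ r z m) (hne : r ≠ p) (e : Cen1 z = Cen1 x) (hm : r ∣ m) (hm' : p ∣ m)
    (hc : ∀ l : ℕ, l.Prime → l ≠ p → l ≠ r → ∀ g ∈ Cen1 x, PE l g → Cen1 x ≤ Cen1 g) :
    ∃ g ∈ Cen1 x, ∃ y ∈ Cen1 x, PE p g ∧ PE r y ∧ ¬ Cen1 x ≤ Cen1 g ∧
      Cen1 x ⊓ Cen1 y = Cen1 x ⊓ Cen1 g := by
  have : Fact p.Prime := ⟨h.pp⟩
  have : Fact r.Prime := ⟨h'.pp⟩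
  have cp : ∀ g ∈ Cen1 x, PE p g → CS (Cen1 x) m g := fun g hg h1 =>
    e ▸ h'.cs' h.pp hne.symm (e ▸ hg) h1
  have cr : ∀ g ∈ Cen1 x, PE r g → CS (Cen1 x) m g := fun g hg h1 => h.cs' h'.pp hne hg h1
  obtain ⟨g, hg, h1, h2⟩ : ∃ g ∈ Cen1 x, PE p g ∧ ¬ Cen1 x ≤ Cen1 g := by
    obtain ⟨U, a1, a2, a3⟩ := h.ex
    obtain ⟨P, hP⟩ := H5.exists_isSylowOf p U
    obtain ⟨g, hg, a4⟩ := exists_noncen h.pp hm' cp a1 a2 a3 hP
    exact ⟨g, a1 (hP.le hg), PE.of_mem hP.isPGroup hg, a4⟩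
  have h3 : (Cen1 x ⊓ Cen1 g).relIndex (Cen1 x) = m := by
    rw [rel_inf, (cp g hg h1).resolve_left h2]
  rcases h.half h' hne e hm hm' hg h1 h2 with ⟨y, a1, a2, a3⟩ | h4
  · exact ⟨g, hg, y, a1, h1, a2, h2, a3⟩
  obtain ⟨R, hR⟩ := H5.exists_isSylowOf r (Cen1 x ⊓ Cen1 g)
  obtain ⟨y, hy, h5⟩ := exists_noncen h'.pp hm cr inf_le_left (zle hg) h3 hR
  have h6 := PE.of_mem hR.isPGroup hy
  have h7 := (hR.le hy).1
  rcases h'.half h hne.symm e.symm hm' hm (e ▸ h7) h6 (e ▸ h5) with ⟨y', a1, a2, a3⟩ | h8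
  · rw [e] at a1 a3
    exact ⟨y', a1, y, h7, a2, h6, fun e => h5 (inf_eq_left.mpr e ▸ a3 ▸ inf_le_right), a3.symm⟩
  have h9 : (Cen1 x ⊓ Cen1 y).relIndex (Cen1 x) = m := by
    rw [rel_inf, (cr y h7 h6).resolve_left h5]
  refine ⟨g, hg, y, h7, h1, h6, h2, eq_of_rel (H5.le_of_forall_sylow fun q hq _ => ?_) inf_le_left
    (h9.trans h3.symm)⟩
  by_cases e1 : q = p
  · subst e1
    obtain ⟨Q, hQ, h10⟩ := H5.exists_isSylowOf_ge h1.isPGroup (K := Cen1 x ⊓ Cen1 y)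
      (zpowers_le.mpr ⟨hg, c1_symm (hR.le hy).2⟩)
    exact ⟨Q, hQ, le_inf (hQ.le.trans inf_le_left) (le_of_comm
      (h8 Q (hQ.le.trans inf_le_right) hQ.isPGroup) (h10 (mem_zpowers g)))⟩
  by_cases e2 : q = r
  · subst e2
    exact ⟨R, syl_card h'.pp hR (le_inf (hR.le.trans inf_le_left) (le_of_comm
      (h4 R (hR.le.trans inf_le_right) hR.isPGroup) hy)) (card_eq_of_rel inf_le_left inf_le_left
        (h9.trans h3.symm)), hR.le⟩
  obtain ⟨Q, hQ⟩ := H5.exists_isSylowOf q (Cen1 x ⊓ Cen1 y)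
  exact ⟨Q, hQ, fun a ha => ⟨(hQ.le ha).1, c1_symm (hc q hq.out e1 e2 a (hQ.le ha).1
    (PE.of_mem hQ.isPGroup ha) hg)⟩⟩

theorem pow_of_dvd (hm : p ∣ m) : ∃ k, m = p ^ k := by
  by_contra h0
  obtain ⟨r, hr, hne, hm'⟩ := exists_other h.pp h.ne_zero h0
  obtain ⟨z, oz, e⟩ := h.exists_z hr hne hm'
  have h' := h.swap hr (ne_one_of_orderOf hr oz) (PE.of_orderOf oz) e
  have : Fact p.Prime := ⟨h.pp⟩
  have : Fact r.Prime := ⟨hr⟩
  have cp : ∀ g ∈ Cen1 x, PE p g → CS (Cen1 x) m g := fun g hg h1 =>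
    e ▸ h'.cs' h.pp hne.symm (e ▸ hg) h1
  have cr : ∀ g ∈ Cen1 x, PE r g → CS (Cen1 x) m g := fun g hg h1 => h.cs' hr hne hg h1
  have hc : ∀ l : ℕ, l.Prime → l ≠ p → l ≠ r → ∀ g ∈ Cen1 x, PE l g → Cen1 x ≤ Cen1 g := by
    intro l hl l1 l2 g hg h1
    by_contra hn
    have key : ∀ {p r x}, Loc K γ p x m → r.Prime → l ≠ p → l ≠ r → r ≠ p → g ∈ Cen1 x →
        ¬ Cen1 x ≤ Cen1 g → ∀ a ∈ Cen1 x ⊓ Cen1 g, PE r a → Cen1 x ⊓ Cen1 g ≤ Cen1 a := by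
      intro p r x h hr l1 l2 hne hg hn a ha h2
      have o := h.pe.coprime' h1 h.pp hl l1.symm
      rw [← cen1_mul hg o] at ha ⊢
      exact (h.one.cs h.cx h.mx hg o hn).1.le ha (Nat.Coprime.coprime_dvd_left
        (Commute.orderOf_mul_dvd_mul_orderOf (c1_iff.mp hg).symm) (Nat.Coprime.mul_left
          (h.pe.coprime' h2 h.pp hr hne.symm) (h1.coprime' h2 hl hr l2)))
    exact ep h.pp hr hne.symm hm hm' cp cr inf_le_left (zle hg) (by
      rw [rel_inf, (h.cs' hl l1 hg h1).resolve_left hn])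
      (e ▸ key h' h.pp l2 l1 hne.symm (e ▸ hg) (e ▸ hn)) (key h hr l1 l2 hne hg hn)
  obtain ⟨g, hg, y, hy, h1, h2, h3, h4⟩ := h.pair h' hne e hm' hm hc
  set L := Cen1 x
  have hs : Group.IsSolvable L := by
    obtain ⟨Q, _, _, f, hf, hk⟩ := H5.exists_hom_ker_eq (L := L) (M := L ⊓ Cen L)
      (H5.le_normalizer_inf le_normalizer (H5.le_normalizer_centralizer le_normalizer))
    refine H5.isSolvable_of_im hk le_rfl (H8.isSolvable_of_card_dvd_prime_pow_mul h.pp hr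
      (Nat.card (H5.im f L)) (Nat.card (H5.im f L)) _ _ rfl ?_) (H5.isSolvable_of_isMulCommutative
        (H5.isMulCommutative_of_forall fun a ha b hb => cen_iff.mp ha.2.2 b hb.1))
    refine dvd_two_pow Nat.card_pos.ne' fun q hq h5 => by_contra fun h6 => ?_
    push Not at h6
    have : Fact q.Prime := ⟨hq⟩
    obtain ⟨R, hR⟩ := H5.exists_isSylowOf q L
    exact (hR.im (f := f) le_rfl).ne_bot h5 ((H5.im_eq_bot_iff hk hR.le).mpr fun a ha =>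
      ⟨hR.le ha, cen_iff_le.mpr (hc q hq h6.1 h6.2 a (hR.le ha) (PE.of_mem hR.isPGroup ha))⟩)
  have ab : ∀ {p r : ℕ} {g y : G}, p.Prime → r.Prime → r ≠ p → g ∈ L → y ∈ L → PE p g → PE r y →
      L ⊓ Cen1 y = L ⊓ Cen1 g → pCoreIn r L ≤ L ⊓ Cen1 g := by
    intro p r g y hp hr hne hg hy h1 h2 h4
    have : Fact r.Prime := ⟨hr⟩
    refine le_inf (pCoreIn_le r L) ((H5.le_centralizer_of_A_times_B (Q := zpowers g) h2.isPGroup
      ?_ ?_ _ (isPGroup_pCoreIn r L) ((zpowers_le.mpr hy).trans (le_normalizer_pCoreIn r L))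
      ((zpowers_le.mpr hg).trans (le_normalizer_pCoreIn r L)) ?_).trans
        (centralizer_zpowers g).le)
    · rw [Nat.card_zpowers]
      exact hr.coprime_iff_not_dvd.mp (h1.coprime ((Nat.coprime_primes hr hp).mpr hne)).symm
    · rw [centralizer_zpowers, zpowers_le]; exact (h4.ge ⟨hg, self_mem g⟩).2
    · rw [centralizer_zpowers, centralizer_zpowers]
      exact (inf_le_inf_right _ (pCoreIn_le r L)).trans (h4.le.trans inf_le_right)
  have hF : fittingIn L ≤ L ⊓ Cen1 g := fit_le fun q hq => by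
    by_cases e1 : q = p
    · exact e1 ▸ h4 ▸ ab hr h.pp hne.symm hy hg h2 h1 h4.symm
    by_cases e2 : q = r
    · exact e2 ▸ ab h.pp hr hne hg hy h1 h2 h4
    exact fun a ha => ⟨pCoreIn_le q L ha, c1_symm (hc q hq e1 e2 a (pCoreIn_le q L ha)
      (PE.of_mem (isPGroup_pCoreIn q L) ha) hg)⟩
  have nc : ∀ {p : ℕ} {g : G}, p.Prime → g ∈ L → PE p g → fittingIn L ≤ Cen1 g →
      IsPGroup p (ncl L g) ∧ IsMulCommutative (ncl L g) ∧ ncl L g ≤ L := by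
    intro p g hp hg ⟨k, hk⟩ h2
    have : Fact p.Prime := ⟨hp⟩
    have h3 : ncl L g ≤ pCoreIn p L ⊓ Cen (fittingIn L) := ncl_le (H5.le_normalizer_inf
      (le_normalizer_pCoreIn p L) (H5.le_normalizer_centralizer (le_normalizer_fittingIn L)))
      ⟨(SN.of_normal (fittingIn_le L) (le_normalizer_fittingIn L)).pCoreIn_le
        (mem_pCoreIn_of_isNilpotent (isNilpotent_fittingIn L) (inf_centralizer_fittingIn_le hs
          ⟨hg, cen_iff_le.mpr h2⟩) hk), cen_iff_le.mpr h2⟩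
    exact ⟨(isPGroup_pCoreIn p L).to_le (h3.trans inf_le_left), H5.isMulCommutative_of_forall
      fun a ha b hb => cen_iff.mp (h3 ha).2 b (pCoreIn_le_fittingIn p L (h3 hb).1),
      h3.trans (inf_le_left.trans (pCoreIn_le p L))⟩
  obtain ⟨a1, a2, a3⟩ := nc h.pp hg h1 (hF.trans inf_le_right)
  obtain ⟨b1, b2, b3⟩ := nc hr hy h2 (hF.trans (h4.ge.trans inf_le_right))
  have h5 : L ⊓ Cen (ncl L g) = L ⊓ Cen (ncl L y) := by
    ext a
    refine and_congr_right fun ha => mem_cen_ncl.trans (Iff.trans (forall₂_congr fun k hk => ?_)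
      mem_cen_ncl.symm)
    have h6 : k⁻¹ * a * k ∈ L := mul_mem (mul_mem (inv_mem hk) ha) hk
    exact ⟨fun e => (h4.ge ⟨h6, e⟩).2, fun e => (h4.le ⟨h6, e⟩).2⟩
  exact fin2 (N := L) (C := L ⊓ Cen (ncl L g)) h.pp hr hne.symm a1 b1 a2 b2 nor_ncl nor_ncl
    inf_le_right (h5.le.trans inf_le_right) le_rfl h5.ge
    (fun w hw => (cp w (a3 hw) (PE.of_mem a1 hw)).cen hm)
    (fun w hw => (cr w (b3 hw) (PE.of_mem b1 hw)).cen hm') (ext_of_solv inf_le_left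
      (H5.le_normalizer_inf le_normalizer (H5.le_normalizer_centralizer nor_ncl))
      (fun e => h3 fun a ha => by simpa using mem_cen_ncl.mp (e ha).2 1 (one_mem _)) (Or.inl hs))

end Loc

/-- the `p'`-elements commute with the `p`-elements -/
def PN (p : ℕ) (L : Subgroup G) : Prop :=
  ∀ g ∈ L, (orderOf g).Coprime p → ∀ x ∈ L, PE p x → x ∈ Cen1 g

theorem One.tri (h : One K γ) (hp : p.Prime) (h1 : K z) (h2 : Mx z) (h3 : PE p z) :
    PN p (Cen1 z) ∨ ∃ k, Loc K γ p z (p ^ (k + 1)) := by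
  by_cases h4 : ∀ g ∈ Cen1 z, (orderOf g).Coprime p → ¬ p ∣ (Cen1 g).relIndex (Cen1 z)
  · exact Or.inl fun g hg ho x hx => pn hp h4 hg ho hx
  push Not at h4
  obtain ⟨g, hg, ho, h5⟩ := h4
  have h6 := h.loc hp h1 h2 h3 hg ho fun e => hp.not_dvd_one (relIndex_eq_one.mpr e ▸ h5)
  obtain ⟨k, hk⟩ := h6.pow_of_dvd h5
  rcases k with _ | k
  · exact absurd (h5.trans hk.dvd) hp.not_dvd_one
  · exact Or.inr ⟨k, hk ▸ h6⟩

theorem mn_pn (h : Mn g) (h1 : PE p g) : PN p (Cen1 g) := fun a ha ho x hx _ =>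
  h.le ha (h1.coprime ho) hx

theorem mn_cen (h : Mn g) (h1 : PE p g) : pPrimeCoreIn p (Cen1 g) ≤ Cen (Cen1 g) := fun a ha =>
  cen_iff_le.mpr (h.le (pPrimeCoreIn_le _ _ ha) (h1.coprime
    (coprime_orderOf_of_mem (coprime_card_pPrimeCoreIn _ _) ha)))

theorem npc_of_hall (hp : p.Prime) {A : Subgroup G} (h : Hall {p}ᶜ A L) (hn : L ≤ Nor A) :
    H7.NPC p L := ⟨A, h.le, hn, (piG_compl_singleton hp).mp h.pi, fun a ha => by
  obtain ⟨k, hk⟩ := H7.exists_pow_coprime hp a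
  exact ⟨k, h.mem_of_nor hn (pow_mem ha _) ((piNum_compl_singleton' hp).mpr hk)⟩⟩

theorem Loc.card (h : Loc K γ p x m) (e : ix g = γ) :
    Nat.card (Cen1 g) * m = Nat.card (Cen1 x) := Nat.eq_of_mul_eq_mul_right (ix_pos x) (by
  rw [mul_assoc, h.hm, ← e, card_mul_ix, card_mul_ix])

theorem Loc.hall {k : ℕ} (h : Loc K γ p x (p ^ k)) (h1 : Mn g) (h2 : PE p g) (e : ix g = γ)
    (hA : pPrimeCoreIn p (Cen1 g) ≤ Cen1 x) : Hall {p}ᶜ (pPrimeCoreIn p (Cen1 g)) (Cen1 x) := by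
  have : Fact p.Prime := ⟨h.pp⟩
  obtain ⟨j, hj⟩ := H7.relIndex_eq_pow (le_normalizer_pPrimeCoreIn p _)
    (H7.npc_iff_pPrimeCoreIn.mp (npc_of_pn h.pp (mn_pn h1 h2)))
  refine hall_of_card (n := p ^ (j + k)) hA ((piG_compl_singleton h.pp).mpr
    (coprime_card_pPrimeCoreIn _ _)) (by
      rw [compl_compl]; exact (PiNum.of_prime h.pp (Set.mem_singleton p)).pow _) ?_
  rw [← h.card e, ← H5.card_mul_relIndex (pPrimeCoreIn_le p (Cen1 g)), hj, pow_add, mul_assoc]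

theorem nor_of_hall (hp : p.Prime) {A : Subgroup G} (hs : Group.IsSolvable L) (h : Hall {p}ᶜ A L)
    (hc : IsMulCommutative A) (h1 : pCoreIn p L ≤ Cen A) : L ≤ Nor A := by
  have : Fact p.Prime := ⟨hp⟩
  have h2 : A ≤ fittingIn L := (le_inf h.le (le_centralizer_iff.mp (fit_le fun q hq => by
    by_cases e : q = p
    · exact e ▸ h1
    · have : Fact q.Prime := ⟨hq⟩
      exact (h.le_of_le_nor' (piG_of_isPGroup (isPGroup_pCoreIn q L) e) (pCoreIn_le q L)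
        (h.le.trans (le_normalizer_pCoreIn q L))).trans (comm_of hc)))).trans
    (inf_centralizer_fittingIn_le hs)
  rw [← h.eq_of_le ((piG_compl_singleton hp).mpr (coprime_card_pPrimeCoreIn p L))
    (((sn_of_isNilpotent (isNilpotent_fittingIn L) h2).trans (SN.of_normal (fittingIn_le L)
      (le_normalizer_fittingIn L))).le_pPrimeCoreIn ((piG_compl_singleton hp).mp h.pi))
    (pPrimeCoreIn_le p L)]
  exact le_normalizer_pPrimeCoreIn p L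

theorem Loc.small {k : ℕ} (h : Loc K γ p x (p ^ k)) (h1 : Mn g) (h2 : PE p g) (e : ix g = γ)
    (hg : g ∈ Cen1 x) : Hall {p}ᶜ (pPrimeCoreIn p (Cen1 g)) (Cen1 x) ∧
      Cen1 x ≤ Nor (pPrimeCoreIn p (Cen1 g)) := by
  have : Fact p.Prime := ⟨h.pp⟩
  have h3 := mn_cen h1 h2
  have h4 := h.hall h1 h2 e fun a ha => c1_symm (cen_iff_le.mp (h3 ha) (c1_symm hg))
  refine ⟨h4, nor_of_hall h.pp (solv_of_pow h.pp (h.pow ⟨k, rfl⟩)) h4
    (H5.isMulCommutative_of_forall fun a ha b hb => cen_iff.mp (h3 ha) b (pPrimeCoreIn_le _ _ hb))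
    (H5.le_centralizer_of_A_times_B h2.isPGroup (h.pp.coprime_iff_not_dvd.mp
      (coprime_card_pPrimeCoreIn _ _).symm) (h3.trans (centralizer_anti
        (zpowers_le.mpr (self_mem g)))) _ (isPGroup_pCoreIn p _) ((zpowers_le.mpr hg).trans
          (le_normalizer_pCoreIn p _)) (h4.le.trans (le_normalizer_pCoreIn p _)) ?_)⟩
  rw [centralizer_zpowers]
  exact inf_le_right.trans (le_centralizer_iff.mp h3)

theorem One.npc_or (h : One K γ) (hp : p.Prime) (h1 : K z) (h3 : PE p z) :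
    H7.NPC p (Cen1 z) ∨ ∃ k, Loc K γ p z (p ^ (k + 1)) := by
  rcases h.ty z h1 with h2 | h2
  · exact (h.tri hp h1 h2 h3).imp_left (npc_of_pn hp)
  · exact Or.inl (npc_of_pn hp (mn_pn h2.1 h3))

theorem One.solv (h : One K γ) (h1 : K z) (h3 : PE 2 z) : Group.IsSolvable (Cen1 z) := by
  rcases h.npc_or Nat.prime_two h1 h3 with h2 | ⟨k, h2⟩
  · exact GW.npc_solv h2
  · exact solv_of_pow Nat.prime_two (h2.pow ⟨_, rfl⟩)

theorem comm_of_mx (hS : IsPGroup 2 S) (h : ∀ g ∈ S, g ≠ 1 → Mx g) : IsMulCommutative S :=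
  comm_of_sq hS fun g hg h1 => ((h g hg fun e => h1 (by simp [e])).pow
    (mul_mem (mem_zpowers g) (mem_zpowers g)) h1).le

theorem One.ab (h : One K γ) (h2 : ∀ w, w ≠ 1 → PE 2 w → K w) (ht : orderOf t = 2)
    (hn : ¬ H7.NPC 2 (Cen1 t)) : ∃ S : Subgroup G, IsSylowOf 2 S ⊤ ∧ IsMulCommutative S := by
  have p2 := Nat.prime_two
  have t2 := PE.of_orderOf ht
  have tt : t * t = 1 := by rw [← pow_two, ← ht, pow_orderOf_eq_one]
  obtain ⟨k, hL⟩ := (h.npc_or p2 (h2 t (ne_one_of_orderOf p2 ht) t2) t2).resolve_left hn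
  have big : ∀ g ∈ Cen1 t, g ≠ 1 → PE 2 g → Mx g := fun g hg g1 g2 =>
    (h.ty g (h2 g g1 g2)).resolve_right fun e =>
      hn (npc_of_hall p2 (hL.small e.1 g2 e.2 hg).1 (hL.small e.1 g2 e.2 hg).2)
  obtain ⟨T, hT⟩ := H5.exists_isSylowOf 2 (Cen1 t)
  have cT := comm_of_mx hT.isPGroup fun g hg g1 => big g (hT.le hg) g1 (PE.of_mem hT.isPGroup hg)
  have tT := mem_syl p2 hT (self_mem t) t2 hT.le
  obtain ⟨S, hS, h3⟩ := H5.exists_isSylowOf_ge hT.isPGroup le_top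
  refine ⟨S, hS, by_contra fun h4 => ?_⟩
  have pe : ∀ a ∈ S, PE 2 a := fun a ha => PE.of_mem hS.isPGroup ha
  have hST : ∀ a ∈ S, a ∈ Cen1 t → a ∈ T := fun a ha h5 => (hT.eq_of_le (R := S ⊓ Cen1 t)
    (hS.isPGroup.to_le inf_le_left) (le_inf h3 hT.le) inf_le_right).le ⟨ha, h5⟩
  obtain ⟨s, s1, s2, s3, s4⟩ := H7.exists_mem_normalizer_of_lt hS.isPGroup
    (lt_of_le_of_ne h3 fun e => h4 (e ▸ cT))
  have h5 : T ⊔ zpowers s ≤ S := sup_le h3 (zpowers_le.mpr s1)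
  have h6 : ∀ a ∈ T ⊔ zpowers s, a * a ∈ T := fun a ha => by
    obtain ⟨c, hc, k, rfl⟩ := (H7.mem_sup_zpowers_nat s3).mp ha
    exact H5.mem_of_eq (mul_mem (mul_mem hc (H5.conj_mem_of_mem_normalizer (pow_mem s3 k) hc))
      (pow_mem s4 k)) (by rw [← pow_mul, mul_comm 2, pow_mul, pow_two]; group)
  obtain ⟨g, hg, g1, g2⟩ : ∃ g ∈ T ⊔ zpowers s, g ≠ 1 ∧ ¬ Mx g := by
    by_contra! e
    exact s2 (hST s s1 (le_of_comm (comm_of_mx (hS.isPGroup.to_le h5) e) (mem_sup_left tT)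
      (mem_sup_right (mem_zpowers s))))
  have gT : g ∉ Cen1 t := fun e => g2 (big g e g1 (pe g (h5 hg)))
  obtain ⟨g3, g4⟩ := (h.ty g (h2 g g1 (pe g (h5 hg)))).resolve_left g2
  obtain ⟨z, hz, oz, z1⟩ := exists_cen p2 hS.isPGroup fun e => g1 (mem_bot.mp (e ▸ h5 hg))
  have z2 := ne_one_of_orderOf p2 oz
  have z3 := big z (c1_symm (z1 (h3 tT))) z2 (pe z hz)
  have hA := mn_cen g3 (pe g (h5 hg))
  set A := pPrimeCoreIn 2 (Cen1 g)
  have oA : ∀ a ∈ A, (orderOf a).Coprime 2 := fun a ha =>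
    coprime_orderOf_of_mem (coprime_card_pPrimeCoreIn _ _) ha
  have Az : A ≤ Cen1 z := fun a ha => c1_symm (cen_iff_le.mp (hA ha) (c1_symm (z1 (h5 hg))))
  obtain ⟨n1, n2⟩ : S ≤ Nor A ∧ ∀ a ∈ S, a ≠ 1 → a ∉ Cen A → Mx a := by
    rcases h.tri p2 (h2 z z2 (pe z hz)) z3 (pe z hz) with h7 | ⟨j, h7⟩
    · have h8 : S ≤ Cen A := fun a ha => cen_iff_le.mpr fun b hb =>
        c1_symm (h7 b (Az hb) (oA b hb) a (z1 ha) (pe a ha))
      exact ⟨h8.trans (centralizer_le_normalizer _), fun a ha _ e => absurd (h8 ha) e⟩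
    · have h8 := h7.small g3 (pe g (h5 hg)) g4 (z1 (h5 hg))
      refine ⟨z1.trans h8.2, fun a ha a1 a2 => (h.ty a (h2 a a1 (pe a ha))).resolve_right
        fun e => a2 ?_⟩
      have h9 := h7.small e.1 (pe a ha) e.2 (z1 ha)
      exact le_centralizer_iff.mp ((h9.1.le_of_le_nor h8.1.pi Az (Az.trans h9.2)).trans
        (mn_cen e.1 (pe a ha))) (self_mem a)
  have gA : g ∈ Cen A := le_centralizer_iff.mp hA (self_mem g)
  have tA : t ∉ Cen A := fun e => by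
    have h7 := hL.hall g3 (pe g (h5 hg)) g4 (cen_iff_le.mp e)
    refine hn (npc_of_hall p2 h7 ?_)
    rw [← (hall_singleton.mpr hT).sup_eq h7]
    exact sup_le (h3.trans n1) le_normalizer
  have key : ∀ u ∈ T, u ∉ Cen A → g * u * (g * u) = 1 := fun u hu h7 => by
    by_contra e
    have h8 := mul_mem hg (mem_sup_left hu)
    have h9 := (n2 _ (h5 h8) (fun e' => e (by simp [e']))
      fun e' => h7 ((mul_mem_cancel_left gA).mp e')).pow
        (mul_mem (mem_zpowers _) (mem_zpowers _)) e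
    exact gT ((mul_mem_cancel_right (hT.le hu)).mp (c1_symm (h9 ▸ le_of_comm cT (h6 _ h8) tT)))
  have h7 : (Cen A).relIndex T ≤ 2 := by
    refine (relIndex_eq_two_iff.mpr ⟨t, tT, fun u hu => ?_⟩).le
    by_cases e : u ∈ Cen A
    · exact Or.inr ⟨e, fun e' => tA ((mul_mem_cancel_left e).mp e')⟩
    refine Or.inl ⟨by_contra fun e' => gT ((mul_mem_cancel_right (hT.le hu)).mp (c1_iff.mpr ?_)), e⟩
    have e1 := key _ (mul_mem hu tT) e'
    rw [← mul_assoc g] at e1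
    rw [← inv_eq_self_of_sq e1, mul_inv_rev, inv_eq_self_of_sq tt, inv_eq_self_of_sq (key u hu e)]
  obtain ⟨w, hw, w1⟩ := SetLike.not_le_iff_exists.mp fun e => tA (cen_iff_le.mpr e)
  have o := (pe z hz).coprime (oA w hw)
  have h8 := hL.card (h.cs (h2 z z2 (pe z hz)) z3 (Az hw) o fun e => w1 (c1_symm (e (z1 (h3 tT))))).2
  have h9 : Nat.card (S ⊓ Cen A : Subgroup G) * 2 ∣ Nat.card T :=
    (hall_singleton.mpr hT).dvd_card (h8 ▸ mul_dvd_mul (card_dvd_of_le (by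
      rw [cen1_mul (Az hw) o]
      exact inf_le_inf z1 fun a ha => c1_symm (cen_iff_le.mp ha hw))) (dvd_pow_self 2 k.succ_ne_zero))
      ((piG_singleton.mpr (hS.isPGroup.to_le inf_le_left)).mul (PiNum.of_prime p2 rfl))
  have h10 : Cen A ⊓ T ≤ S ⊓ Cen A := le_inf (inf_le_right.trans h3) inf_le_left
  have h11 := H5.card_lt_of_lt (lt_of_le_of_ne h10 fun e => gT (hT.le (e.ge ⟨h5 hg, gA⟩).2))
  have h12 := H5.card_inf_mul_relIndex (Cen A) T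
  have h13 := Nat.le_of_dvd Nat.card_pos h9
  nlinarith

end I4
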