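import Cfsg.Agent.I4.B
import Cfsg.Agent.H5.FrobKernel

/-! A subgroup acting regularly on a conjugacy class of a simple group. -/

set_option autoImplicit false
set_option linter.unusedSectionVars false
set_option linter.unusedVariables false

namespace I4

open Cfsg FT H4 BS IT
open Subgroup hiding one
open H5 (IsSylowOf)
open scoped Classical commutatorElement

universe u

section
variable {G : Type u} [Group G] [Finite G] [hs : IsSimpleGroup G] (hG : ¬ IsMulCommutative G)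
  {x : G} (hx : x ≠ 1)
  (h2 : ∀ a b, IsConj x a → IsConj x b → a ≠ x → b ≠ x → ∃ h ∈ Cen1 x, h * a * h⁻¹ = b)

theorem isConj_conj {G : Type*} [Group G] {x a : G} (h : IsConj x a) (g : G) :
    IsConj x (g * a * g⁻¹) := h.trans (isConj_iff.mpr ⟨g, rfl⟩)

include h2 in
theorem two_at {c a b : G} (hc : IsConj x c) (ha : IsConj x a) (hb : IsConj x b) (h1 : a ≠ c)
    (h3 : b ≠ c) : ∃ h ∈ Cen1 c, h * a * h⁻¹ = b := by
  obtain ⟨g, rfl⟩ := isConj_iff.mp hc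
  obtain ⟨h, hh, e⟩ := h2 (g⁻¹ * a * g⁻¹⁻¹) (g⁻¹ * b * g⁻¹⁻¹) (isConj_conj ha _) (isConj_conj hb _)
    (fun e => h1 (by rw [← e]; group)) fun e => h3 (by rw [← e]; group)
  refine ⟨g * h * g⁻¹, conjS_cen1 g x ▸ conj_mem_conjS hh, ?_⟩
  calc _ = g * (h * (g⁻¹ * a * g⁻¹⁻¹) * h⁻¹) * g⁻¹ := by group
    _ = _ := by rw [e]; group

include hG hx h2

theorem two_iso {c a : G} (hc : IsConj x c) (ha : IsConj x a) (h : a ∈ Cen1 c) : a = c := by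
  by_contra h1
  have c1 : c ≠ 1 := fun e => hx (isConj_one_left.mp (e ▸ hc))
  have h3 : normalClosure {c} ≤ Cen1 c := (closure_le _).mpr fun b hb => by
    obtain ⟨_, e', hb⟩ := Group.mem_conjugatesOfSet_iff.mp hb
    by_cases e : b = c
    · exact e ▸ self_mem _
    obtain ⟨k, hk, rfl⟩ := two_at h2 hc ha (hc.trans (Set.mem_singleton_iff.mp e' ▸ hb)) h1 e
    exact mul_mem (mul_mem hk h) (inv_mem hk)
  rcases hs.eq_bot_or_eq_top_of_normal (normalClosure {c}) inferInstance with h4 | h4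
  · exact c1 (mem_bot.mp (h4 ▸ subset_normalClosure rfl))
  · exact cen1_ne_top hG c1 (top_le_iff.mp (h4 ▸ h3))

omit h2 in
theorem exists_other_conj {c : G} (hc : IsConj x c) : ∃ a, IsConj x a ∧ a ≠ c := by
  have c1 : c ≠ 1 := fun e => hx (isConj_one_left.mp (e ▸ hc))
  obtain ⟨g, -, hg⟩ := SetLike.not_le_iff_exists.mp (top_le_iff.not.mpr (cen1_ne_top hG c1))
  exact ⟨_, isConj_conj hc g, fun e => hg (c1_iff'.mpr e)⟩

theorem two_latin {c u v : G} (hc : IsConj x c) (hu : IsConj x u) (hv : IsConj x v)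
    (e : u * c * u⁻¹ = v * c * v⁻¹) : u = v := by
  let f : {a // IsConj x a} → {a // IsConj x a} := fun a => ⟨a * c * (a : G)⁻¹, isConj_conj hc _⟩
  have hf : Function.Surjective f := fun b => by
    by_cases h1 : b = c
    · exact ⟨⟨c, hc⟩, Subtype.ext (by simp [f, h1])⟩
    obtain ⟨a, ha, h3⟩ := exists_other_conj hG hx hc
    obtain ⟨k, hk, e⟩ := two_at h2 hc (isConj_conj hc a) b.2
      (fun e => h3 (two_iso hG hx h2 hc ha (c1_iff'.mpr e))) h1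
    refine ⟨⟨_, isConj_conj ha k⟩, Subtype.ext ?_⟩
    calc _ = k * a * (k⁻¹ * c * k⁻¹⁻¹) * a⁻¹ * k⁻¹ := by simp only [f]; group
      _ = _ := by rw [c1_iff'.mp (inv_mem hk), ← e]; group
  exact congrArg Subtype.val (Finite.injective_iff_surjective.mpr hf (a₁ := ⟨u, hu⟩)
    (a₂ := ⟨v, hv⟩) (Subtype.ext e))

theorem two_key {l : ℕ} (hl : l.Prime) (h1 : ¬ l ∣ ix x) {v : G} (hv : IsConj x v)
    (h3 : PE l (x⁻¹ * v)) : v = x := by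
  obtain ⟨g, hg⟩ := exists_conj_comm hl h1 h3
  refine two_latin hG hx h2 (isConj_conj (IsConj.refl x) g) hv (IsConj.refl x) ?_
  calc _ = x * (x⁻¹ * v * (g * x * g⁻¹) * (x⁻¹ * v)⁻¹) * x⁻¹ := by group
    _ = _ := by rw [c1_iff'.mp hg]

theorem not_two (hc : ∀ w ∈ Cen1 x, w ≠ 1 → (Nat.card (Cen1 w)).Coprime (ix x)) : False := by
  obtain ⟨a, ha, h1⟩ := exists_other_conj hG hx (IsConj.refl x)
  set D := Cen1 x ⊓ Cen1 a
  set C := Cen D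
  have xC : x ∈ C := cen_iff_le.mpr inf_le_left
  have aC : a ∈ C := cen_iff_le.mpr inf_le_right
  have h3 : ∀ v ∈ C, IsConj x v → v ≠ x → Cen1 x ⊓ Cen1 v = D := fun v hv h3 h4 => by
    obtain ⟨k, hk, rfl⟩ := h2 a v ha h3 h1 h4
    refine (eq_of_le_of_card_ge (le_inf inf_le_left (cen_iff_le.mp hv)) (le_of_eq ?_)).symm
    rw [← card_conjS k D, conjS_inf, conjS_cen1, conjS_cen1, c1_iff'.mp hk]
  obtain ⟨Q, _, _, f, hf, hk⟩ := H5.exists_hom_ker_eq (L := C) (M := D)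
    (centralizer_le_normalizer _)
  have h4 : ∀ g : C, f g ∈ H5.im f (Cen1 x) ↔ (g : G) ∈ Cen1 x := fun g =>
    ⟨fun ⟨h, hh, e⟩ => (mul_mem_cancel_left (inv_mem hh)).mp ((H5.map_eq_one_iff_of_ker hk
      (x := h⁻¹ * g)).mp (by rw [map_mul, map_inv, e, inv_mul_cancel])).1, fun h => ⟨g, h, rfl⟩⟩
  have xa : x ∉ Cen1 a := fun e => h1 (two_iso hG hx h2 ha (IsConj.refl x) e).symm
  have x1 : f ⟨x, xC⟩ ≠ 1 := fun e => xa ((H5.map_eq_one_iff_of_ker hk).mp e).2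
  have xH := (h4 ⟨x, xC⟩).mpr (self_mem x)
  have hF : IsFrobeniusComplement (H5.im f (Cen1 x)) := ⟨fun e => x1 (mem_bot.mp (e ▸ xH)),
    fun e => xa (c1_symm ((h4 ⟨a, aC⟩).mp (e.ge (mem_top _)))), fun g hg => by
      obtain ⟨g, rfl⟩ := hf g
      refine eq_bot_iff.mpr fun h hh => ?_
      obtain ⟨h, rfl⟩ := hf h
      have h5 := H5.mem_conj_smul_iff.mp hh.2
      rw [← map_inv, ← map_mul, ← map_mul, h4] at h5
      refine (H5.map_eq_one_iff_of_ker hk).mpr ((h3 (g * x * g⁻¹) (mul_mem (mul_mem g.2 xC)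
        (inv_mem g.2)) (isConj_conj (IsConj.refl x) _) fun e => hg ((h4 g).mpr
          (c1_iff'.mpr e))).le ⟨(h4 h).mp hh.1, ?_⟩)
      exact (conjS_cen1 (g : G) x).le (mem_conjS.mpr h5)⟩
  obtain ⟨N, hN, eN⟩ := H5.exists_frobeniusKernel_eq hF
  have mN : ∀ n, n ∈ N ↔ n ∈ frobeniusKernel (H5.im f (Cen1 x)) := fun n => by rw [← eN]; rfl
  have N1 : N ≠ ⊥ := fun e => hF.2.1 (top_of_cover fun g => by
    by_contra! h5
    have h6 : g = 1 := mem_bot.mp (e ▸ (mN g).mpr (H5.mem_frobeniusKernel.mpr (Or.inr fun k => by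
      simpa using h5 k⁻¹)))
    exact h5 1 (by simp [h6, one_mem]))
  have h5 : Semireg N (zpowers (f ⟨x, xC⟩)) := fun y hy y1 => eq_bot_iff.mpr fun n hn =>
    H5.frob_eq_one_of_comm hF (zpowers_le.mpr xH hy) y1 ((mN n).mp hn.1) (c1_iff.mp hn.2)
  by_cases hD : D = ⊥
  · have hC : C = ⊤ := by simp [C, hD]
    rcases hs.eq_bot_or_eq_top_of_normal (H5.pre f N) (normal_of_top_le_normalizer (hC ▸
      H5.le_normalizer_pre le_rfl le_normalizer_of_normal)) with e | e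
    · exact N1 (by rw [← H5.im_pre hf N, e, H5.im_bot])
    · exact x1 (mem_bot.mp ((h5 _ (mem_zpowers _) x1).le
        ⟨(H5.coe_mem_pre (x := ⟨x, xC⟩)).mp (e.ge (mem_top _)), self_mem _⟩))
  obtain ⟨w, hw, w1⟩ := (D.bot_or_exists_ne_one).resolve_left hD
  obtain ⟨l, hl, h6⟩ := Nat.exists_prime_and_dvd (N.one_lt_card_iff_ne_bot.mpr N1).ne'
  have : Fact l.Prime := ⟨hl⟩
  obtain ⟨R, hR, h7⟩ := H5.exists_invariant_isSylowOf l (A := zpowers (f ⟨x, xC⟩)) (K := N)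
    le_normalizer_of_normal (h5.coprime' le_normalizer_of_normal).symm
    (Or.inl (H5.isSolvable_of_isMulCommutative inferInstance))
  obtain ⟨P, hP⟩ := H5.exists_isSylowOf l (H5.pre f R)
  have h8 : H5.pre f R ≤ Nor P := le_nor_of_central hl hP fun y hy ho => by
    obtain ⟨yC, h8⟩ := H5.mem_pre.mp hy
    have h9 : f ⟨y, yC⟩ = 1 := orderOf_eq_one_iff.mp (Nat.Coprime.eq_one_of_dvd
      ((PE.of_mem hR.isPGroup h8).coprime ho) (by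
        simpa using orderOf_map_dvd f ⟨y, yC⟩))
    exact (H5.pre_le R).trans fun c hc => c1_iff.mpr
      (cen_iff.mp hc y ((H5.map_eq_one_iff_of_ker hk).mp h9))
  have h9 : x ∈ Nor P := (hall_singleton.mpr hP).nor_le_nor h8 (H5.le_normalizer_pre
    (zpowers_le.mpr xC) (by rwa [H5.im_zpowers xC]) (mem_zpowers x))
  have h10 := hP.im (f := f) (H5.pre_le R)
  rw [H5.im_pre hf] at h10
  obtain ⟨τ, ⟨τ, hτ, rfl⟩, τ1⟩ := (H5.im f P).bot_or_exists_ne_one.resolve_left (h10.ne_bot (by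
    obtain ⟨k, hk⟩ := hR.isPGroup.exists_card_eq
    rcases k with _ | k
    · exact absurd (card_eq_one.mp hk) (hR.ne_bot h6)
    · exact hk ▸ dvd_pow_self l k.succ_ne_zero))
  replace hτ : (τ : G) ∈ P := hτ
  have h11 := two_key hG hx h2 hl (fun e => hl.one_lt.ne' (Nat.eq_one_of_dvd_coprimes (hc w hw.1 w1)
    (((PE.of_mem hP.isPGroup hτ).dvd hl fun e => τ1 (by
      rw [show τ = 1 from Subtype.ext e, map_one])).trans (orderOf_dvd_natCard _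
        (c1_iff.mpr (cen_iff.mp τ.2 w hw)))) e)) (isConj_conj (IsConj.refl x) τ)
    (PE.of_mem hP.isPGroup (H5.mem_of_eq (mul_mem (H5.conj_mem_of_mem_normalizer (inv_mem h9) hτ)
      (inv_mem hτ)) (by group)))
  refine τ1 (mem_bot.mp ((h5 _ (mem_zpowers _) x1).le ⟨hR.le (h10.le ⟨τ, hτ, rfl⟩),
    c1_iff.mpr ?_⟩))
  rw [← map_mul, ← map_mul]
  exact congrArg f (Subtype.ext (c1_iff.mp (c1_iff'.mpr h11)))

end

theorem exc_num {ι κ : Type*} [DecidableEq ι] (I : Finset ι) (L : Finset κ) (m : ι → ℤ)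
    (k : ι → κ → ℤ) (d ε : κ → ℤ) (μ : κ → ι) (P Q : κ → Prop) {l l' : κ} (hl : l ∈ L)
    (hl' : l' ∈ L) (d1 : d l = 1) (d2 : d l' = 1) (p1 : P l) (q1 : ¬ Q l) (q2 : Q l')
    (hm : ∀ χ ∈ I, 0 ≤ m χ) (hk : ∀ χ ∈ I, ∀ θ ∈ L, 0 ≤ k χ θ) (hd : ∀ θ ∈ L, 0 < d θ)
    (hs : ∀ θ ∈ L, ∑ χ ∈ I, m χ * k χ θ = d θ) (hε : ∀ θ ∈ L, ε θ = 1 ∨ ε θ = -1)
    (hμ : ∀ θ ∈ L, ∀ θ' ∈ L, μ θ = μ θ' → (P θ' → P θ) ∧ (Q θ' → Q θ))
    (hr : ∀ χ ∈ I, ∀ θ ∈ L, ∀ l ∈ L, d l = 1 → k χ θ - d θ * k χ l =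
      ε θ * (if χ = μ θ then 1 else 0) - d θ * ε l * if χ = μ l then 1 else 0) :
    ∃ χ ∈ I, (∃ θ ∈ L, k χ θ ≠ 0) ∧ ((m χ = 1 ∧ ∀ ψ ∈ I, ψ ≠ χ → ∀ θ ∈ L, m ψ * k ψ θ = 0) ∨
      (∀ θ ∈ L, k χ θ ≠ 0 → P θ) ∨ ∀ θ ∈ L, k χ θ ≠ 0 → Q θ) := by
  have n0 : ∀ θ ∈ L, ∀ χ ∈ I, 0 ≤ m χ * k χ θ := fun θ h χ h' => mul_nonneg (hm χ h') (hk χ h' θ h)
  obtain ⟨χ, hχ, e⟩ := Finset.exists_ne_zero_of_sum_ne_zero ((hs l hl).trans_ne (hd l hl).ne')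
  have b1 := Finset.single_le_sum (n0 l hl) hχ
  rw [hs l hl, d1] at b1
  have b2 : m χ * k χ l = 1 := by have := n0 l hl χ hχ; omega
  have m1 := Int.eq_one_of_mul_eq_one_right (hm χ hχ) b2
  have k1 := Int.eq_one_of_mul_eq_one_left (hk χ hχ l hl) b2
  have b3 : ∀ θ ∈ L, k χ θ + ∑ ψ ∈ I.erase χ, m ψ * k ψ θ = d θ := fun θ h => by
    rw [← hs θ h, ← Finset.add_sum_erase _ _ hχ, m1, one_mul]
  have n1 : ∀ θ ∈ L, ∀ ψ ∈ I.erase χ, 0 ≤ m ψ * k ψ θ := fun θ h ψ h' =>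
    n0 θ h ψ (Finset.mem_of_mem_erase h')
  have b4 : ∀ θ ∈ L, k χ θ = d θ → ∀ ψ ∈ I, ψ ≠ χ → m ψ * k ψ θ = 0 := fun θ h e ψ h1 h2 =>
    (Finset.sum_eq_zero_iff_of_nonneg (n1 θ h)).mp (by linarith [b3 θ h]) ψ
      (Finset.mem_erase.mpr ⟨h2, h1⟩)
  have b5 : ∀ θ ∈ L, k χ θ ≤ d θ := fun θ h => by linarith [b3 θ h, Finset.sum_nonneg (n1 θ h)]
  by_cases c1 : χ = μ l
  · refine ⟨χ, hχ, ⟨l, hl, by omega⟩, Or.inr (Or.inl fun θ h e => by_contra fun e' => ?_)⟩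
    have b6 := hr χ hχ θ h l hl d1
    rw [if_neg fun e => e' ((hμ θ h l hl (e.symm.trans c1)).1 p1), if_pos c1, k1] at b6
    have := hd θ h
    have := b5 θ h
    rcases hε l hl with e1 | e1 <;> rw [e1] at b6 <;> omega
  have b6 : ∀ θ ∈ L, k χ θ = d θ + ε θ * if χ = μ θ then 1 else 0 := fun θ h => by
    have := hr χ hχ θ h l hl d1
    rw [if_neg c1, k1] at this
    linarith
  have b7 : ∀ θ ∈ L, χ ≠ μ θ → k χ θ = d θ := fun θ h e => by rw [b6 θ h, if_neg e]; simp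
  by_cases c2 : ∀ θ ∈ L, χ ≠ μ θ
  · exact ⟨χ, hχ, ⟨l, hl, by omega⟩, Or.inl ⟨m1, fun ψ h1 h2 θ h => b4 θ h (b7 θ h (c2 θ h)) ψ h1 h2⟩⟩
  push Not at c2
  obtain ⟨θ, h, c2⟩ := c2
  obtain ⟨ψ, hψ, e1⟩ := Finset.exists_ne_zero_of_sum_ne_zero (s := I.erase χ)
    (f := fun ψ => m ψ * k ψ θ) fun e => by
      have a1 := b3 θ h
      have a2 := b6 θ h
      rw [if_pos c2] at a2
      rcases hε θ h with e1 | e1 <;> omega
  obtain ⟨a1, a2⟩ := Finset.mem_erase.mp hψ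
  have b8 : ∀ θ ∈ L, χ ≠ μ θ → k ψ θ = 0 := fun θ h e =>
    (mul_eq_zero.mp (b4 θ h (b7 θ h e) ψ a2 a1)).resolve_left (left_ne_zero_of_mul e1)
  by_cases c3 : χ = μ l'
  · exact ⟨ψ, a2, ⟨θ, h, right_ne_zero_of_mul e1⟩, Or.inr (Or.inr fun θ h e =>
      (hμ θ h l' hl' ((not_not.mp fun e' => e (b8 θ h e')).symm.trans c3)).2 q2)⟩
  have b9 : ∀ l ∈ L, d l = 1 → χ ≠ μ l → ψ = μ l := fun l hl d1 e => by
    have := hr ψ a2 θ h l hl d1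
    rw [b8 l hl e, if_neg fun e => a1 (e.trans c2.symm)] at this
    by_contra e'
    exact right_ne_zero_of_mul e1 (by simpa [e'] using this)
  exact absurd ((hμ l hl l' hl' ((b9 l hl d1 c1).symm.trans (b9 l' hl' d2 c3))).2 q2) q1

section
variable {G : Type u} [Group G] [Fintype G] {K N K₁ K₂ : Subgroup G} {x : G} {θ : G → ℂ}

/-- the degree of a character -/
noncomputable def dg (θ : G → ℂ) : ℤ := ⌊(θ 1).re⌋

theorem dg_eq (h : Irr K θ) : 0 < dg θ ∧ θ 1 = dg θ := by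
  obtain ⟨n, h1, h2⟩ := h.apply_one
  simp [dg, h2, h1]

/-- exceptional characters -/
def Exc (K N : Subgroup G) : Prop := ∃ (μ : (G → ℂ) → G → ℂ) (ε : (G → ℂ) → ℤ),
  (∀ θ ∈ BS.Lam K, ε θ = 1 ∨ ε θ = -1) ∧
  (∀ θ ∈ BS.Lam K, ∀ l ∈ BS.Lam K, μ θ = μ l → θ ∈ cfclass N l) ∧
  ∀ χ, Irr ⊤ χ → ∀ θ ∈ BS.Lam K, ∀ l ∈ BS.Lam K, dg l = 1 → iz K χ θ - dg θ * iz K χ l =
    ε θ * (if χ = μ θ then 1 else 0) - dg θ * ε l * if χ = μ l then 1 else 0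

theorem exc_of_tik (h : TIK K N ⊤) : Exc K N := by
  obtain ⟨μ, ε, h1, h2, h3, -, h4⟩ := h.exc
  refine ⟨μ, fun _ => ε, fun _ _ => h1, fun θ hθ l hl e => ?_, fun χ hχ θ hθ l hl _ => ?_⟩
  · refine (Finset.eq_of_subset_of_card_le (s := cfclass N l) (fun φ hφ => ?_) (by
      rw [h3 l hl, card_cfclass, h.inertia_eq hl])).ge (Finset.mem_filter.mpr ⟨hθ, e⟩)
    have h5 : φ ∈ BS.Lam K := mem_Lam.mpr ⟨fun e' => (mem_Lam.mp hl).1 (by
      simpa [e', cfclass_of_inv (inertia_one h.nor)] using cfclass_symm hφ),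
      (mem_Lam.mp hl).2.of_mem_cfclass h.nor hφ⟩
    have h6 := h4 _ (h2 l hl) l hl φ h5
    obtain ⟨g, hg, rfl⟩ := mem_cfclass.mp hφ
    rw [iz, iz, (h2 l hl).cf.ip_cj (mem_top g) (h.nor hg), sub_self, if_pos rfl] at h6
    refine Finset.mem_filter.mpr ⟨h5, by_contra fun e => ?_⟩
    rw [if_neg (Ne.symm e)] at h6
    omega
  · have := dg_eq (mem_Lam.mp hθ).2
    rw [(mem_Lam.mp hθ).2.apply_one_of_comm h.comm] at this
    rw [show dg θ = 1 by exact_mod_cast this.2.symm, one_mul, one_mul, h4 χ hχ θ hθ l hl, mul_sub]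

theorem exists_lin (h0 : K₁ ≤ K) (h1 : K₂ ≤ K) (h2 : ¬ K₁ ≤ K₂ ⊔ ⁅K, K⁆) :
    ∃ l ∈ BS.Lam K, dg l = 1 ∧ K₂ ≤ cfker K l ∧ ¬ K₁ ≤ cfker K l := by
  have h3 : K₂ ⊔ ⁅K, K⁆ ≤ K := sup_le h1 (der_le_self K)
  obtain ⟨l, hl⟩ := irrKD_nonempty h3 (le_nor_of_der_le h3 le_sup_right) h2
  obtain ⟨a, b, c⟩ := mem_irrKD.mp hl
  exact ⟨l, mem_Lam.mpr ⟨fun e => c (by rwa [e, cfker_one]), a⟩, by
    simp [dg, (a.lin_of_der_le (le_sup_right.trans b)).apply_one], le_sup_left.trans b, c⟩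

theorem exc_of_frob {W : Subgroup G} (ho : Odd (Nat.card N)) (hn : Group.IsNilpotent K)
    (hti : NTIn (sharp K) ⊤ N) (h : Frob K W N) : Exc K N := by
  obtain ⟨ν, hν⟩ := Sibley_coherence_frob ho hn hti h
  have l1 := h.toSD.left_le
  have m : ∀ θ ∈ BS.Lam K, ind K N θ ∈ Zs (seqIndD K N K ⊥) := fun θ hθ =>
    mem_Zs_of_mem (mem_seqIndC1.mpr ⟨θ, (mem_Lam.mp hθ).2, (mem_Lam.mp hθ).1, rfl⟩)
  have h1 : ∀ θ ∈ BS.Lam K, ∃ (μ : G → ℂ) (ε : ℤ), Irr ⊤ μ ∧ (ε = 1 ∨ ε = -1) ∧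
      ν (ind K N θ) = (ε : ℂ) • μ := fun θ hθ => by
    rcases (hν.vchr _ (m θ hθ)).irr_or_of_ip ((hν.isom _ (m θ hθ) _ (m θ hθ)).trans
      (h.irr_ind (mem_Lam.mp hθ).2 (mem_Lam.mp hθ).1).ip_self) with e | e
    · exact ⟨_, 1, e, Or.inl rfl, by simp⟩
    · exact ⟨_, -1, e, Or.inr rfl, by simp⟩
  choose! μ ε h2 h3 h4 using h1
  refine ⟨μ, ε, h3, fun θ hθ l hl e => by_contra fun e' => ?_, fun χ hχ θ hθ l hl d1 => ?_⟩
  · have h5 := hν.isom _ (m l hl) _ (m θ hθ)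
    rw [(mem_Lam.mp hl).2.ip_ind_ind (mem_Lam.mp hθ).2 l1 h.toSD.le_nor, if_neg e', h4 l hl,
      h4 θ hθ, e, ip_smul_left, ip_smul_right, (h2 l hl).ip_self] at h5
    rcases h3 l hl with a | a <;> rcases h3 θ hθ with b | b <;> simp [a, b] at h5
  · have a := (mem_Lam.mp hθ).2
    have b := (mem_Lam.mp hl).2
    have h5 := hν.eq _ (sub_smul_mem_Z0 (m θ hθ) (m l hl) (a := dg θ) (by
      rw [ind_apply_one l1, ind_apply_one l1, (dg_eq a).2, (dg_eq b).2, d1]; simp [mul_comm]))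
    rw [map_sub, Int.cast_smul_eq_zsmul, map_zsmul, ← Int.cast_smul_eq_zsmul ℂ,
      ← Int.cast_smul_eq_zsmul ℂ, h4 θ hθ, h4 l hl, ← ind_smul, ← ind_sub, ind_ind l1 le_top] at h5
    have h6 := congrArg (ip ⊤ χ) h5
    rw [ip_ind_right le_top _ hχ.cf, ip_sub_right, ip_sub_right, ip_smul_right, ip_smul_right,
      ip_smul_right, ip_smul_right, hχ.ip_eq (h2 θ hθ), hχ.ip_eq (h2 l hl),
      ← iz_eq hχ.vchr le_top a.vchr, ← iz_eq hχ.vchr le_top b.vchr] at h6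
    simp only [map_intCast] at h6
    apply Int.cast_injective (α := ℂ)
    push_cast
    rw [← h6, mul_assoc]

theorem not_le_der {π : Set ℕ} (hn : Group.IsNilpotent K) (h0 : piCoreOf π K ≠ ⊥) :
    ¬ piCoreOf π K ≤ piCoreOf πᶜ K ⊔ ⁅K, K⁆ := fun e => by
  have h1 := piCoreOf_sup_of_nilpotent π hn
  have h2 : piCoreOf π K ≤ Nor (piCoreOf πᶜ K) := (piCoreOf_le π K).trans (le_nor_piCoreOf _ K)
  have h3 := U12.der_sup_le h2
  rw [sup_comm, h1] at h3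
  refine (H5.commutator_lt_self (H5.isSolvable_of_le (piCoreOf_le π K)
    (inferInstance : Group.IsSolvable K)) h0).not_ge fun a ha => ?_
  obtain ⟨b, hb, c, hc, rfl⟩ := (H5.mem_sup_left_iff ((der_le_self _).trans h2)).mp
    ((sup_le le_sup_left h3) (e ha))
  rwa [mem_bot.mp (((piG_piCoreOf π K).inf_eq_bot (piG_piCoreOf πᶜ K)).le
    ⟨(mul_mem_cancel_right (der_le_self _ hc)).mp ha, hb⟩), one_mul]

variable [hs : IsSimpleGroup G] (hG : ¬ IsMulCommutative G)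
include hG

theorem two_of_exc (h : Exc K N) (hn : N ≤ Nor K) (n1 : N ≤ Nor K₁) (n2 : N ≤ Nor K₂)
    (l1 : K₁ ≤ K) (l2 : K₂ ≤ K) (h1 : ¬ K₁ ≤ K₂ ⊔ ⁅K, K⁆) (h2 : ¬ K₂ ≤ K₁ ⊔ ⁅K, K⁆)
    (hi : ix x = Nat.card K) (hx : ∀ u ∈ K, u ≠ 1 → ∀ g, u ∉ Cen1 (g * x * g⁻¹))
    (a b : G) (ha : IsConj x a) (hb : IsConj x b) (ax : a ≠ x) (bx : b ≠ x) :
    ∃ h ∈ Cen1 x, h * a * h⁻¹ = b := by
  set π := ind (⊤ ⊓ Cen1 x) ⊤ (one (⊤ ⊓ Cen1 x)) with hπ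
  have cπ : Chr ⊤ π := (chr_one _).ind le_top
  have vπ : ∀ g, π g = ((cob ⊤ x).filter fun b => g * b = b * g).card := fun g =>
    ind_cen (fun _ => mem_cob) (mem_top g)
  have iπ : iz ⊤ π (one ⊤) = 1 := iz_of_eq (by
    rw [ip_ind_left le_top _ (cf_one ⊤), ← ip_res_right, res_one_eq le_top, ip_one_one]; simp)
  have h3 : ∀ θ, Irr K θ → ∑ χ ∈ irrs ⊤, iz ⊤ π χ * iz K χ θ = dg θ := fun θ hθ => by
    rw [← iz_eq_sum cπ.vchr le_top hθ.vchr]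
    apply iz_of_eq
    rw [ip, Finset.sum_eq_single_of_mem 1 (by simp) fun u hu h1 => by
      rw [vπ, Finset.filter_false_of_mem fun b hb e => by
        obtain ⟨g, -, rfl⟩ := mem_cob.mp hb
        exact hx u (Finset.mem_filter.mp hu).2 h1 g (c1_iff.mpr e)]; simp, hπ, ind_apply_one le_top,
      one_one, top_inf_eq, relIndex_top_right, show (Cen1 x).index = _ from hi, (dg_eq hθ).2]
    simp
  have h4 : ∀ χ ∈ irrs ⊤, 0 ≤ iz ⊤ π χ := fun χ hχ => iz_nonneg cπ le_rfl (mem_irrs.mp hχ).chr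
  have h5 : ∀ χ ∈ irrs ⊤, ∀ θ, Irr K θ → 0 ≤ iz K χ θ := fun χ hχ θ hθ =>
    iz_nonneg (mem_irrs.mp hχ).chr le_top hθ.chr
  have h6 : ∀ θ, Irr K θ → iz K (one ⊤) θ = if θ = one K then 1 else 0 := fun θ hθ => iz_of_eq (by
    rw [← ip_res_left, res_one_eq le_top, (irr_one K).ip_eq hθ]; simp [eq_comm])
  have o1 := mem_irrs.mpr (irr_one (⊤ : Subgroup G))
  have h7 : ∀ χ ∈ irrs ⊤, χ ≠ one ⊤ → iz ⊤ π χ * iz K χ (one K) = 0 := fun χ hχ e => by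
    have h8 := h3 _ (irr_one K)
    rw [← Finset.add_sum_erase _ _ o1, iπ, h6 _ (irr_one K), if_pos rfl,
      show dg (one K) = 1 by simp [dg, one_one], mul_one, add_eq_left] at h8
    exact (Finset.sum_eq_zero_iff_of_nonneg fun ψ hψ => mul_nonneg (h4 ψ (Finset.mem_of_mem_erase hψ))
      (h5 ψ (Finset.mem_of_mem_erase hψ) _ (irr_one K))).mp h8 χ (Finset.mem_erase.mpr ⟨e, hχ⟩)
  obtain ⟨μ, ε, e1, e2, e3⟩ := h
  obtain ⟨l, a1, a2, a3, a4⟩ := exists_lin l1 l2 h1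
  obtain ⟨l', b1, b2, b3, -⟩ := exists_lin l2 l1 h2
  have h8 : ∀ {X}, N ≤ Nor X → ∀ θ l, θ ∈ cfclass N l → X ≤ cfker K l → X ≤ cfker K θ :=
    fun hX θ l e hl => by
      obtain ⟨g, hg, rfl⟩ := mem_cfclass.mp e
      exact (le_cfker_cj_iff (hn hg) (hX hg)).mpr hl
  obtain ⟨χ, hχ, ⟨θ, c1, c2⟩, c3⟩ := exc_num (irrs ⊤) (BS.Lam K) (iz ⊤ π) (iz K) dg ε μ
    (fun θ => K₂ ≤ cfker K θ) (fun θ => K₁ ≤ cfker K θ) a1 b1 a2 b2 a3 a4 b3 h4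
    (fun χ hχ θ hθ => h5 χ hχ θ (mem_Lam.mp hθ).2) (fun θ hθ => (dg_eq (mem_Lam.mp hθ).2).1)
    (fun θ hθ => h3 θ (mem_Lam.mp hθ).2) e1 (fun θ hθ l hl e =>
      ⟨h8 n2 θ l (e2 θ hθ l hl e), h8 n1 θ l (e2 θ hθ l hl e)⟩) fun χ hχ => e3 χ (mem_irrs.mp hχ)
  have c4 : χ ≠ one ⊤ := fun e => c2 (by rw [e, h6 θ (mem_Lam.mp c1).2, if_neg (mem_Lam.mp c1).1])
  have i1 := mem_irrs.mp hχ
  have h9 : ∀ X ≤ K, (∀ θ ∈ BS.Lam K, iz K χ θ ≠ 0 → X ≤ cfker K θ) → X ≤ ⊥ := fun X h9 h10 u hu => by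
    have := cfker_apply ((i1.cf.res le_top).mem_cfker_of_forall (h9 hu) fun θ hθ e => by
      by_cases e' : θ = one K
      · rw [e', cfker_one]; exact h9 hu
      · exact h10 θ (mem_Lam.mpr ⟨e', hθ⟩) (fun e'' => e (by
          rw [ip_res_left, ← iz_eq i1.vchr le_top hθ.vchr, e'', Int.cast_zero])) hu)
    rw [res_of_mem _ (h9 hu), res_one] at this
    exact H8.irr_norm_ne_of_simple hG (irr_top_iff.mp i1) (one_top (G := G) ▸ c4) (by rw [this])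
  obtain ⟨c5, c6⟩ := (c3.resolve_right (not_or.mpr ⟨fun e => h2 ((h9 _ l2 e).trans bot_le),
    fun e => h1 ((h9 _ l1 e).trans bot_le)⟩))
  have h10 := ip_eq_sum_sq cπ.vchr
  rw [← Finset.sum_subset (s₁ := {one ⊤, χ}) (by simp [Finset.insert_subset_iff, i1, irr_one])
    fun ψ hψ e => by
      obtain ⟨θ, hθ, e'⟩ := (mem_irrs.mp hψ).exists_under (le_top : K ≤ ⊤)
      rw [← iz_eq (mem_irrs.mp hψ).vchr le_top hθ.vchr, Int.cast_ne_zero] at e'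
      simp only [Finset.mem_insert, Finset.mem_singleton, not_or] at e
      refine (pow_eq_zero_iff two_ne_zero).mpr ((mul_eq_zero.mp ?_).resolve_right e')
      by_cases e'' : θ = one K
      · exact e'' ▸ h7 ψ hψ e.1
      · exact c6 ψ hψ e.2 θ (mem_Lam.mpr ⟨e'', hθ⟩), Finset.sum_pair c4.symm, iπ, c5] at h10
  have h11 : ∑ c ∈ cob ⊤ x, Nat.card ↥(Cen1 x ⊓ Cen1 c) = 2 * Nat.card (Cen1 x) := by
    conv_lhs at h10 => rw [hπ, ip_ind_right le_top _ (cf_ind le_top _), ← hπ, top_inf_eq, ip,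
      Finset.sum_congr rfl fun u hu => by
        rw [one_of_mem (Finset.mem_filter.mp hu).2, map_one, mul_one, vπ, Finset.card_filter]]
    rw [inv_mul_eq_iff_eq_mul₀ (card_ne_zero' _), ← Nat.cast_sum, Finset.sum_comm] at h10
    rw [Finset.sum_congr rfl fun c _ => show _ = ∑ u ∈ Finset.univ.filter (· ∈ Cen1 x),
      if u * c = c * u then 1 else 0 by
        rw [← Finset.card_filter, ← card_filter_mem, Finset.filter_filter]
        exact congrArg _ (Finset.filter_congr fun u _ => and_congr_right fun _ => c1_iff)]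
    exact_mod_cast h10.trans (mul_comm _ _)
  by_contra! h12
  have m : ∀ {a}, IsConj x a → a ≠ x → ∀ u ∈ Cen1 x, u * a * u⁻¹ ∈ (cob ⊤ x).erase x :=
    fun ha ax u hu => Finset.mem_erase.mpr ⟨fun e => ax (by
      rw [← c1_iff'.mp hu] at e; simpa using e), by
        obtain ⟨g, e⟩ := isConj_iff.mp (isConj_conj ha u)
        exact mem_cob.mpr ⟨g, mem_top g, e⟩⟩
  have h13 : cob (Cen1 x) a ⊆ (cob ⊤ x).erase x := fun c hc => by
    obtain ⟨u, hu, rfl⟩ := mem_cob.mp hc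
    exact m ha ax u hu
  rw [← Finset.add_sum_erase _ _ (mem_cob.mpr ⟨1, mem_top _, by simp⟩ : x ∈ cob ⊤ x), inf_idem,
    ← Finset.sum_sdiff h13] at h11
  have h14 := card_le_sum_cen (X := Cen1 x) (T := cob (Cen1 x) a) fun u hu => mem_cob.mpr ⟨u, hu, rfl⟩
  have h15 := card_le_sum_cen (X := Cen1 x) (T := (cob ⊤ x).erase x \ cob (Cen1 x) a) fun u hu =>
    Finset.mem_sdiff.mpr ⟨m hb bx u hu, fun e => by
      obtain ⟨v, hv, e⟩ := mem_cob.mp e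
      exact h12 (u⁻¹ * v) (mul_mem (inv_mem hu) hv) (by
        rw [show u⁻¹ * v * a * (u⁻¹ * v)⁻¹ = u⁻¹ * (v * a * v⁻¹) * u by group, e]; group)⟩
  have : 0 < Nat.card (Cen1 x) := Nat.card_pos
  omega

theorem not_reg (h : Exc K N) (hn : N ≤ Nor K) (hK : Group.IsNilpotent K) (x1 : x ≠ 1)
    (hi : ix x = Nat.card K) (hx : ∀ u ∈ K, u ≠ 1 → ∀ g, u ∉ Cen1 (g * x * g⁻¹))
    (hc : ∀ w ∈ Cen1 x, w ≠ 1 → (Nat.card (Cen1 w)).Coprime (ix x)) : False := by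
  obtain ⟨p, hp, h1⟩ := Nat.exists_prime_and_dvd (ix_ne_one hG x1)
  obtain ⟨r, hr, h2, h3⟩ := exists_other hp (ix_pos x).ne' fun ⟨k, hk⟩ => ix_ne_pow hG x1 hp k hk
  have h4 : ∀ {π : Set ℕ} {p : ℕ}, p.Prime → p ∈ π → p ∣ ix x → piCoreOf π K ≠ ⊥ :=
    fun hp h1 h2 e => hp.not_dvd_one (by
      simpa [e] using (hall_piCoreOf_of_nilpotent _ hK).prime_dvd hp h1 (hi ▸ h2))
  exact not_two hG x1 (two_of_exc hG h hn (hn.trans (nor_le_nor_piCoreOf {p} K))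
    (hn.trans (nor_le_nor_piCoreOf {p}ᶜ K)) (piCoreOf_le _ _) (piCoreOf_le _ _)
    (not_le_der hK (h4 hp rfl h1)) (by simpa using not_le_der hK (h4 (π := {p}ᶜ) hr h2 h3)) hi hx) hc

end

end I4
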