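import Cfsg.Agent.I4.C

/-! Two-headed simple groups with a single type above one head; TI counting. -/

set_option autoImplicit false
set_option linter.unusedSectionVars false
set_option linter.unusedVariables false

namespace I4

open Cfsg Subgroup FT H4 BS IT
open H5 (IsSylowOf)
open scoped Classical

universe u

variable {G : Type u} [Group G] [Finite G] {K X : Subgroup G} {x y : G} {α β n : ℕ}

theorem card_cob' [Fintype G] (X : Subgroup G) (t : G) : (cob X t).card = (Cen1 t).relIndex X :=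
  Nat.eq_of_mul_eq_mul_left Nat.card_pos ((card_cob X t).trans (by
    rw [inf_comm, H5.card_inf_mul_relIndex]))

theorem dvd_ncard {T : Set G} (hT : ∀ u ∈ X, ∀ t ∈ T, u * t * u⁻¹ ∈ T)
    (h : ∀ t ∈ T, n ∣ (Cen1 t).relIndex X) : n ∣ T.ncard := by
  have := Fintype.ofFinite G
  rw [Set.ncard_eq_toFinset_card', Finset.card_eq_sum_card_image (cob X)]
  refine Finset.dvd_sum fun a ha => ?_
  obtain ⟨t, ht, rfl⟩ := Finset.mem_image.mp ha
  rw [Set.mem_toFinset] at ht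
  refine (h t ht).trans (dvd_of_eq ((card_cob' X t).symm.trans (congrArg _ (Eq.symm ?_))))
  ext s
  rw [Finset.mem_filter, Set.mem_toFinset]
  refine ⟨fun e => e.2 ▸ mem_cob.mpr ⟨1, one_mem _, by simp⟩, fun e => ?_⟩
  obtain ⟨u, hu, rfl⟩ := mem_cob.mp e
  refine ⟨hT u hu t ht, Finset.ext fun c => mem_cob.trans (Iff.trans ?_ mem_cob.symm)⟩
  exact ⟨fun ⟨v, hv, e⟩ => ⟨v * u, mul_mem hv hu, by rw [← e]; group⟩,
    fun ⟨v, hv, e⟩ => ⟨v * u⁻¹, mul_mem hv (inv_mem hu), by rw [← e]; group⟩⟩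

theorem ncard_class (x : G) : {a | IsConj x a}.ncard = ix x := by
  have := Fintype.ofFinite G
  rw [ix, ← relIndex_top_right, ← card_cob', ← Set.ncard_coe_finset]
  congr 1
  ext a
  simp [mem_cob, isConj_iff]

/-- the class equation -/
theorem dvd_card_cen (h1 : n ∣ Nat.card K) (h : ∀ u ∈ K, ¬ K ≤ Cen1 u → n ∣ (Cen1 u).relIndex K) :
    n ∣ Nat.card ↥(K ⊓ Cen K) := by
  have h2 := dvd_ncard (X := K) (T := (K : Set G) \ (K ⊓ Cen K : Subgroup G)) (fun u hu t ht =>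
    ⟨mul_mem (mul_mem hu ht.1) (inv_mem hu), fun e => ht.2 ⟨ht.1, H5.mem_of_eq
      (H5.inv_conj_mem_of_le_normalizer (H5.le_normalizer_centralizer le_normalizer) hu e.2)
        (by group)⟩⟩) fun t ht => h t ht.1 fun e => ht.2 ⟨ht.1, cen_iff_le.mpr e⟩
  rw [Set.ncard_sdiff (SetLike.coe_subset_coe.mpr inf_le_left)] at h2
  exact (Nat.dvd_sub_iff_right (Set.ncard_le_ncard (SetLike.coe_subset_coe.mpr inf_le_left))
    h1).mp h2

/-- counting modulo an abelian self-centralizing TI subgroup -/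
theorem ti_count (h : ∀ u ∈ K, u ≠ 1 → Cen1 u = K) (hx : x ∈ K) (x1 : x ≠ 1) :
    ix x % Nat.card K ∣ Nat.card K - 1 := by
  have h1 : ∀ u ∈ K, u ≠ 1 → (Cen1 u).relIndex (Nor K) = K.relIndex (Nor K) := fun u hu u1 => by
    rw [h u hu u1]
  have h2 := dvd_ncard (X := Nor K) (T := (K : Set G) \ {1}) (n := K.relIndex (Nor K))
    (fun u hu t ht => ⟨H5.conj_mem_of_mem_normalizer hu ht.1, conj_ne_one ht.2⟩)
    fun t ht => (h1 t ht.1 ht.2).symm.dvd
  rw [Set.ncard_sdiff_singleton_of_mem (one_mem K)] at h2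
  have h3 := dvd_ncard (X := K) (T := {a | IsConj x a} \ K) (n := Nat.card K)
    (fun u hu t ht => ⟨isConj_conj ht.1 u, fun e => ht.2 (H5.mem_of_eq
      (mul_mem (mul_mem (inv_mem hu) e) hu) (by group))⟩) fun t ht => by
    rw [← rel_inf, show K ⊓ Cen1 t = ⊥ from eq_bot_iff.mpr fun u hu => by_contra fun u1 =>
      ht.2 ((h u hu.1 u1).le (c1_symm hu.2)), relIndex_bot_left]
  have h4 : ({a | IsConj x a} ∩ K).ncard = K.relIndex (Nor K) := by
    have := Fintype.ofFinite G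
    rw [← h1 x hx x1, ← card_cob', ← Set.ncard_coe_finset]
    congr 1
    ext a
    simp only [mem_cob, isConj_iff, Set.mem_inter_iff, Set.mem_ofPred_eq, Finset.mem_coe]
    refine ⟨fun ⟨⟨g, e⟩, ha⟩ => ⟨g, mem_normalizer_iff_conjS.mpr ?_, e⟩, fun ⟨g, hg, e⟩ =>
      ⟨⟨g, e⟩, e ▸ H5.conj_mem_of_mem_normalizer hg hx⟩⟩
    conv_lhs => rw [← h x hx x1, conjS_cen1, e, h a ha (e ▸ conj_ne_one x1)]
  obtain ⟨k, hk⟩ := h3
  have h5 : 1 < Nat.card K := (K.one_lt_card_iff_ne_bot).mpr fun e => x1 (mem_bot.mp (e ▸ hx))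
  have h6 : (K : Set G).ncard = Nat.card K := rfl
  rw [h6] at h2
  rwa [← ncard_class, ← Set.ncard_inter_add_ncard_sdiff_eq_ncard _ K, h4, hk, Nat.add_mul_mod_self_left,
    Nat.mod_eq_of_lt (by have := Nat.le_of_dvd (by omega) h2; omega)]

variable [hs : IsSimpleGroup G] (hG : ¬ IsMulCommutative G)
include hG

theorem g1 (h : TH G α β) (h1 : ∀ x : G, x ≠ 1 → ix x = β ∨ α ∣ ix x) : False := by
  obtain ⟨x, hx, e⟩ := h.exa
  obtain ⟨y, hy, e'⟩ := h.exb
  obtain ⟨y, hp, e1⟩ := (h.symm.mx hG hy e').exists_prime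
  replace e' : ix y = β := (congrArg index e1).trans e'
  replace hy := ne_one_of_prime_orderOf hp
  have my := h.symm.mx hG hy e'
  have nd : ∀ {p : ℕ}, p.Prime → p ∣ α → ¬ p ∣ β := fun hp a b =>
    hp.one_lt.ne' (Nat.eq_one_of_dvd_coprimes h.cop a b)
  have ad : α ∣ Nat.card (Cen1 y) := h.cop.dvd_of_dvd_mul_right (by
    rw [← e', card_mul_ix, ← card_mul_ix x, e]; exact dvd_mul_left _ _)
  have c1 : ∀ p : ℕ, p.Prime → p ∣ α → ∃ z, orderOf z = p ∧ Cen1 z = Cen1 y := fun p hp h2 => by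
    by_cases h3 : orderOf y = p
    · exact ⟨y, h3, rfl⟩
    have : Fact p.Prime := ⟨hp⟩
    obtain ⟨P, hP⟩ := H5.exists_isSylowOf p (Cen1 y)
    obtain ⟨z, hz, oz, h4⟩ := exists_cen hp hP.isPGroup (hP.ne_bot (h2.trans ad))
    have o : (orderOf y).Coprime (orderOf z) := oz ▸ (Nat.coprime_primes ‹_› hp).mpr h3
    have h5 := cen1_mul (hP.le hz) o
    have h6 := (h1 _ (mul_ne_one hy (hP.le hz) o)).resolve_right fun e => not_dvd_of_sylow
      (sylow_of_not_dvd hp hP fun e => nd hp h2 (e' ▸ e)) (h5 ▸ le_inf hP.le h4) (h2.trans e)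
    exact ⟨z, oz, my.eq (ne_one_of_orderOf hp oz) ((eq_of_index (h5.le.trans inf_le_left)
      (h6.trans e'.symm)).ge.trans (h5.le.trans inf_le_right))⟩
  have c2 : ∀ u ∈ Cen1 y, α ∣ ix u → α ∣ (Cen1 u).relIndex (Cen1 y) := fun u hu h2 =>
    h.cop.dvd_of_dvd_mul_right (by
      rw [← e', ← rel_inf, relIndex_mul_index inf_le_left]
      exact h2.trans (index_dvd_of_le inf_le_right))
  have c3 := dvd_card_cen ad fun u hu h2 => by
    have u1 : u ≠ 1 := fun e => h2 fun a _ => c1_iff.mpr (by simp [e])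
    rcases h1 u u1 with h3 | h3
    swap; · exact c2 u hu h3
    obtain ⟨v, hv, hr⟩ := exists_prime_pow u1
    have h4 := (h.symm.mx hG u1 h3).pow hv (ne_one_of_prime_orderOf hr)
    obtain ⟨p, a1, a2, a3⟩ := exists_other hr (e ▸ (ix_pos x).ne') fun ⟨k, hk⟩ =>
      ix_ne_pow hG hx hr k (e.trans hk)
    obtain ⟨z, oz, h5⟩ := c1 p a1 a3
    have h6 : v ∈ Cen1 z := h5 ▸ zpowers_le.mpr hu hv
    have o : (orderOf z).Coprime (orderOf v) := oz ▸ (Nat.coprime_primes a1 hr).mpr a2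
    have h7 := cen1_mul h6 o
    rw [h5, h4] at h7
    have h8 := c2 _ (mul_mem (h5 ▸ self_mem z) (h5 ▸ h6)) ((h1 _ (mul_ne_one
      (ne_one_of_orderOf a1 oz) h6 o)).resolve_left fun e => h2 ((eq_of_index
        (h7.le.trans inf_le_left) (e.trans e'.symm)).ge.trans (h7.le.trans inf_le_right)))
    rwa [h7, rel_inf] at h8
  have c4 : ∀ u ∈ Cen1 y ⊓ Cen (Cen1 y), u ≠ 1 → ∀ g, u ∉ Cen1 (g * x * g⁻¹) := fun u hu u1 g =>
    h.symm.nc hG u1 (conj_ne_one hx) ((congrArg index (my.eq u1 (cen_iff_le.mp hu.2))).trans e')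
      ((ix_conj g x).trans e)
  have c5 : Cen1 x ⊓ Cen1 y = ⊥ := by
    have := Fintype.ofFinite G
    have h2 : cob (Cen1 y ⊓ Cen (Cen1 y)) x = cob ⊤ x := Finset.eq_of_subset_of_card_le
      (fun c hc => by
        obtain ⟨u, -, e⟩ := mem_cob.mp hc
        exact mem_cob.mpr ⟨u, mem_top u, e⟩) (by
      rw [card_cob', card_cob', relIndex_top_right, ← rel_inf, show Cen1 y ⊓ Cen (Cen1 y) ⊓ Cen1 x = ⊥
        from eq_bot_iff.mpr fun u hu => by_contra fun u1 => c4 u hu.1 u1 1 (by simpa using hu.2),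
        relIndex_bot_left]
      exact e.le.trans (Nat.le_of_dvd Nat.card_pos c3))
    refine eq_bot_iff.mpr fun d hd => by_contra fun d1 => ?_
    have h3 : normalClosure {x} ≤ Cen1 d := (closure_le _).mpr fun b hb => by
      obtain ⟨_, e', hb⟩ := Group.mem_conjugatesOfSet_iff.mp hb
      obtain ⟨g, hg⟩ := isConj_iff.mp (Set.mem_singleton_iff.mp e' ▸ hb)
      obtain ⟨u, hu, rfl⟩ := mem_cob.mp (h2.ge (mem_cob.mpr ⟨g, mem_top g, hg⟩))
      have h4 := cen_iff_le.mp hu.2 hd.2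
      exact mul_mem (mul_mem (c1_symm h4) (c1_symm hd.1)) (inv_mem (c1_symm h4))
    rcases hs.eq_bot_or_eq_top_of_normal (normalClosure {x}) inferInstance with h4 | h4
    · exact hx (mem_bot.mp (h4 ▸ subset_normalClosure rfl))
    · exact cen1_ne_top hG d1 (top_le_iff.mp (h4 ▸ h3))
  have hc := h.card_eq hG e e' c5
  have c6 := h.symm.card_cen hG (hc.trans (mul_comm _ _)) e'
  have c7 : Cen1 y ⊓ Cen (Cen1 y) = Cen1 y :=
    eq_of_le_of_card_ge inf_le_left (c6.le.trans (Nat.le_of_dvd Nat.card_pos c3))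
  rw [c7] at c4
  have hB := le_centralizer_iff_isMulCommutative.mp (c7.ge.trans inf_le_right)
  have hB' : ∀ u ∈ Cen1 y, u ≠ 1 → Cen1 u = Cen1 y := fun u hu u1 => my.eq u1 (le_of_comm hB hu)
  have := Fintype.ofFinite G
  exact not_reg hG (exc_of_tik ⟨le_normalizer, le_top, le_rfl, hB, fun a ha h1 g _ e =>
    mem_normalizer_iff_conjS.mpr (by
      rw [← hB' a ha h1, conjS_cen1, hB' _ e (conj_ne_one h1), hB' a ha h1]),
    fun a ha h1 => inf_le_right.trans (hB' a ha h1).le⟩) le_rfl (nil_of_comm hB) hx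
    (e.trans c6.symm) c4 fun w hw w1 => e ▸ (h.cop.symm.coprime_dvd_left (h.card_dvd hG hc
      (h.symm.dvd_ix' hG (hc.trans (mul_comm _ _)) e.symm.dvd w1 hw)))

end I4
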