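import Cfsg.Agent.IT.SL2
import Cfsg.Agent.GW.Cv1
import Cfsg.Agent.I4.A

/-! Class sizes in `PSL(2, q)`, `q` odd, and in `A₇`. -/

set_option autoImplicit false
set_option linter.unusedSectionVars false
set_option linter.unusedVariables false

namespace I4

open Cfsg Subgroup FT H4 BS IT Matrix
open scoped MatrixGroups Classical

theorem ts_finite (G : Type*) [Group G] [Finite G] : (TS' G).Finite :=
  (Set.finite_range fun x : G => ix x).subset (by rintro _ ⟨x, -, rfl⟩; exact ⟨x, rfl⟩)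

section A7
open Equiv

theorem a7_ix (g : Perm (Fin 7)) (hs : Perm.sign g = 1) (h1 : g ≠ 1) {c : ℕ}
    (hc : (7 - g.cycleType.sum).factorial * g.cycleType.prod *
      (∏ n ∈ g.cycleType.toFinset, (g.cycleType.count n).factorial) = c) :
    ∃ i ∈ TS' (alternatingGroup (Fin 7)), i * c = 2520 ∨ i * c = 5040 := by
  have hG : ¬ IsMulCommutative (alternatingGroup (Fin 7)) := fun h => by
    have : (swap 0 1 * swap 1 2 * (swap 0 1 * swap 1 3) : Perm (Fin 7)) =
        swap 0 1 * swap 1 3 * (swap 0 1 * swap 1 2) :=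
      congrArg Subtype.val (h.1.1
        ⟨swap 0 1 * swap 1 2, Perm.mem_alternatingGroup.mpr (by decide +kernel)⟩
        ⟨swap 0 1 * swap 1 3, Perm.mem_alternatingGroup.mpr (by decide +kernel)⟩)
    revert this; decide +kernel
  have := alternatingGroup.isSimpleGroup (α := Fin 7) (by simp)
  let x : alternatingGroup (Fin 7) := ⟨g, hs⟩
  refine ⟨ix x, ⟨x, by rw [H8.center_eq_bot_of_simple hG]; exact fun e => h1 (congrArg Subtype.val e),
    rfl⟩, ?_⟩
  have h2 := card_mul_ix x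
  have h3 := Perm.nat_card_centralizer g
  rw [Fintype.card_fin, hc] at h3
  have h4 := H5.card_inf_mul_relIndex (alternatingGroup (Fin 7)) (Cen1 g)
  have h5 : Nat.card (Cen1 x) = Nat.card (alternatingGroup (Fin 7) ⊓ Cen1 g : Subgroup _) := by
    rw [cen1_sub, ← inf_subgroupOf_left]
    exact Nat.card_congr (subgroupOfEquivOfLe inf_le_left).toEquiv
  have h6 := relIndex_dvd_index_of_normal (alternatingGroup (Fin 7)) (Cen1 g)
  have h7 := two_mul_nat_card_alternatingGroup (α := Fin 7)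
  rw [Nat.card_perm, Nat.card_fin] at h7
  rw [alternatingGroup.index_eq_two] at h6
  rw [h3, ← h5] at h4
  rw [← h4]
  have h8 : Nat.factorial 7 = 5040 := rfl
  rcases (Nat.dvd_prime Nat.prime_two).mp h6 with e | e <;> rw [e]
  · left; linarith
  · right; linarith

theorem a7_rank : 6 ≤ (TS' (alternatingGroup (Fin 7))).ncard := by
  obtain ⟨a, ha, ha'⟩ := a7_ix (swap 0 1 * swap 2 3) (by decide +kernel) (by decide +kernel)
    (c := 48) (by decide +kernel)
  obtain ⟨b, hb, hb'⟩ := a7_ix (swap 0 1 * swap 1 2) (by decide +kernel) (by decide +kernel)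
    (c := 72) (by decide +kernel)
  obtain ⟨c, hc, hc'⟩ := a7_ix (swap 0 1 * swap 1 2 * (swap 3 4 * swap 4 5)) (by decide +kernel)
    (by decide +kernel) (c := 18) (by decide +kernel)
  obtain ⟨d, hd, hd'⟩ := a7_ix (swap 0 1 * swap 1 2 * (swap 2 3 * swap 4 5)) (by decide +kernel)
    (by decide +kernel) (c := 8) (by decide +kernel)
  obtain ⟨e, he, he'⟩ := a7_ix (swap 0 1 * swap 1 2 * (swap 2 3 * swap 3 4)) (by decide +kernel)
    (by decide +kernel) (c := 10) (by decide +kernel)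
  obtain ⟨f, hf, hf'⟩ := a7_ix (swap 0 1 * swap 1 2 * (swap 2 3 * swap 3 4) * (swap 4 5 * swap 5 6))
    (by decide +kernel) (by decide +kernel) (c := 7) (by decide +kernel)
  have h1 : ({a, b, c, d, e, f} : Set ℕ).ncard = 6 := by
    repeat rw [Set.ncard_insert_of_notMem (by simp; omega)]
    simp
  rw [← h1]
  refine Set.ncard_le_ncard ?_ (ts_finite _)
  rintro _ (rfl | rfl | rfl | rfl | rfl | rfl) <;> assumption

end A7

section Odd
variable {F : Type} [Field F] [Fintype F]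

theorem con_two (h2 : (2 : F) ≠ 0) {τ : F} (h : τ ^ 2 = 4) :
    (Con τ).ncard = 2 * Fintype.card F := by
  obtain ⟨ε, rfl⟩ : ∃ ε, τ = 2 * ε := ⟨τ / 2, by field_simp⟩
  have h1 : ε ^ 2 = 1 := mul_left_cancel₀ (pow_ne_zero 2 h2) (by linear_combination h)
  have h3 : IT.Con (2 * ε) = (Set.range fun b => (1 - ε * b, b)) ∪ Set.range fun b => (-1 - ε * b, b) := by
    ext ⟨a, b⟩
    constructor
    · intro (hp : _ = _)
      have : (a + ε * b) * (a + ε * b) = 1 := by linear_combination hp + b ^ 2 * h1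
      rcases mul_self_eq_one_iff.mp this with e | e
      · exact Or.inl ⟨b, by rw [← e]; simp⟩
      · exact Or.inr ⟨b, by rw [← e]; simp⟩
    · rintro (⟨b, e⟩ | ⟨b, e⟩) <;> rw [← e] <;> show _ = _ <;> linear_combination (-b ^ 2) * h1
  rw [h3, Set.ncard_union_eq, Set.ncard_range_of_injective fun a b e => congrArg Prod.snd e,
    Set.ncard_range_of_injective fun a b e => congrArg Prod.snd e, Nat.card_eq_fintype_card, two_mul]
  rw [Set.disjoint_left]
  rintro _ ⟨a, rfl⟩ ⟨b, e⟩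
  obtain ⟨e1, rfl⟩ := Prod.ext_iff.mp e
  exact h2 (by linear_combination -e1)

theorem exists_rt_empty' {a : F} (ha : a ≠ 0) (ha' : a ^ 2 ≠ 1) : ∃ τ : F, τ ≠ 0 ∧ Rt τ = ∅ := by
  by_contra! h
  choose f hf using h
  have h1 : ∀ τ h, f τ h ^ 2 + τ * f τ h + 1 = 0 := hf
  have h2 : ∀ τ h, f τ h ≠ 0 := fun τ h e => by simpa [e] using h1 τ h
  have h3 := (Finite.injective_iff_surjective (f := fun τ : {τ : F // τ ≠ 0} =>
    (⟨f τ.1 τ.2, h2 _ _⟩ : {τ : F // τ ≠ 0}))).mp fun τ τ' e => Subtype.ext (mul_right_cancel₀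
      (h2 τ.1 τ.2) (by
        have e : f τ.1 τ.2 = f τ'.1 τ'.2 := congrArg Subtype.val e
        have b := h1 τ'.1 τ'.2
        rw [← e] at b
        linear_combination h1 τ.1 τ.2 - b))
  obtain ⟨τ, e⟩ := h3 ⟨a, ha⟩
  obtain ⟨τ', e'⟩ := h3 ⟨a⁻¹, inv_ne_zero ha⟩
  have e : f τ.1 τ.2 = a := congrArg Subtype.val e
  have e' : f τ'.1 τ'.2 = a⁻¹ := congrArg Subtype.val e'
  have b := h1 τ.1 τ.2
  have b' := h1 τ'.1 τ'.2
  rw [e] at b
  rw [e'] at b'
  field_simp at b'
  obtain rfl : τ = τ' := Subtype.ext (mul_right_cancel₀ ha (by linear_combination b - b'))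
  exact ha' (by rw [pow_two]; nth_rw 1 [← e, e']; exact inv_mul_cancel₀ ha)

/-- the projection -/
abbrev pr (F : Type) [Field F] : SL(2, F) →* PSL(2, F) := QuotientGroup.mk' _

theorem pr_eq {g h : SL(2, F)} : pr F g = pr F h ↔ g = h ∨ g = -h := by
  rw [← mul_inv_eq_one, ← map_inv, ← map_mul]
  refine (QuotientGroup.eq_one_iff _).trans (GW.mem_center_sl.trans (or_congr mul_inv_eq_one ?_))
  rw [mul_inv_eq_iff_eq_mul, neg_one_mul]

theorem mem_comap_pr {g h : SL(2, F)} :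
    h ∈ (Cen1 (pr F g)).comap (pr F) ↔ h ∈ Cen1 g ∨ h * g * h⁻¹ = -g := by
  rw [mem_comap, c1_iff', c1_iff', ← map_inv, ← map_mul, ← map_mul, pr_eq]

theorem ix_pr (g : SL(2, F)) : ix (pr F g) = ((Cen1 (pr F g)).comap (pr F)).index :=
  (index_comap_of_surjective _ (QuotientGroup.mk'_surjective _)).symm

theorem ix_pr_ne (h2 : (2 : F) ≠ 0) {g : SL(2, F)} (h : g.1.trace ≠ 0) : ix (pr F g) = ix g := by
  rw [ix_pr]
  congr 1
  ext a
  refine mem_comap_pr.trans ⟨fun e => e.resolve_right fun e => h (GW.Dg.eq_zero_of_neg h2 ?_), .inl⟩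
  have e0 : -g * a = a * g := (mul_inv_eq_iff_eq_mul.mp e).symm
  have e1 : (-g.1) * a.1 = a.1 * g.1 := congrArg Subtype.val e0
  exact (GW.Dg.trace_rel (GW.Dg.sl_det_ne a) e1).symm.trans (trace_neg _)

theorem ix_pr_zero (ho : Odd (Fintype.card F)) {g : SL(2, F)} (h : g.1.trace = 0) :
    2 * ix (pr F g) = ix g := by
  have h2 := H9.two_ne_zero_of_odd ho
  have h1 : g * g = -1 := Subtype.ext (by
    change g.1 * g.1 = -1
    rw [GW.Dg.sq_trl h, g.2]; simp)
  obtain ⟨a, ha⟩ := isConj_iff.mp ((H9.sl_isConj_slW ho h2 h1).symm.trans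
    (H9.sl_isConj_slW ho h2 (g := -g) (by simpa using h1)))
  have h3 : ∀ b : SL(2, F), b ∈ Cen1 g → b * g * b⁻¹ ≠ -g := fun b hb e =>
    H9.sl_neg_one_ne h2 (mul_right_cancel (b := g) (by rw [neg_one_mul, ← e, c1_iff'.mp hb, one_mul]))
  rw [ix_pr, ix, ← relIndex_mul_index (H := Cen1 g) fun b hb => mem_comap_pr.mpr (.inl hb)]
  congr 1
  refine (relIndex_eq_two_iff.mpr ⟨a, mem_comap_pr.mpr (.inr ha), fun b hb => ?_⟩).symm
  have h4 : b * a * g * (b * a)⁻¹ = -(b * g * b⁻¹) := by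
    rw [show b * a * g * (b * a)⁻¹ = b * (a * g * a⁻¹) * b⁻¹ by group, ha]; simp
  rcases mem_comap_pr.mp hb with e | e
  · exact Or.inr ⟨e, fun e' => h3 _ e' (by rw [h4, c1_iff'.mp e])⟩
  · exact Or.inl ⟨c1_iff'.mpr (by rw [h4, e, neg_neg]), fun e' => h3 _ e' e⟩

theorem psl_ix {k : ℕ} (hk : Fintype.card F = 2 * k + 1) {g : SL(2, F)}
    (hg : ∀ c : F, g.1 ≠ c • (1 : GW.Dg.M2 F)) :
    (g.1.trace ^ 2 = 4 → ix (pr F g) = 2 * k * (k + 1)) ∧
    (g.1.trace ≠ 0 → Rt g.1.trace = ∅ → ix (pr F g) = (2 * k + 1) * (2 * k)) ∧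
    (g.1.trace ≠ 0 → g.1.trace ^ 2 ≠ 4 → (Rt g.1.trace).Nonempty →
      ix (pr F g) = (2 * k + 1) * (2 * k + 2)) ∧
    (g.1.trace = 0 → ix (pr F g) = (2 * k + 1) * if Rt (0 : F) = ∅ then k else k + 1) := by
  have ho : Odd (Fintype.card F) := ⟨k, hk⟩
  have h2 := H9.two_ne_zero_of_odd ho
  have h0 : 0 < k := by have := Fintype.one_lt_card (α := F); omega
  have hc : Nat.card SL(2, F) = (2 * k + 1) * (2 * k) * (2 * k + 2) := by
    rw [H9.card_SL2, hk, Nat.sub_eq_of_eq_add (by ring : (2 * k + 1) ^ 2 = 2 * k * (2 * k + 2) + 1)]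
    ring
  have key : ∀ {n m : ℕ}, (Con g.1.trace).ncard = n → 0 < n →
      n * m = (2 * k + 1) * (2 * k) * (2 * k + 2) → ix g = m :=
    fun {n m} e h0 e' => Nat.eq_of_mul_eq_mul_left h0 (by
      rw [e', ← hc, ← card_mul_ix g, card_cen_sl hg, e])
  have h4 : (4 : F) ≠ 0 := by rw [show (4 : F) = 2 ^ 2 by norm_num]; exact pow_ne_zero 2 h2
  have h5 : ∀ τ : F, Rt τ = ∅ → τ ^ 2 ≠ 4 := fun τ e e' => e.le (show -τ / 2 ∈ Rt τ by
    show _ = _; field_simp; linear_combination -e')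
  have k1 : Rt g.1.trace = ∅ → ix g = (2 * k + 1) * (2 * k) := fun e => key (n := 2 * k + 2) (by
    have := con_add (h5 _ e); rw [e, Set.ncard_empty] at this; omega) (by omega) (by ring)
  have k2 : g.1.trace ^ 2 ≠ 4 → (Rt g.1.trace).Nonempty → ix g = (2 * k + 1) * (2 * k + 2) :=
    fun e ⟨a, ha⟩ => key (n := 2 * k) (by
      have := con_add e; rw [rt_card e ha] at this; omega) (by omega) (by ring)
  refine ⟨fun e => (ix_pr_ne h2 fun e' => h4 (by rw [← e, e']; simp)).trans (key (con_two h2 e)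
    (by omega) (by rw [hk]; ring)), fun e e' => (ix_pr_ne h2 e).trans (k1 e'),
    fun e e' e'' => (ix_pr_ne h2 e).trans (k2 e' e''), fun e => ?_⟩
  have h6 := ix_pr_zero ho e
  rw [e] at k1 k2
  split_ifs with h7
  · rw [k1 h7] at h6; linarith
  · rw [k2 (by simpa using h4.symm) (Set.nonempty_iff_ne_empty.mpr h7)] at h6; linarith

theorem psl_simple' (h : 4 ≤ Fintype.card F) :
    IsSimpleGroup PSL(2, F) := H8.psl_simple (GW.slok h)

theorem psl_ts {k : ℕ} (hk : Fintype.card F = 2 * k + 1) {m : ℕ} (h : m ∈ TS' PSL(2, F)) :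
    m = 2 * k * (k + 1) ∨ m = (2 * k + 1) * (2 * k) ∨
      m = (2 * k + 1) * (if Rt (0 : F) = ∅ then k else k + 1) ∨
      (m = (2 * k + 1) * (2 * k + 2) ∧ ∃ a : F, a ≠ 0 ∧ a ^ 4 ≠ 1) := by
  obtain ⟨x, hx, rfl⟩ := h
  obtain ⟨g, rfl⟩ := QuotientGroup.mk'_surjective _ x
  have hg : ∀ c : F, g.1 ≠ c • (1 : GW.Dg.M2 F) := fun c e => hx (mem_center_iff.mpr fun y => by
    obtain ⟨h, rfl⟩ := QuotientGroup.mk'_surjective _ y
    rw [← map_mul, ← map_mul]
    congr 1
    exact Subtype.ext (by simp [e]))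
  obtain ⟨h1, h2, h3, h4⟩ := psl_ix hk hg
  by_cases e1 : g.1.trace ^ 2 = 4
  · exact .inl (h1 e1)
  by_cases e2 : g.1.trace = 0
  · exact .inr (.inr (.inl (h4 e2)))
  rcases (Rt g.1.trace).eq_empty_or_nonempty with e3 | ⟨a, ha⟩
  · exact .inr (.inl (h2 e2 e3))
  refine .inr (.inr (.inr ⟨h3 e2 e1 ⟨a, ha⟩, a, fun e => by simp [Rt, e] at ha, fun e => ?_⟩))
  have ha : a ^ 2 + g.1.trace * a + 1 = 0 := ha
  have h0 : a ≠ 0 := fun e => by simp [e] at ha
  rcases mul_self_eq_one_iff.mp (show a ^ 2 * a ^ 2 = 1 by linear_combination e) with e' | e'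
  · exact e1 (by linear_combination (g.1.trace * a - 2) * ha - (g.1.trace ^ 2 + g.1.trace * a - 2) * e')
  · exact e2 (mul_right_cancel₀ h0 (by linear_combination ha - e'))

theorem psl_le_four {k : ℕ} (hk : Fintype.card F = 2 * k + 1) : (TS' PSL(2, F)).ncard ≤ 4 := by
  refine (Set.ncard_le_ncard (t := {_, _, _, _}) (fun m hm => (psl_ts hk hm).imp_right
    fun e => e.imp_right fun e => e.imp_right And.left) (Set.toFinite _)).trans ?_
  exact (Set.ncard_insert_le _ _).trans (Nat.succ_le_succ ((Set.ncard_insert_le _ _).trans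
    (Nat.succ_le_succ ((Set.ncard_insert_le _ _).trans (by simp)))))

theorem psl_five (hk : Fintype.card F = 5) : (TS' PSL(2, F)).ncard ≤ 3 := by
  refine (Set.ncard_le_ncard (t := {_, _, _}) (fun m hm => (psl_ts (k := 2) hk hm).imp_right
    fun e => e.imp_right fun e => e.resolve_right fun ⟨_, a, h1, h2⟩ => h2 (by
      have := FiniteField.pow_card_sub_one_eq_one a h1
      rwa [hk] at this)) (Set.toFinite _)).trans ?_
  exact (Set.ncard_insert_le _ _).trans (Nat.succ_le_succ ((Set.ncard_insert_le _ _).trans (by simp)))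

theorem exists_pow_four (h : 7 ≤ Fintype.card F) : ∃ a : F, a ≠ 0 ∧ a ^ 4 ≠ 1 := by
  by_contra! h1
  obtain ⟨g, hg⟩ := IsCyclic.exists_ofOrder_eq_natCard (α := Fˣ)
  have h2 : orderOf g ∣ 4 := orderOf_dvd_of_pow_eq_one (Units.ext (h1 g g.ne_zero))
  rw [hg, Nat.card_units, Nat.card_eq_fintype_card] at h2
  have := Nat.le_of_dvd (by norm_num) h2
  omega

theorem psl_four (ho : Odd (Fintype.card F)) (h7 : 7 ≤ Fintype.card F) :
    (TS' PSL(2, F)).ncard = 4 := by
  obtain ⟨k, hk⟩ := id ho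
  have h2 := H9.two_ne_zero_of_odd ho
  have := psl_simple' (F := F) (by omega)
  have k4 : ∀ {g : SL(2, F)}, (∀ c : F, g.1 ≠ c • (1 : GW.Dg.M2 F)) → ix (pr F g) ∈ TS' PSL(2, F) :=
    fun {g} hg => ⟨pr F g, fun e => by
      rcases H9.sl_second_center h2 (g := g) (fun t => pr_eq.mp (by
        rw [map_mul, map_mul]; exact (mem_center_iff.mp e _).symm)) with rfl | rfl
      · exact hg 1 (by simp)
      · exact hg (-1) (by simp), rfl⟩
  obtain ⟨a, ha, ha'⟩ := exists_pow_four h7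
  refine le_antisymm (psl_le_four hk) (le_trans ?_ (Set.ncard_le_ncard (s := {2 * k * (k + 1),
    (2 * k + 1) * (2 * k), (2 * k + 1) * (2 * k + 2),
    (2 * k + 1) * if Rt (0 : F) = ∅ then k else k + 1}) ?_ (ts_finite _)))
  · have h3 : 3 ≤ k := by omega
    split_ifs <;> exact (Set.ncard_eq_four.mpr ⟨_, _, _, _, by nlinarith, by nlinarith, by nlinarith,
      by nlinarith, by nlinarith, by nlinarith, rfl⟩).ge
  · rintro _ (rfl | rfl | rfl | rfl)
    · obtain ⟨g, e, hg⟩ := exists_trace (2 : F)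
      exact (psl_ix hk hg).1 (by rw [e]; norm_num) ▸ k4 hg
    · obtain ⟨τ, h5, h6⟩ := exists_rt_empty' ha fun e => ha' (by linear_combination (a ^ 2 + 1) * e)
      obtain ⟨g, rfl, hg⟩ := exists_trace τ
      exact (psl_ix hk hg).2.1 h5 h6 ▸ k4 hg
    · obtain ⟨g, e, hg⟩ := exists_trace (-(a + a⁻¹))
      refine (psl_ix hk hg).2.2.1 (fun e' => ha' ?_) (fun e' => ha' ?_) ⟨a, ?_⟩ ▸ k4 hg
      · rw [e] at e'
        field_simp at e'
        linear_combination (1 - a ^ 2) * e'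
      · rw [e] at e'
        field_simp at e'
        have : (a ^ 2 - 1) ^ 2 = 0 := by linear_combination e'
        linear_combination (a ^ 2 + 1) * (pow_eq_zero_iff two_ne_zero).mp this
      · rw [e]; show _ = _; field_simp; ring
    · obtain ⟨g, e, hg⟩ := exists_trace (0 : F)
      exact (psl_ix hk hg).2.2.2 e ▸ k4 hg

end Odd

end I4
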