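import Cfsg.Agent.I4.D
import Cfsg.Agent.I4.M
import Cfsg.Agent.W.Cor
import Cfsg.Agent.CIT.A8
import Cfsg.Agent.CIT.B4
import Cfsg.Agent.CIT.R2

/-! The case of a single non-maximal type of 2-elements; conjugate type rank four. -/

set_option autoImplicit false
set_option linter.unusedSectionVars false
set_option linter.unusedVariables false

namespace I4

universe u

variable {G : Type u} [Group G] [Finite G]

/-- the possible simple groups -/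
def Cn (G : Type u) [Group G] : Prop :=
  (∃ (F : Type) (_ : Field F) (_ : Fintype F), 3 < Fintype.card F ∧
      Nonempty (G ≃* Matrix.ProjectiveSpecialLinearGroup (Fin 2) F)) ∨
    Nonempty (G ≃* ↥(alternatingGroup (Fin 7))) ∨
    ((∀ t : G, orderOf t = 2 → H7.NPC 2 (FT.Cen1 t)) ∧ ∃ M : Subgroup G, Cfsg.IsStronglyEmbedded M) ∨
    ∃ V W : Subgroup G, CIT.L34 V W

variable [hs : IsSimpleGroup G] (hG : ¬ IsMulCommutative G)
include hG

section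
open Cfsg Subgroup FT H4 H5 GW CIT

theorem rank2 (hI : ∀ t : G, orderOf t = 2 → H7.NPC 2 (Cen1 t)) (hr : PRankLE 2 2 G) : Cn G := by
  obtain ⟨S, hS⟩ := exists_isSylowOf 2 (⊤ : Subgroup G)
  obtain ⟨z, z1, z2, z3⟩ := P.exists_zinv hS.isPGroup
    (hS.ne_bot (by rw [card_top]; exact (BS.even_of_simple hG).two_dvd))
  have h : R2 S z := ⟨Dich.no_index_two_of_simple hG, hS, z1, z2, z3, hI z z2, hr⟩
  obtain ⟨u, c⟩ : ∃ u, Cj S z u := by
    by_contra hc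
    refine hG ⟨⟨H3.comm_of_isolated z2 (H3.isolated_of_weaklyClosed (p := 2)
      (L.PElt_of_orderOf (k := 1) z2) (hS.of_le z3 le_top) fun g hg => ?_)⟩⟩
    by_contra e
    exact hc ⟨_, hg, e, g, rfl⟩
  by_cases hn : S ≤ Cen1 u
  swap
  · obtain ⟨v, c', h1, h2⟩ := h.four c hn
    rcases gwThm G hG (h.d2 c' h1 h2) with ⟨F, i1, i2, -, h3, h4⟩ | h3
    · exact Or.inl ⟨F, i1, i2, h3, h4⟩
    · exact Or.inr (Or.inl h3)
  have f := h.f4 c
  obtain ⟨g, e⟩ := c.conj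
  obtain ⟨k, hk, e'⟩ := ((hS.map_conj (g := g) (le_normalizer (mem_top g))).of_le (H := Cen1 u)
    (by rw [← e, ← conj_c1]; exact conjS_mono g z3) le_top).exists_conj (hS.of_le hn le_top)
  have n1 : k * g ∈ Nor S := mem_normalizer_iff_conjS.2 (by rw [← conjS_conjS]; exact e')
  have n2 : k * g ∉ Cen (V4 z u) := fun e'' => c.ne (by
    rw [cen_V] at e''
    calc u = k * u * k⁻¹ := (c1'.1 hk).symm
      _ = k * g * z * (k * g)⁻¹ := by rw [← e]; group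
      _ = z := c1'.1 e''.1)
  rcases Ly.ab_or_u34 hS f.card_V (fun x => ⟨fun hx => ⟨(h.VD c hx).1, sq_V f hx⟩,
    fun hx => h.memV c ⟨hx.1, hn hx.1⟩ hx.2⟩)
    (fun w hw x hx => cen.1 (cen_V z u ▸ ⟨z3 hx, hn hx⟩ : x ∈ Cen (V4 z u)) w hw) n1 n2 with ab | u3
  · have a : W.AS S ⊤ := ⟨hS, ab⟩
    rcases W.known_top _ G S rfl hG a with h4 | ⟨M, hM⟩ | ⟨t, N, j⟩
    · obtain ⟨F, i1, i2, -, h1, h2⟩ := W.l2_four hG a h4
      exact Or.inl ⟨F, i1, i2, by omega, h2⟩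
    · exact Or.inr (Or.inr (Or.inl ⟨hI, M, hM⟩))
    · obtain ⟨ρ, r1, r2, r3⟩ := j.rho
      have h1 : S ≤ zpowers t := fun v hv => r3 v hv (by
        obtain ⟨s, hs, e⟩ := npc_fus (hI t j.ot) (hS.of_le (a.c1 j.tS) le_top) (j.le r1).2 hv
          (cmem r2 hv)
        rw [← e, a.cm hs hv, mul_inv_cancel_right])
      have h2 := card_le_of_le h1
      rw [j.c8, Nat.card_zpowers, j.ot] at h2
      omega
  · exact Or.inr (Or.inr (Or.inl ⟨hI, _, (u3.base hS n1 n2).se⟩))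


end

open Cfsg Subgroup FT H4 BS IT
open H5 (IsSylowOf)

variable {x y : G} {γ : ℕ} {K : G → Prop}

theorem One.cn (h : One K γ) (h2 : ∀ w, w ≠ 1 → PE 2 w → K w) : Cn G := by
  by_cases hI : ∀ t : G, orderOf t = 2 → H7.NPC 2 (Cen1 t)
  · by_cases h3 : PRankLE 2 2 G
    · exact rank2 hG hI h3
    rcases CIT.cit_cases hG (even_of_simple hG).two_dvd (CIT.cit_of_rank hG
      (fun t ht => H7.hasNormalPComplement_iff.mpr (hI t ht)) h3) with h | h | h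
    exacts [Or.inr (Or.inr (Or.inl ⟨hI, h⟩)), (h3 h).elim, Or.inr (Or.inr (Or.inr h))]
  push Not at hI
  obtain ⟨t, ht, hI⟩ := hI
  obtain ⟨S, h3, h4⟩ := h.ab h2 ht hI
  obtain ⟨F, i1, i2, h5, N, hN, ⟨e⟩, h6⟩ := W.solv_cen ⟨h3, h4⟩ (by
      rw [GW.Oo, pPrimeCoreIn_top]; exact oddCore_of_simple (even_of_simple hG))
    (fun t ht => h.solv (h2 t (ne_one_of_orderOf Nat.prime_two ht) (PE.of_orderOf ht))
      (PE.of_orderOf ht)) fun e => hG ⟨⟨fun a b => IsSimpleGroup.comm_iff_isSolvable.mpr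
        (Group.isSolvable_of_surjective (f := (⊤ : Subgroup G).subtype) fun g => ⟨⟨g, trivial⟩, rfl⟩)
          a b⟩⟩
  obtain rfl := (hs.eq_bot_or_eq_top_of_normal N hN).resolve_left fun e => by
    obtain ⟨g, hg⟩ := exists_ne (1 : G)
    exact hg (mem_bot.mp (h6.le (cen_iff.mpr fun a ha => by rw [mem_bot.mp (e.le ha)]; simp)))
  refine Or.inl ⟨F, i1, i2, ?_, ⟨topEquiv.symm.trans e⟩⟩
  rcases h5 with h5 | ⟨n, h5, h7⟩
  · omega
  · exact h7 ▸ Nat.pow_le_pow_right two_pos h5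

omit hG hs in
theorem cit_odd (hC : CIT.IsCIT G) (hx : x ≠ 1) (ho : Odd (orderOf x)) :
    Odd (Nat.card (Cen1 x)) := Nat.not_even_iff_odd.mp fun e => by
  obtain ⟨t, ht, ot⟩ := exists_mem_of_dvd Nat.prime_two e.two_dvd
  exact hx (orderOf_eq_one_iff.mp (Nat.Coprime.eq_one_of_dvd ((PE.of_mem (hC t ot) (c1_symm ht)).coprime
    (Nat.coprime_two_right.mpr ho)) dvd_rfl))

omit hG hs in
theorem cit_even (hC : CIT.IsCIT G) (ho : ¬ Odd (orderOf x)) : IsPGroup 2 (Cen1 x) := by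
  obtain ⟨t, ht, ot⟩ := exists_pow_of_dvd Nat.prime_two (Nat.not_odd_iff_even.mp ho).two_dvd
  exact (hC t ot).to_le (cen1_le_of_mem ht)

omit hG hs in
theorem card_dvd_of_ix (h : ix x ∣ ix y) : Nat.card (Cen1 y) ∣ Nat.card (Cen1 x) :=
  Nat.dvd_of_mul_dvd_mul_right (ix_pos x) (by
    rw [card_mul_ix, ← card_mul_ix y]; exact mul_dvd_mul_left _ h)

theorem cit_types (hC : CIT.IsCIT G) (hL : ¬ L2e G) (h4 : (TS G).ncard = 4) :
    (∃ a b : ℕ, ∀ x : G, x ≠ 1 → Odd (orderOf x) → ix x = a ∨ ix x = b) ∧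
      ∀ x : G, x ≠ 1 → Odd (orderOf x) → (∀ p : ℕ, p.Prime → ¬ IsPGroup p (Cen1 x)) →
        ∀ u ∈ Cen1 x, u ≠ 1 → Cen1 u = Cen1 x := by
  have p2 := Nat.prime_two
  have h1 : ∀ {x y : G}, x ≠ 1 → Odd (orderOf x) → ix y ∣ ix x → Odd (orderOf y) :=
    fun hx ho e => by_contra fun e' => by
      obtain ⟨k, hk⟩ := (cit_even hC e').exists_card_eq
      exact hx (orderOf_eq_one_iff.mp (Nat.eq_one_of_dvd_coprimes
        ((Nat.coprime_two_right.mpr ho).pow_right k) dvd_rfl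
        (hk ▸ (orderOf_dvd_card _).trans (card_dvd_of_ix e))))
  have h2 : ∀ {w : G}, w ≠ 1 → PE 2 w → ¬ Odd (orderOf w) := fun hw e e' =>
    (Nat.not_even_iff_odd.mpr e') (even_iff_two_dvd.mpr (e.dvd p2 hw))
  obtain ⟨s, os, hs⟩ := exists_full (G := G) p2 (even_of_simple hG).two_dvd
  have s1 := ne_one_of_orderOf p2 os
  obtain ⟨w, w1, w2, w3⟩ : ∃ w : G, w ≠ 1 ∧ PE 2 w ∧ 2 ∣ ix w := by
    by_contra! e
    exact hL (l2e_of_fc hG fun w w1 w2 => ⟨Cen1 w, ⟨le_top, cit_even hC (h2 w1 w2), by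
      rw [relIndex_top_right]; exact e w w1 w2⟩, le_rfl, le_normalizer⟩)
  obtain ⟨a, b, -, h3⟩ := Set.ncard_eq_two.mp (show (TS G \ {ix s, ix w}).ncard = 2 by
    rw [Set.ncard_sdiff (by rintro _ (rfl | rfl); exacts [⟨s, s1, rfl⟩, ⟨w, w1, rfl⟩]), h4,
      Set.ncard_pair fun e : ix s = ix w => hs (e ▸ w3)])
  have h5 : ∀ x : G, x ≠ 1 → Odd (orderOf x) → ix x = a ∨ ix x = b := fun x hx ho =>
    h3.le ⟨⟨x, hx, rfl⟩, by
      rintro (e | e)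
      exacts [h2 s1 (PE.of_orderOf os) (h1 hx ho e.symm.dvd), h2 w1 w2 (h1 hx ho e.symm.dvd)]⟩
  have h6 : ∀ {x y : G}, x ≠ 1 → y ≠ 1 → Odd (orderOf x) → Odd (orderOf y) → ix x ∣ ix y →
      ix y = ix x := fun {x y} hx hy ox oy e => by_contra fun e' => by
    obtain ⟨p, a1, a2, a3⟩ := exists_other p2 (ix_pos x).ne' fun ⟨k, hk⟩ => ix_ne_pow hG hx p2 k hk
    obtain ⟨z, oz, hz⟩ := exists_full (G := G) a1 (a3.trans (index_dvd_card _))
    have h7 := h5 z (ne_one_of_orderOf a1 oz) (oz ▸ a1.odd_of_ne_two a2)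
    have h8 := h5 x hx ox
    have h9 := h5 y hy oy
    have h10 : ix z = ix x ∨ ix z = ix y := by omega
    exact hz (h10.elim (fun e => e ▸ a3) fun e' => e' ▸ a3.trans e)
  refine ⟨⟨a, b, h5⟩, fun x hx ho hn u hu u1 => ?_⟩
  have mx : Mx x := ⟨hx, fun y hy e => (h6 hy hx (h1 hx ho e) ho e).symm⟩
  exact mx.eq u1 (le_of_comm (comm_of_free ⟨hx, fun y hy e => h6 hx hy ho (((cit_odd hC hx ho).of_dvd_nat
    (card_dvd_of_ix e)).of_dvd_nat (orderOf_dvd_card y)) e⟩ mx hn) hu)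

omit hG hs in
theorem not_pgroup {X : Subgroup G} {p r : ℕ} (hp : p.Prime) (hr : r.Prime) (hne : p ≠ r)
    (h1 : p ∣ Nat.card X) (h2 : r ∣ Nat.card X) (l : ℕ) (hl : l.Prime) : ¬ IsPGroup l X := fun e => by
  have : Fact l.Prime := ⟨hl⟩
  obtain ⟨k, hk⟩ := e.exists_card_eq
  exact hne (((Nat.prime_dvd_prime_iff_eq hp hl).mp (hp.dvd_of_dvd_pow (hk ▸ h1))).trans
    ((Nat.prime_dvd_prime_iff_eq hr hl).mp (hr.dvd_of_dvd_pow (hk ▸ h2))).symm)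

theorem not_l34 {V W : Subgroup G} (h : CIT.L34 V W) (hL : ¬ L2e G) : (TS G).ncard ≠ 4 := fun h4 => by
  obtain ⟨⟨a, b, h1⟩, h2⟩ := cit_types hG h.cit hL h4
  obtain ⟨F, _, _, e1, ⟨e2⟩⟩ := CIT.l34 G V W h
  have hc : Nat.card G = 20160 := (Nat.card_congr e2.toEquiv).trans (H2.psl34_simple F e1).2
  have key : ∀ {p r : ℕ} {x y : G}, p.Prime → r.Prime → p ≠ r → p ≠ 2 → r ∣ 20160 → orderOf x = p →
      ¬ p ∣ ix x → ¬ r ∣ ix y → ix x = ix y → ∃ c ∈ Nat.divisors 315, ¬ p ∣ 20160 / c ∧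
        ¬ r ∣ 20160 / c ∧ 20160 / c % c ∣ c - 1 := fun {p r x y} hp hr hne p2 r1 ox hx hy e => by
    have x1 := ne_one_of_orderOf hp ox
    have o : Odd (orderOf x) := ox ▸ hp.odd_of_ne_two p2
    have h3 := card_mul_ix x
    have h5 := ti_count (h2 x x1 o (not_pgroup hp hr hne (ox ▸ orderOf_dvd_card x)
      (((Nat.Prime.dvd_mul hr).mp (h3 ▸ hc ▸ r1)).resolve_right (e ▸ hy)))) (self_mem x) x1
    have h6 : 20160 / Nat.card (Cen1 x) = ix x := by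
      rw [← hc, ← h3, Nat.mul_div_cancel_left _ Nat.card_pos]
    exact ⟨_, Nat.mem_divisors.mpr ⟨((Nat.coprime_two_right.mpr (cit_odd h.cit x1 o)).pow_right
      6).dvd_of_dvd_mul_left (by rw [show 2 ^ 6 * 315 = 20160 by rfl, ← hc]; exact card_subgroup_dvd_card _), by norm_num⟩,
      h6 ▸ hx, h6 ▸ e ▸ hy, h6 ▸ h5⟩
  have p3 := Nat.prime_three
  have p5 := Nat.prime_five
  have p7 := Nat.prime_seven
  obtain ⟨x, ox, hx⟩ := exists_full (G := G) p3 (by rw [hc]; norm_num)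
  obtain ⟨y, oy, hy⟩ := exists_full (G := G) p5 (by rw [hc]; norm_num)
  obtain ⟨z, oz, hz⟩ := exists_full (G := G) p7 (by rw [hc]; norm_num)
  have a1 := h1 x (ne_one_of_orderOf p3 ox) (by rw [ox]; decide)
  have a2 := h1 y (ne_one_of_orderOf p5 oy) (by rw [oy]; decide)
  have a3 := h1 z (ne_one_of_orderOf p7 oz) (by rw [oz]; decide)
  obtain e | e | e : ix x = ix y ∨ ix x = ix z ∨ ix y = ix z := by omega
  · exact absurd (key p3 p5 (by decide) (by decide) (by decide) ox hx hy e) (by decide +kernel)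
  · exact absurd (key p3 p7 (by decide) (by decide) (by decide) ox hx hz e) (by decide +kernel)
  · exact absurd (key p5 p7 (by decide) (by decide) (by decide) oy hy hz e) (by decide +kernel)

omit hG hs in
theorem sz_num {m j : ℕ} (hm : 1 ≤ m) : (2 ^ (2 * m + 1)) ^ 2 + 1 ≠ 5 ^ j := fun e => by
  have h1 : ∀ j, 5 ^ j % 24 = 1 ∨ 5 ^ j % 24 = 5 := fun j => by
    induction j with
    | zero => simp
    | succ j ih => rw [pow_succ]; omega
  have h2 : ∀ m, 16 ^ (m + 1) % 6 = 4 := fun m => by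
    induction m with
    | zero => simp
    | succ m ih => rw [pow_succ]; omega
  obtain ⟨k, rfl⟩ : ∃ k, m = k + 1 := ⟨m - 1, by omega⟩
  have h3 := h1 j
  have h4 := h2 k
  rw [show (2 ^ (2 * (k + 1) + 1)) ^ 2 = 4 * 16 ^ (k + 1) by
    rw [← pow_mul, show 16 = 2 ^ 4 by rfl, ← pow_mul]; ring] at e
  omega

omit hG hs in
theorem sz_five (m : ℕ) : 5 ∣ (2 ^ (2 * m + 1)) ^ 2 + 1 := by
  have h2 : ∀ m, 16 ^ m % 5 = 1 := fun m => by rw [Nat.pow_mod]; simp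
  have := h2 m
  rw [show (2 ^ (2 * m + 1)) ^ 2 = 4 * 16 ^ m by
    rw [← pow_mul, show 16 = 2 ^ 4 by rfl, ← pow_mul]; ring]
  omega

theorem not_sz (hI : ∀ t : G, orderOf t = 2 → H7.NPC 2 (Cen1 t)) {H : Subgroup G}
    (hH : IsStronglyEmbedded H) (hL : ¬ L2e G) : (TS G).ncard ≠ 4 := fun h4 => by
  obtain ⟨Q, D, t, h, c, e⟩ := exists_hyp hG hH
  have a := h.toA1
  obtain ⟨s, hs⟩ := a.exists_dist
  obtain ⟨n, hn, e'⟩ := a.card_Q0 h.a3
  have os := orderOf_eq_prime (p := 2) (by rw [pow_two, hs.2.2.1]) hs.2.1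
  have Qs : Q ≤ Cen1 s := fun x hx => c1_iff.mpr (a.inv_comm h.a3 hs.1 hs.2.2.1 hx)
  have h1 : ∀ w ∈ D, w ∈ Cen1 s → w ∈ Cen Q := fun w w1 w2 => (hI s os).mem_centralizer c.two Qs w2
    (h.sd.nor w1) (Nat.coprime_two_right.mpr (a.odd_D w1))
  rcases c.tri s hs with ⟨-, -, F, i1, i2, h1, h2⟩ | ⟨cQ, -, -, m, F, i1, i2, h2, h3, h5, -⟩ |
    ⟨-, -, -, ⟨w, w1, w2, w3⟩, -⟩
  · obtain ⟨f⟩ := h.equiv_of_cquot h2
    exact hL ⟨n, F, i1, i2, hn, h1.trans e',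
      ⟨(topEquiv.symm.trans (MulEquiv.subgroupCongr e.symm)).trans f⟩⟩
  swap
  · exact w3 (h1 w w1 (c1_iff.mpr (cen_iff.mp w2 s (A1.mem_Q0_of hs.1 hs.2.2.1))))
  have hV : ∀ v ∈ D, v ∈ Cen1 s → v = 1 := fun v h2 h3 => mem_bot.mp (h.faith.le ⟨h2, h1 v h2 h3⟩)
  have hV' : ∀ v ∈ Vg D t, v = 1 := fun v hv => hV v hv.1 (c1_iff.mpr (a.V_le_cen hs hv))
  have hK : ∀ d ∈ D, d ∈ Kset D t := fun d hd => by
    obtain ⟨k, hk, v, hv, rfl⟩ := a.exists_KV hd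
    rwa [hV' v hv, mul_one]
  have hC : CIT.IsCIT G := fun u ou => by
    obtain ⟨g, -, rfl⟩ := a.conj_inv (mem_top s) hs.2.1 hs.2.2.1 (mem_top u)
      (ne_one_of_orderOf Nat.prime_two ou) (by rw [← pow_two, ← ou, pow_orderOf_eq_one])
    rw [← conjS_cen1]
    refine (c.two.to_le fun x hx => ?_).map _
    obtain ⟨q, hq, d, hd, rfl⟩ := (H5.mem_sup_left_iff h.sd.nor).mp (h.sd.sup.ge
      (a.cen1_le hs.1 hs.2.1 ⟨mem_top _, hx⟩))
    rwa [hV d hd ((mul_mem_cancel_left (Qs hq)).mp hx), mul_one]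
  have hD : ∀ d ∈ D, d ≠ 1 → Cen1 d = D := fun d hd d1 => by
    refine le_antisymm (fun g hg => ?_) fun g hg => c1_iff.mpr (inv_injective (by
      rw [← (hK _ (mul_mem hg hd)).2, mul_inv_rev, ← (hK g hg).2, ← (hK d hd).2]
      simp only [mul_assoc, a.tt]))
    by_cases gH : g ∈ H
    · obtain ⟨q, hq, d', hd', rfl⟩ := (H5.mem_sup_left_iff h.sd.nor).mp (h.sd.sup.ge gH)
      rwa [mem_bot.mp ((a.K_fpf (hK d hd) d1).le ⟨hq, c1_symm (c1_iff'.mpr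
        (a.H_cen hd hq hd' (c1_iff'.mp (c1_symm hg))).1)⟩), one_mul]
    · obtain ⟨k, -, hk⟩ := a.exists_conj_V' (zpowers_le.mpr hd) (mem_top g) gH
        ((centralizer_zpowers d).ge hg)
      exact absurd (hV' _ (hk (conj_mem_conjS (mem_zpowers d)))) (conj_ne_one d1)
  have cD := a.card_K h.a3
  rw [le_antisymm A1.Kg_le fun d hd => A1.mem_Kg_of (hK d hd), ← h5, h3] at cD
  have cG := a.card_L
  rw [card_top, cQ, ← h5, h3] at cG
  have h6 := sz_five m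
  have h7 := fun j => sz_num (j := j) h2
  have h8 : 8 ≤ 2 ^ (2 * m + 1) := Nat.pow_le_pow_right (n := 2) two_pos (show 3 ≤ _ by omega)
  have h9 : 2 ∣ 2 ^ (2 * m + 1) := dvd_pow_self 2 (by omega)
  have h9' : ∀ {c : ℕ}, Odd c → c.Coprime ((2 ^ (2 * m + 1)) ^ 2) := fun hc =>
    ((Nat.coprime_two_right.mpr hc).pow_right _).pow_right _
  generalize 2 ^ (2 * m + 1) = q at cD cG h6 h7 h8 h9 h9'
  obtain ⟨⟨a, b, h10⟩, h11⟩ := cit_types hG hC hL h4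
  obtain ⟨d, hd, d1⟩ := D.bot_or_exists_ne_one.resolve_left fun e => by
    rw [e, card_bot] at cD; omega
  have od : Odd (orderOf d) := h.toA1.odd_D hd
  have h12 : ∀ {r : ℕ}, r.Prime → r ∣ q ^ 2 + 1 → r ≠ 2 ∧ ¬ r ∣ Nat.card D := fun {r} hr h1 => by
    have r2 : r ≠ 2 := fun e => by
      rw [e, pow_two] at h1
      exact absurd ((Nat.dvd_add_right (h9.mul_right q)).mp h1) (by decide)
    refine ⟨r2, fun h2 => r2 ((Nat.prime_dvd_prime_iff_eq hr Nat.prime_two).mp ?_)⟩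
    rw [← cD, show (Nat.card D + 1) ^ 2 + 1 = Nat.card D * (Nat.card D + 2) + 2 by ring] at h1
    exact (Nat.dvd_add_right (h2.mul_right _)).mp h1
  have h13 : ∀ {r : ℕ}, r.Prime → r ∣ q ^ 2 + 1 → ∃ y : G, orderOf y = r ∧ ¬ r ∣ ix y ∧
      ix y ≠ ix d ∧ (ix y = a ∨ ix y = b) := fun {r} hr h1 => by
    obtain ⟨y, oy, hy⟩ := exists_full (G := G) hr (cG ▸ h1.mul_right _)
    exact ⟨y, oy, hy, fun e => (h12 hr h1).2 (hD d hd d1 ▸ (oy ▸ orderOf_dvd_card y).trans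
      (card_dvd_of_ix e.symm.dvd)), h10 y (ne_one_of_orderOf hr oy)
        (oy ▸ hr.odd_of_ne_two (h12 hr h1).1)⟩
  obtain ⟨y, oy, -, b1, b2⟩ := h13 Nat.prime_five h6
  have y1 := ne_one_of_orderOf Nat.prime_five oy
  have o : Odd (orderOf y) := by rw [oy]; decide
  have h14 : (q ^ 2 + 1).Coprime (ix y) := Nat.coprime_of_dvd fun r hr h1 h2 => by
    obtain ⟨z, -, hz, c1, c2⟩ := h13 hr h1
    have := h10 d d1 od
    exact hz ((show ix y = ix z by omega) ▸ h2)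
  have h15 := card_mul_ix y
  have h16 : q ^ 2 + 1 ∣ Nat.card (Cen1 y) := h14.dvd_of_dvd_mul_right (h15 ▸ cG ▸ dvd_mul_right _ _)
  by_cases h17 : ∀ p : ℕ, p.Prime → ¬ IsPGroup p (Cen1 y)
  swap
  · push Not at h17
    obtain ⟨p, hp, h17⟩ := h17
    have : Fact p.Prime := ⟨hp⟩
    obtain ⟨k, hk⟩ := h17.exists_card_eq
    obtain rfl := (Nat.prime_dvd_prime_iff_eq Nat.prime_five hp).mp
      (Nat.prime_five.dvd_of_dvd_pow (hk ▸ h6.trans h16))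
    obtain ⟨j, -, hj⟩ := (Nat.dvd_prime_pow hp).mp (hk ▸ h16)
    exact h7 j hj
  have h18 := h11 y y1 o h17
  have h19 : (Nat.card (Cen1 y)).Coprime (Nat.card D) := Nat.coprime_of_dvd fun r hr h1 h2 => by
    obtain ⟨w, hw, ow⟩ := exists_mem_of_dvd hr h1
    obtain ⟨g, hg⟩ := exists_conj_comm hr (y := d) (fun e => by
      have h3 := card_mul_ix d
      rw [hD d hd d1, cG, ← mul_assoc, mul_comm _ (Nat.card D)] at h3
      rw [Nat.eq_of_mul_eq_mul_left Nat.card_pos h3] at e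
      rcases (Nat.Prime.dvd_mul hr).mp e with e | e
      · exact (h12 hr e).2 h2
      · exact hr.one_lt.ne' (Nat.eq_one_of_dvd_coprimes (h9' h.odd) h2 e)) (PE.of_orderOf ow)
    rw [← ix_conj g d] at b1
    exact b1 (congrArg index (h18 _ (h18 w hw (ne_one_of_orderOf hr ow) ▸ c1_symm hg)
      (conj_ne_one d1))).symm
  have h20 : Nat.card (Cen1 y) = q ^ 2 + 1 := Nat.dvd_antisymm
    (((h9' (cit_odd hC y1 o)).mul_right h19).dvd_of_dvd_mul_right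
      (cG ▸ card_subgroup_dvd_card _)) h16
  have h21 := ti_count h18 (self_mem y) y1
  rw [h20, cG] at h15
  rw [h20, Nat.eq_of_mul_eq_mul_left (by positivity) h15, Nat.add_sub_cancel] at h21
  obtain ⟨k, hk⟩ : ∃ k, Nat.card D = k + 1 := ⟨Nat.card D - 1, by omega⟩
  obtain rfl : q = k + 2 := by omega
  rw [hk, show (k + 2) ^ 2 * (k + 1) = k ^ 2 + 3 * k + 4 + ((k + 2) ^ 2 + 1) * k by ring,
    Nat.add_mul_mod_self_left, Nat.mod_eq_of_lt (by nlinarith)] at h21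
  obtain ⟨j, hj⟩ := h21
  rcases j with _ | _ | j <;> nlinarith

omit hs hG in
theorem l2_cases {F : Type} [Field F] [Fintype F] (h : 3 < Fintype.card F)
    (e : G ≃* Matrix.ProjectiveSpecialLinearGroup (Fin 2) F) :
    L2e G ∨ Odd (Fintype.card F) := by
  obtain ⟨p, hp, n, h1⟩ := FiniteField.card' F
  by_cases h2 : p = 2
  · subst h2
    refine Or.inl ⟨n, F, _, _, ?_, h1.2, ⟨e⟩⟩
    by_contra! h3
    have := Nat.pow_le_pow_right (n := 2) two_pos (Nat.lt_succ_iff.mp h3)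
    omega
  · exact Or.inr (h1.2 ▸ (h1.1.odd_of_ne_two h2).pow)

theorem Cn.four (h : Cn G) (h4 : (TS G).ncard = 4) : ∃ (F : Type) (_ : Field F) (_ : Fintype F),
    Odd (Fintype.card F) ∧ 7 ≤ Fintype.card F ∧
      Nonempty (G ≃* Matrix.ProjectiveSpecialLinearGroup (Fin 2) F) := by
  have h1 : TS' G = TS G := ts_eq hG
  have hL : ¬ L2e G := fun e => by have := e.rank_three.2.2; rw [h1] at this; omega
  rcases h with ⟨F, i1, i2, h2, ⟨e⟩⟩ | ⟨⟨e⟩⟩ | ⟨h2, M, hM⟩ | ⟨V, W, h2⟩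
  · have h3 := (l2_cases h2 e).resolve_left hL
    refine ⟨F, i1, i2, h3, by_contra fun h5 => ?_, ⟨e⟩⟩
    have := psl_five (F := F) (by obtain ⟨k, hk⟩ := h3; omega)
    rw [← ts_congr e, h1] at this
    omega
  · have := a7_rank
    rw [← ts_congr e, h1] at this
    omega
  · exact absurd h4 (not_sz hG h2 hM hL)
  · exact absurd h4 (not_l34 hG h2 hL)

omit hs hG in
theorem exists_mx (hx : x ≠ 1) : ∃ y : G, Mx y ∧ ix y ∣ ix x := by
  obtain ⟨y, ⟨h1, h2⟩, h3⟩ := exists_minimalFor_of_wellFoundedLT (fun y : G => y ≠ 1 ∧ ix y ∣ ix x)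
    (fun y => ix y) ⟨x, hx, dvd_rfl⟩
  exact ⟨y, ⟨h1, fun z hz e => le_antisymm (Nat.le_of_dvd (ix_pos y) e)
    (h3 ⟨hz, e.trans h2⟩ (Nat.le_of_dvd (ix_pos y) e))⟩, h2⟩

/-- the heads -/
def Hd (G : Type*) [Group G] : Set ℕ := {m | ∃ x : G, Mx x ∧ m = ix x}

omit hs hG in
theorem hd_sub : Hd G ⊆ TS G := fun _ ⟨x, hx, e⟩ => ⟨x, hx.1, e⟩

omit hs hG in
theorem ts_fin : (TS G).Finite := (Set.finite_range (ix : G → ℕ)).subset fun _ ⟨x, _, e⟩ => ⟨x, e.symm⟩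

theorem cn_of_hd (h : (TS G).ncard ≤ (Hd G).ncard + 1) : Cn G := by
  have h1 : (TS G \ Hd G).ncard ≤ 1 := by
    rw [Set.ncard_sdiff hd_sub (ts_fin.subset hd_sub)]; omega
  obtain ⟨γ, h2⟩ : ∃ γ, TS G \ Hd G ⊆ {γ} := by
    rcases (Set.ncard_le_one_iff_eq ts_fin.sdiff).mp h1 with e | ⟨a, e⟩
    exacts [⟨0, e ▸ Set.empty_subset _⟩, ⟨a, e.le⟩]
  have h3 : ∀ x : G, x ≠ 1 → ¬ Mx x → ix x = γ := fun x hx h3 =>
    h2 ⟨⟨x, hx, rfl⟩, fun ⟨y, hy, e⟩ => h3 (hy.congr hx e)⟩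
  exact One.cn hG (K := (· ≠ 1)) (γ := γ) ⟨fun _ _ _ h _ => h, fun x hx => or_iff_not_imp_left.mpr
    fun h4 => ⟨⟨hx, fun y hy e => by_cases (fun h5 : Mx y => (h5.2 x hx e).symm) fun h5 =>
      (h3 y hy h5).trans (h3 x hx h4).symm⟩, h3 x hx h4⟩⟩ fun _ h _ => h

theorem th_of_hd (h : (Hd G).ncard ≤ 2) : ∃ α β, TH G α β := by
  have h1 : ∀ {n : ℕ}, n ≠ 1 → ¬ ∀ m ∈ Hd G, n ∣ m := fun hn h1 => not_forall_dvd hG hn fun x hx => by
    obtain ⟨y, hy, e⟩ := exists_mx hx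
    exact (h1 _ ⟨y, hy, rfl⟩).trans e
  obtain ⟨x, hx⟩ := exists_ne (1 : G)
  obtain ⟨x, hx, -⟩ := exists_mx hx
  have h2 := h1 (ix_ne_one hG hx.1)
  push Not at h2
  obtain ⟨_, ⟨y, hy, rfl⟩, h2⟩ := h2
  have h3 : {ix x, ix y} = Hd G := Set.eq_of_subset_of_ncard_le (by
    rintro _ (rfl | rfl); exacts [⟨x, hx, rfl⟩, ⟨y, hy, rfl⟩]) (by
      rwa [Set.ncard_pair fun e : ix x = ix y => h2 e.dvd]) (ts_fin.subset hd_sub)
  refine ⟨ix x, ix y, Nat.coprime_of_dvd fun p hp a b => h1 hp.one_lt.ne' fun m hm => ?_,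
    fun z hz => ?_, ⟨x, hx.1, rfl⟩, ⟨y, hy.1, rfl⟩⟩
  · rcases h3.ge hm with rfl | rfl <;> assumption
  · obtain ⟨w, hw, e⟩ := exists_mx hz
    rcases (h3.ge ⟨w, hw, rfl⟩ : ix w ∈ _) with e' | e' <;> rw [e'] at e
    exacts [.inl e, .inr e]

theorem cn_of_even {α β d : ℕ} (h : TH G α β) (hc : Nat.card G = α * β) (h2 : 2 ∣ α)
    (hd : ∀ w : G, w ≠ 1 → β ∣ ix w → ix w = β ∨ ix w = d) : Cn G :=
  One.cn hG (K := fun w => w ≠ 1 ∧ β ∣ ix w) (γ := d)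
    ⟨fun x y hx hy e => ⟨hy, h.dvd_ix' hG hc hx.2 hy e⟩, fun x hx => (hd x hx.1 hx.2).imp
      (h.symm.mx hG hx.1) fun e => ⟨⟨hx.1, fun y hy e' => (hd y hy (hx.2.trans e')).elim
        (fun e'' => Nat.dvd_antisymm (e'' ▸ hx.2) e') fun e'' => e''.trans e.symm⟩, e⟩⟩
    fun w hw h1 => ⟨hw, h.dvd_ix hG hc hw Nat.prime_two
      ((h1.dvd Nat.prime_two hw).trans (orderOf_dvd_card w)) h2⟩

theorem exists_above {α β : ℕ} (h : TH G α β) :
    ∃ w : G, w ≠ 1 ∧ ix w ≠ β ∧ ¬ α ∣ ix w ∧ β ∣ ix w := by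
  by_contra! h1
  exact g1 hG h fun w hw => by_contra fun e => (not_or.mp e).2
    ((h.dvd w hw).resolve_right (h1 w hw (not_or.mp e).1 (not_or.mp e).2))

theorem inf_eq_bot_of_mn {α β : ℕ} (h : TH G α β)
    (h1 : ∀ w : G, w ≠ 1 → ix w ≠ α → ix w ≠ β → Mn w) : Nat.card G = α * β := by
  obtain ⟨x, hx, e⟩ := h.exa
  obtain ⟨y, hy, e'⟩ := h.exb
  refine h.card_eq hG e e' (by_contra fun h0 => ?_)
  obtain ⟨w, hw, hp⟩ := exists_prime_orderOf_mem h0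
  have h2 := ne_one_of_prime_orderOf hp
  exact h.not_mn hG hx hy e e' hp (c1_symm hw.1) (c1_symm hw.2) (h1 w h2
    (fun e => h.nc hG h2 hy e e' hw.2) fun e' => h.symm.nc hG h2 hx e' e hw.1)

theorem cn_of_four (h4 : (TS G).ncard = 4) : Cn G := by
  by_cases h1 : (Hd G).ncard ≤ 2
  swap; · exact cn_of_hd hG (by omega)
  obtain ⟨α, β, h⟩ := th_of_hd hG h1
  obtain ⟨u, u1, u2, u3, u4⟩ := exists_above hG h.symm
  obtain ⟨w, w1, w2, w3, w4⟩ := exists_above hG h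
  have h2 : ¬ α ∣ β := fun e => h.ne_one hG (h.cop.eq_one_of_dvd e)
  have h3 : ¬ β ∣ α := fun e => h.symm.ne_one hG (h.cop.symm.eq_one_of_dvd e)
  have h5 : {α, β, ix u, ix w} = TS G := Set.eq_of_subset_of_ncard_le (by
    obtain ⟨x, hx, rfl⟩ := h.exa
    obtain ⟨y, hy, rfl⟩ := h.exb
    rintro _ (rfl | rfl | rfl | rfl)
    exacts [⟨x, hx, rfl⟩, ⟨y, hy, rfl⟩, ⟨u, u1, rfl⟩, ⟨w, w1, rfl⟩]) (by
      rw [h4, Set.ncard_insert_of_notMem, Set.ncard_insert_of_notMem, Set.ncard_pair]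
      · exact fun e => w3 (e ▸ u4)
      · rintro (e | e)
        exacts [u3 e.dvd, w2 e.symm]
      · rintro (e | e | e)
        exacts [h2 e.dvd, u2 e.symm, w3 e.dvd]) ts_fin
  have h6 : ∀ z : G, z ≠ 1 → ix z = α ∨ ix z = β ∨ ix z = ix u ∨ ix z = ix w := fun z hz =>
    h5.ge ⟨z, hz, rfl⟩
  have h7 : ∀ z : G, z ≠ 1 → α ∣ ix z → ix z = α ∨ ix z = ix u := fun z hz e => by
    rcases h6 z hz with e' | e' | e' | e'
    exacts [.inl e', absurd (e' ▸ e) h2, .inr e', absurd (e' ▸ e) w3]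
  have h8 : ∀ z : G, z ≠ 1 → β ∣ ix z → ix z = β ∨ ix z = ix w := fun z hz e => by
    rcases h6 z hz with e' | e' | e' | e'
    exacts [absurd (e' ▸ e) h3, .inl e', absurd (e' ▸ e) u3, .inr e']
  have hc := inf_eq_bot_of_mn hG h fun z hz a b => ⟨hz, fun y hy e => by
    rcases h.dvd z hz with e' | e'
    · rcases h7 y hy (e'.trans e) with c | c
      exacts [Nat.dvd_antisymm (c ▸ e') e, c.trans ((h7 z hz e').resolve_left a).symm]
    · rcases h8 y hy (e'.trans e) with c | c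
      exacts [Nat.dvd_antisymm (c ▸ e') e, c.trans ((h8 z hz e').resolve_left b).symm]⟩
  rcases (Nat.Prime.dvd_mul Nat.prime_two).mp (hc ▸ (even_of_simple hG).two_dvd) with e | e
  exacts [cn_of_even hG h hc e h8, cn_of_even hG h.symm (hc.trans (mul_comm _ _)) e h7]

end I4
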