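import Cfsg.Agent.I4.E

/-! Two-headed simple groups: the intersection of the two maximal centralizers. -/

set_option autoImplicit false
set_option linter.unusedSectionVars false
set_option linter.unusedVariables false

namespace I4

open Cfsg Subgroup FT H4 BS IT
open H5 (IsSylowOf)
open scoped Classical commutatorElement

universe u

variable {G : Type u} [Group G] [Finite G] {x y z w : G} {α β d e : ℕ}

theorem card_inf (h : TH G α β) (e : ix x = α) (e' : ix y = β) :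
    Nat.card ↥(Cen1 x ⊓ Cen1 y) * (α * β) = Nat.card G := by
  rw [← card_mul_index (Cen1 x ⊓ Cen1 y), index_inf_of_coprime (by
    rw [show (Cen1 x).index = α from e, show (Cen1 y).index = β from e']; exact h.cop), ← e, ← e']

variable [hs : IsSimpleGroup G] (hG : ¬ IsMulCommutative G)
include hG

theorem exists_big (h : TH G α β) (hx : x ≠ 1) (e : ix x = α) (hr : (orderOf y).Prime)
    (e' : ix y = β) (h1 : orderOf y ∣ Nat.card ↥(Cen1 x ⊓ Cen1 y)) :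
    ∃ w, orderOf w = orderOf y ∧ w ∈ Cen1 x ∧ w ∈ Cen1 y ∧ ¬ α ∣ ix w ∧ ix w ≠ β ∧
      ∀ n, Nat.card (Cen1 w) ∣ Nat.card ↥(Cen1 x ⊓ Cen1 y) * n → orderOf y ∣ n := by
  have : Fact (orderOf y).Prime := ⟨hr⟩
  have hy := ne_one_of_prime_orderOf hr
  obtain ⟨R, hR⟩ := H5.exists_isSylowOf (orderOf y) (Cen1 x ⊓ Cen1 y)
  obtain ⟨w, hw, ow, h2⟩ := exists_cen hr hR.isPGroup (hR.ne_bot h1)
  have h3 : IsPGroup (orderOf y) ↥(R ⊔ zpowers y) := hR.isPGroup.to_sup_of_normal_right'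
    (PE.of_orderOf rfl).isPGroup (hR.le.trans (inf_le_right.trans
      ((centralizer_zpowers y).ge.trans (centralizer_le_normalizer _))))
  have h4 : ∀ n, Nat.card (Cen1 w) ∣ Nat.card ↥(Cen1 x ⊓ Cen1 y) * n → orderOf y ∣ n := fun n hn => by
    by_contra h4
    obtain ⟨k, hk⟩ := h3.exists_card_eq
    have h5 := (hall_singleton.mpr hR).dvd_card (Nat.Coprime.dvd_of_dvd_mul_right
      (hk ▸ ((Nat.Prime.coprime_iff_not_dvd hr).mpr h4).pow_left k) ((card_dvd_of_le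
        (sup_le h2 (zpowers_le.mpr (c1_symm (hR.le hw).2)))).trans hn)) (piG_singleton.mpr h3)
    exact h.symm.nc hG hy hx e' e (hR.le ((eq_of_le_of_card_ge le_sup_left
      (Nat.le_of_dvd Nat.card_pos h5)).ge (mem_sup_right (mem_zpowers y)))).1
  refine ⟨w, ow, (hR.le hw).1, (hR.le hw).2, fun h5 => hr.one_lt.ne' (Nat.eq_one_of_dvd_coprimes
    h.cop (h.symm.dvd_of hG hy e' hr dvd_rfl) (h4 β ?_)),
    fun h5 => h.symm.nc hG (ne_one_of_orderOf hr ow) hx h5 e (hR.le hw).1, h4⟩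
  refine (card_dvd_of_ix (e ▸ h5)).trans (dvd_of_eq (Nat.eq_of_mul_eq_mul_right (ix_pos x) ?_))
  rw [card_mul_ix, ← card_inf h e e', e]; ring

theorem exists_heads (h : TH G α β) : ∃ x : G, (orderOf x).Prime ∧ ix x = α := by
  obtain ⟨x, hx, e⟩ := h.exa
  obtain ⟨x, hp, e1⟩ := (h.mx hG hx e).exists_prime
  exact ⟨x, hp, (congrArg index e1).trans e⟩

theorem hc_of (h : TH G α β) (h1 : ∀ w : G, w ≠ 1 → α ∣ ix w → ¬ β ∣ ix w)
    (h2 : ∀ w : G, w ≠ 1 → β ∣ ix w → ix w ≠ β → Mn w) : Nat.card G = α * β := by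
  obtain ⟨x, hx, e⟩ := h.exa
  obtain ⟨y, hr, e'⟩ := exists_heads hG h.symm
  have hy := ne_one_of_prime_orderOf hr
  have h3 : ∀ w ∈ Cen1 x, w ∈ Cen1 y → (orderOf w).Prime → α ∣ ix w := fun w a b hp =>
    have w1 := ne_one_of_prime_orderOf hp
    (h.dvd w w1).resolve_right fun c => h.not_mn hG hx hy e e' hp (c1_symm a) (c1_symm b)
      (h2 w w1 c fun c => h.symm.nc hG w1 hx c e a)
  refine h.card_eq hG e e' (by_contra fun h0 => ?_)
  obtain ⟨w, hw, hp⟩ := exists_prime_orderOf_mem h0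
  obtain ⟨v, a1, a2, a3, a4, -⟩ := exists_big hG h hx e hr e' (by
    by_cases h4 : orderOf y = orderOf w
    · exact h4 ▸ orderOf_dvd_natCard _ hw
    have o := (Nat.coprime_primes hr hp).mpr h4
    have h5 := cen1_mul hw.2 o
    exact absurd (e' ▸ ix_dvd (h5.le.trans inf_le_left)) (h1 _ (mul_ne_one hy hw.2 o)
      ((h3 w hw.1 hw.2 hp).trans (ix_dvd (h5.le.trans inf_le_right)))))
  exact a4 (h3 v a2 a3 (a1 ▸ hr))

section CaseA
variable (h : TH G α β) (h1 : ∀ z : G, z ≠ 1 → α ∣ ix z → β ∣ ix z → ix z = e)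
  (h2 : ∀ z : G, z ≠ 1 → ¬ α ∣ ix z → ix z = β ∨ ix z = d)
  (h3 : ∃ u : G, u ≠ 1 ∧ α ∣ ix u ∧ β ∣ ix u)
include h h1 h2 h3

theorem caseA_up (hw : w ≠ 1) (a : ¬ α ∣ ix w) (b : ix w ≠ β) (hz : z ≠ 1) (c : Cen1 z ≤ Cen1 w) :
    Cen1 z = Cen1 w ∨ ix z = e := by
  have h4 := (h.dvd w hw).resolve_left a
  by_cases h5 : α ∣ ix z
  · exact Or.inr (h1 z hz h5 (h4.trans (ix_dvd c)))
  rcases h2 z hz h5 with h6 | h6
  · exact absurd (Nat.dvd_antisymm (h6 ▸ ix_dvd c) h4) b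
  · exact Or.inl (eq_of_index c (h6.trans ((h2 w hw a).resolve_left b).symm))

theorem caseA_one (hx : x ≠ 1) (ex : ix x = α) (hr : (orderOf y).Prime) (ey : ix y = β) :
    ∃ w, orderOf w = orderOf y ∧ w ∈ Cen1 x ∧ w ∈ Cen1 y ∧ ¬ α ∣ ix w ∧ ix w ≠ β ∧
      ∀ m, d * m = e → orderOf y ∣ m := by
  have hy := ne_one_of_prime_orderOf hr
  obtain ⟨u, u1, u2, u3⟩ := id h3
  have h4 : ∀ z : G, ix z = e → Nat.card (Cen1 z) ∣ Nat.card ↥(Cen1 x ⊓ Cen1 y) := fun z hz =>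
    Nat.dvd_of_mul_dvd_mul_right (Nat.mul_pos (ex ▸ ix_pos x) (ey ▸ ix_pos y)) (by
      rw [card_inf h ex ey, ← card_mul_ix z, hz, ← h1 u u1 u2 u3]
      exact mul_dvd_mul_left _ (h.cop.mul_dvd_of_dvd_of_dvd u2 u3))
  obtain ⟨v, hv, hp⟩ := exists_prime_orderOf_mem (X := Cen1 x ⊓ Cen1 y) fun e => u1 (by
    have := (orderOf_dvd_card u).trans (h4 u (h1 u u1 u2 u3))
    rwa [e, card_bot, Nat.dvd_one, orderOf_eq_one_iff] at this)
  have v1 := ne_one_of_prime_orderOf hp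
  obtain ⟨w, a1, a2, a3, a4, a5, a6⟩ := exists_big hG h hx ex hr ey (by
    by_cases h5 : orderOf y = orderOf v
    · exact h5 ▸ orderOf_dvd_natCard _ hv
    have o := (Nat.coprime_primes hr hp).mpr h5
    have h6 := cen1_mul hv.2 o
    have h7 := mul_ne_one hy hv.2 o
    refine (orderOf_dvd_natCard _ (h6.ge ⟨self_mem y, c1_symm hv.2⟩)).trans (h4 _ ?_)
    by_cases h8 : α ∣ ix v
    · exact h1 _ h7 (h8.trans (ix_dvd (h6.le.trans inf_le_right)))
        (ey ▸ ix_dvd (h6.le.trans inf_le_left))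
    · exact (caseA_up hG h h1 h2 h3 v1 h8 (fun e => h.symm.nc hG v1 hx e ex hv.1) h7
        (h6.le.trans inf_le_right)).resolve_left fun e =>
          h.nc hG hx hy ex ey (h6.le (e.ge (c1_symm hv.1))).1)
  refine ⟨w, a1, a2, a3, a4, a5, fun m hm => a6 m (dvd_trans (dvd_of_eq ?_)
    (mul_dvd_mul_right (h4 u (h1 u u1 u2 u3)) m))⟩
  refine Nat.eq_of_mul_eq_mul_right (ix_pos w) ?_
  rw [card_mul_ix, (h2 w (ne_one_of_orderOf hr a1) a4).resolve_left a5, mul_assoc, mul_comm m, hm,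
    ← h1 u u1 u2 u3, card_mul_ix]

theorem caseA : False := by
  obtain ⟨x, hp, ex⟩ := exists_heads hG h
  obtain ⟨y, hr, ey⟩ := exists_heads hG h.symm
  have hx := ne_one_of_prime_orderOf hp
  have hy := ne_one_of_prime_orderOf hr
  obtain ⟨w, a1, a2, a3, a4, a5, a6⟩ := caseA_one hG h h1 h2 h3 hx ex hr ey
  have w1 := ne_one_of_orderOf hr a1
  have wd := (h2 w w1 a4).resolve_left a5
  have np : ∀ {l : ℕ}, l.Prime → l ∣ α → l ≠ orderOf x := fun hl a b => hl.one_lt.ne'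
    (Nat.eq_one_of_dvd_coprimes h.cop a (h.dvd_of hG hx ex hl b.dvd))
  have rα := h.symm.dvd_of hG hy ey hr dvd_rfl
  have xn : ¬ Cen1 w ≤ Cen1 x := fun e => h.symm.nc hG hy hx ey ex (e (c1_symm a3))
  have up : ∀ {z g : G}, z ≠ 1 → Cen1 z = Cen1 w → g ∈ Cen1 w → (orderOf z).Coprime (orderOf g) →
      ¬ Cen1 w ≤ Cen1 g → Cen1 (z * g) = Cen1 w ⊓ Cen1 g ∧ ix (z * g) = e := fun hz e hg o hn =>
    have h4 := e ▸ cen1_mul (e ▸ hg) o
    ⟨h4, (caseA_up hG h h1 h2 h3 w1 a4 a5 (mul_ne_one hz (e ▸ hg) o) (h4.le.trans inf_le_left)).resolve_left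
      fun e => hn (e.ge.trans (h4.le.trans inf_le_right))⟩
  have ox : ∀ {l : ℕ} {z : G}, l.Prime → l ∣ α → orderOf z = l → (orderOf z).Coprime (orderOf x) :=
    fun hl a b => b ▸ (Nat.coprime_primes hl hp).mpr (np hl a)
  have h4 := rel_mul (c1_symm a2) (ox hr rα a1)
  rw [(up w1 rfl (c1_symm a2) (ox hr rα a1) xn).2, wd, mul_comm] at h4
  set m := (Cen1 x).relIndex (Cen1 w)
  have cs : ∀ {z g : G}, z ≠ 1 → Cen1 z = Cen1 w → g ∈ Cen1 w → (orderOf z).Coprime (orderOf g) →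
      CS (Cen1 w) m g := fun {z g} hz e hg o => or_iff_not_imp_left.mpr fun hn => by
    have h5 := rel_mul (e ▸ hg) o
    rw [(up hz e hg o hn).2, ix, e, ← h4, ← wd, mul_comm] at h5
    exact Nat.eq_of_mul_eq_mul_left (ix_pos w) h5
  obtain ⟨l, hl, b1, b2⟩ := exists_other hr (ex ▸ (ix_pos x).ne') fun ⟨k, hk⟩ =>
    ix_ne_pow hG hx hr k (ex.trans hk)
  obtain ⟨u, u1, u2, u3⟩ := id h3
  have b3 : l ∣ m := by_contra fun e' => by
    obtain ⟨v, ov, hv⟩ := exists_full (G := G) hl (b2.trans (ex ▸ index_dvd_card _))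
    obtain ⟨-, -, -, -, -, -, c⟩ := caseA_one hG h h1 h2 h3 hx ex (ov ▸ hl)
      ((h2 v (ne_one_of_orderOf hl ov) fun e => hv (b2.trans e)).resolve_right fun e => hv (e ▸
        ((Nat.Prime.dvd_mul hl).mp (h4 ▸ h1 u u1 u2 u3 ▸ b2.trans u2)).resolve_right e'))
    exact e' (ov ▸ c m h4)
  have : Fact l.Prime := ⟨hl⟩
  have pw := PE.of_orderOf a1
  obtain ⟨P, hP⟩ := H5.exists_isSylowOf l (Cen1 w)
  obtain ⟨z, hz, oz, b4⟩ := exists_cen hl hP.isPGroup (hP.ne_bot (b3.trans (relIndex_dvd_card _ _)))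
  have z1 := ne_one_of_orderOf hl oz
  have pz := PE.of_orderOf oz
  have b5 := (cs w1 rfl (hP.le hz) (pw.coprime' pz hr hl b1.symm)).cen b3 (not_dvd_rel hP b4)
  have b6 : Cen1 z = Cen1 w := (eq_of_index b5 (wd.trans ((h2 z z1 fun e => a4 (e.trans
    (ix_dvd b5))).resolve_left fun e => h.symm.nc hG z1 hx e ex (c1_symm (b5 (c1_symm a2)))).symm)).symm
  have mn : ∀ {l l' : ℕ} {z : G}, l.Prime → l ∣ α → l'.Prime → l' ∣ α → l ≠ l' → orderOf z = l →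
      Cen1 z = Cen1 w → ∀ g ∈ Cen1 w ⊓ Cen1 x, PE l' g → Cen1 w ⊓ Cen1 x ≤ Cen1 g :=
    fun {l l' z} hl a hl' a' hne oz e g hg pg => by
      have z1 := ne_one_of_orderOf hl oz
      obtain ⟨c1, c2⟩ := up z1 e (c1_symm a2) (ox hl a oz) xn
      have c3 : x ∈ Cen1 z := e ▸ c1_symm a2
      rw [← c1] at hg ⊢
      refine Mn.le ⟨mul_ne_one z1 c3 (ox hl a oz), fun v hv c => (h1 v hv ?_ ?_).trans c2.symm⟩ hg
        (Nat.Coprime.coprime_dvd_left (Commute.orderOf_mul_dvd_mul_orderOf (c1_iff.mp c3).symm)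
          (Nat.Coprime.mul_left ((PE.of_orderOf oz).coprime' pg hl hl' hne)
            ((PE.of_orderOf rfl).coprime' pg hp hl' (np hl' a').symm)))
      exacts [u2.trans (h1 u u1 u2 u3 ▸ c2 ▸ c), u3.trans (h1 u u1 u2 u3 ▸ c2 ▸ c)]
  exact ep hr hl b1.symm (a6 m h4) b3 (fun g hg pg => cs z1 b6 hg (pz.coprime' pg hl hr b1))
    (fun g hg pg => cs w1 rfl hg (pw.coprime' pg hr hl b1.symm)) inf_le_left (zle (c1_symm a2))
    (rel_inf _ _) (mn hl b2 hr rα b1 oz b6) (mn hr rα hl b2 b1.symm a1 rfl)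

end CaseA

end I4
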