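import Cfsg.Agent.I4.F

/-! Two-headed simple groups: the odd component. -/

set_option autoImplicit false
set_option linter.unusedSectionVars false
set_option linter.unusedVariables false

namespace I4

open Cfsg Subgroup FT H4 BS IT
open H5 (IsSylowOf)
open scoped Classical commutatorElement

universe u

variable {G : Type u} [Group G] [Finite G] {x y z w u v : G} {α β d s l : ℕ} {X L : Subgroup G}

theorem cen_of_pn (hl : l.Prime) (h1 : ¬ l ∣ (Cen1 u).relIndex L)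
    (h2 : ∀ a ∈ L, (orderOf a).Coprime l → a ∈ Cen1 u) : L ≤ Cen1 u :=
  H5.le_of_forall_sylow fun q hq _ => by
    by_cases e : q = l
    · subst e
      obtain ⟨P, hP⟩ := H5.exists_isSylowOf q (L ⊓ Cen1 u)
      exact ⟨P, syl_up hl hP h1, hP.le.trans inf_le_right⟩
    · obtain ⟨P, hP⟩ := H5.exists_isSylowOf q L
      exact ⟨P, hP, fun a ha => h2 a (hP.le ha) ((PE.of_mem hP.isPGroup ha).coprime
        ((Nat.coprime_primes hl hq.out).mpr (Ne.symm e)))⟩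

theorem nil_of_cen (hs : s.Prime) (h : ∀ g ∈ L, (orderOf g).Coprime s → L ≤ Cen1 g) :
    Group.IsNilpotent L := by
  have : Fact s.Prime := ⟨hs⟩
  obtain ⟨P, hP⟩ := H5.exists_isSylowOf s L
  have h1 := le_nor_of_central hs hP h
  refine isNilpotent_of_le (le_of_forall_p_p' s (fun g hg h2 => le_fittingIn hP.le h1
    hP.isPGroup.isNilpotent (mem_syl' hs hP h1 hg h2)) fun g hg ho => le_fittingIn
      (zpowers_le.mpr hg) ((h g hg ho).trans ((centralizer_zpowers g).ge.trans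
        (centralizer_le_normalizer _))) (nil_of_comm inferInstance) (mem_zpowers g))
    (isNilpotent_fittingIn L)

theorem not_frob [hs : IsSimpleGroup G] : ¬ IsFrobeniusComplement X := fun hF => by
  obtain ⟨N, hN, eN⟩ := H5.exists_frobeniusKernel_eq hF
  have mN : ∀ n, n ∈ N ↔ n ∈ frobeniusKernel X := fun n => by rw [← eN]; rfl
  rcases hs.eq_bot_or_eq_top_of_normal N hN with e | e
  · refine hF.2.1 (top_of_cover fun g => ?_)
    by_contra! h5
    have h6 : g = 1 := mem_bot.mp (e ▸ (mN g).mpr (H5.mem_frobeniusKernel.mpr (Or.inr fun k => by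
      simpa using h5 k⁻¹)))
    exact h5 1 (by simp [h6])
  · obtain ⟨a, ha, a1⟩ := X.bot_or_exists_ne_one.resolve_left hF.1
    exact (H5.mem_frobeniusKernel.mp ((mN a).mp (e.ge (mem_top a)))).elim a1 fun h =>
      h 1 (by simpa using ha)

/-- two heads, coprime factorization, two types above `β`, of odd centralizer order -/
structure BO (G : Type u) [Group G] (α β d : ℕ) : Prop where
  th : TH G α β
  hc : Nat.card G = α * β
  hd : ∀ w : G, w ≠ 1 → β ∣ ix w → ix w = β ∨ ix w = d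
  odd : Odd α

variable [hs : IsSimpleGroup G] (hG : ¬ IsMulCommutative G)
include hG

namespace BO
variable (h : BO G α β d)
include h

theorem up (hy : β ∣ ix y) (hx : x ≠ 1) (e : x ∈ Cen1 y) : β ∣ ix x := h.th.dvd_ix' hG h.hc hy hx e

theorem dvd (hu : β ∣ ix u) : Nat.card (Cen1 u) ∣ α :=
  h.th.symm.card_dvd hG (h.hc.trans (mul_comm _ _)) hu

theorem card_b (e : ix y = β) : Nat.card (Cen1 y) = α :=
  h.th.symm.card_cen hG (h.hc.trans (mul_comm _ _)) e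

theorem mx (hu : u ≠ 1) (e : ix u = β) : Mx u := h.th.symm.mx hG hu e

theorem ix_d (hu : u ≠ 1) (h1 : β ∣ ix u) (e : ix u ≠ β) : ix u = d := (h.hd u hu h1).resolve_left e

theorem mn (hu : u ≠ 1) (h1 : β ∣ ix u) (e : ix u ≠ β) : Mn u := ⟨hu, fun y hy e' =>
  (h.hd y hy (h1.trans e')).elim (fun e'' => absurd (Nat.dvd_antisymm (e'' ▸ e') h1) e)
    fun e'' => e''.trans (h.ix_d hG hu h1 e).symm⟩

theorem one : One (fun w : G => w ≠ 1 ∧ β ∣ ix w) d :=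
  ⟨fun x y hx hy e => ⟨hy, h.up hG hx.2 hy e⟩, fun x hx => by_cases (fun e => .inl (h.mx hG hx.1 e))
    fun e => .inr ⟨h.mn hG hx.1 hx.2 e, h.ix_d hG hx.1 hx.2 e⟩⟩

theorem nd (hl : l.Prime) (h1 : l ∣ α) : ¬ l ∣ β := fun h2 =>
  hl.one_lt.ne' (Nat.eq_one_of_dvd_coprimes h.th.cop h1 h2)

theorem of_cop (hu : u ≠ 1) (ho : (orderOf u).Coprime β) : β ∣ ix u := by
  obtain ⟨l, hl, h1⟩ := Nat.exists_prime_and_dvd (orderOf_eq_one_iff.not.mpr hu)
  exact h.th.dvd_ix hG h.hc hu hl (h1.trans (orderOf_dvd_card u)) (((Nat.Prime.dvd_mul hl).mp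
    (h.hc ▸ h1.trans (_root_.orderOf_dvd_natCard u))).resolve_right fun e =>
      hl.one_lt.ne' (Nat.eq_one_of_dvd_coprimes ho h1 e))

theorem of_mem (hX : (Nat.card X).Coprime β) (hu : u ∈ X) (h1 : u ≠ 1) : β ∣ ix u :=
  h.of_cop hG h1 (coprime_orderOf_of_mem hX hu)

theorem of_pe (hs : s ∣ α) (h1 : PE s u) (hu : u ≠ 1) : β ∣ ix u :=
  h.of_cop hG hu (h1.coprime (h.th.cop.coprime_dvd_left hs).symm)

theorem cop (hu : β ∣ ix u) : (Nat.card (Cen1 u)).Coprime β := h.th.cop.coprime_dvd_left (h.dvd hG hu)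

theorem dvd' (hX : (Nat.card X).Coprime β) : Nat.card X ∣ α :=
  hX.dvd_of_dvd_mul_right (h.hc ▸ card_subgroup_dvd_card X)

theorem solv (hu : β ∣ ix u) : Group.IsSolvable (Cen1 u) :=
  odd_solvable (h.odd.of_dvd_nat (h.dvd hG hu))

theorem exists_comm (e : ix y = β) (hl : l.Prime) (h1 : β ∣ ix v) (ov : orderOf v = l) :
    ∃ g, v ∈ Cen1 (g * y * g⁻¹) := exists_conj_comm hl (e ▸ h.nd hG hl
      (ov ▸ (orderOf_dvd_card v).trans (h.dvd hG h1))) (PE.of_orderOf ov)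

theorem not_comm (hy : y ≠ 1) (e : ix y = β) : ¬ IsMulCommutative (Cen1 y) := fun hc =>
  g1 hG h.th fun u hu => (h.th.dvd u hu).symm.imp_left fun h1 => by
    obtain ⟨v, hv, hl⟩ := exists_prime_pow hu
    have v1 := ne_one_of_prime_orderOf hl
    obtain ⟨g, hg⟩ := h.exists_comm hG e hl (h.up hG h1 v1 (zpowers_le.mpr (self_mem u) hv)) rfl
    have h2 : IsMulCommutative (Cen1 (g * y * g⁻¹)) := conjS_cen1 g y ▸ inferInstance
    have h3 := h.mx hG (conj_ne_one hy) ((ix_conj g y).trans e)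
    exact (congrArg index (h3.eq hu (le_of_comm h2 (h3.eq v1 (le_of_comm h2 hg) ▸
      cen1_le_of_mem hv (self_mem u))))).trans ((ix_conj g y).trans e)

theorem fpf (hX : (Nat.card X).Coprime β) (h1 : ¬ orderOf v ∣ α) : X ⊓ Cen1 v = ⊥ :=
  eq_bot_iff.mpr fun u hu => by_contra fun u1 => h1 ((orderOf_dvd_natCard _ (c1_symm hu.2)).trans
    (h.dvd hG (h.of_mem hG hX hu.1 u1)))

theorem nil (hX : (Nat.card X).Coprime β) (hv : (orderOf v).Prime) (h1 : ¬ orderOf v ∣ α)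
    (hn : v ∈ Nor X) : Group.IsNilpotent X :=
  thompson (zpowers_le.mpr hn) (by rwa [Nat.card_zpowers]) (by
    rw [Cen, centralizer_zpowers]; exact h.fpf hG hX h1)

theorem odd_nor (h0 : X ≠ ⊥) (hX : (Nat.card X).Coprime β) : Odd (Nat.card (Nor X)) := by
  refine Nat.not_even_iff_odd.mp fun e => ?_
  obtain ⟨t, ht, ot⟩ := exists_mem_of_dvd Nat.prime_two e.two_dvd
  have h1 : ∀ {X : Subgroup G}, (Nat.card X).Coprime β → t ∈ Nor X → ∀ u ∈ X, t * u * t⁻¹ = u⁻¹ :=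
    fun hX ht u hu => H5.SS.conj_eq_inv_of_fpf (ot ▸ pow_orderOf_eq_one t) ht (h.fpf hG hX (ot ▸ fun e =>
      (Nat.not_even_iff_odd.mpr h.odd) (even_iff_two_dvd.mpr e))) hu
  have h2 : ∀ {u : G}, β ∣ ix u → t * u * t⁻¹ = u⁻¹ → ∀ v ∈ Cen1 u, t * v * t⁻¹ = v⁻¹ :=
    fun {u} hu e => h1 (h.cop hG hu) (mem_normalizer_iff_conjS.mpr (by
      rw [conjS_cen1, e]
      exact le_antisymm (cen1_le_of_mem (by simp)) (cen1_le_of_mem (by simp))))
  have h3 : ∀ {u : G}, β ∣ ix u → t * u * t⁻¹ = u⁻¹ → IsMulCommutative (Cen1 u) := fun hu e =>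
    H5.isMulCommutative_of_forall fun a ha b hb => GW.comm_of_inv (h2 hu e) ha hb
  obtain ⟨u, hu, hl⟩ := exists_prime_orderOf_mem h0
  have h4 := h.of_mem hG hX hu (ne_one_of_prime_orderOf hl)
  obtain ⟨y, hy, e'⟩ := h.th.exb
  obtain ⟨g, hg⟩ := h.exists_comm hG e' hl h4 rfl
  have h5 := (ix_conj g y).trans e'
  exact h.not_comm hG (conj_ne_one hy) h5 (h3 h5.symm.dvd (h2 h4 (h1 hX ht u hu) _ (c1_symm hg)))

theorem case1 (hp : s.Prime) (hz : z ≠ 1) (e : ix z = β) (h1 : PE s z)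
    (h2 : ∀ g ∈ Cen1 z, (orderOf g).Coprime s → Cen1 z ≤ Cen1 g) : False := by
  have : Fact s.Prime := ⟨hp⟩
  obtain ⟨x, hx, ex⟩ := h.th.exa
  have cK := h.card_b hG e
  have h3 : ∀ g ∈ Cen1 z, g ≠ 1 → (orderOf g).Coprime s → Cen1 g = Cen1 z := fun g hg g1 ho =>
    (h.mx hG hz e).eq g1 (h2 g hg ho)
  obtain ⟨l, hl, a1, a2⟩ := exists_other hp (ex ▸ (ix_pos x).ne') fun ⟨k, hk⟩ =>
    ix_ne_pow hG hx hp k (ex.trans hk)
  obtain ⟨a, ha, oa⟩ := exists_mem_of_dvd hl (cK ▸ a2)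
  have a3 := ne_one_of_orderOf hl oa
  have a4 : (orderOf a).Coprime s := oa ▸ (Nat.coprime_primes hl hp).mpr a1
  have sα : s ∣ α := (h1.dvd hp hz).trans (cK ▸ orderOf_dvd_card z)
  have h4 : ∀ u ∈ Cen1 z, u ≠ 1 → Cen1 u ≤ Cen1 z := fun u hu u1 => by
    obtain ⟨b, hb, c, hc, rfl, pb, oc⟩ := exists_pPart s u
    by_cases c1 : c = 1
    swap
    · exact (cen1_le_of_mem hc).trans (h3 c (zpowers_le.mpr hu hc) c1 oc).le
    rw [c1, mul_one] at hu u1 ⊢
    have h5 := h2 a ha a4 hu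
    by_cases e' : ix b = β
    swap
    · exact h3 a ha a3 a4 ▸ (h.mn hG u1 (h.up hG e.symm.dvd u1 hu) e').le (c1_symm h5)
        (PE.coprime pb a4)
    obtain ⟨P, hP⟩ := H5.exists_isSylowOf s (Cen1 z)
    obtain ⟨R, hR⟩ := H5.exists_isSylowOf s (Cen1 b)
    obtain ⟨g, -, hg⟩ := (sylow_of_not_dvd hp hR fun e'' => h.nd hG hp sα (e' ▸ e'')).exists_conj
      (sylow_of_not_dvd hp hP fun e'' => h.nd hG hp sα (e ▸ e''))
    have h6 : P ≤ Cen1 (g * b * g⁻¹) := hg ▸ conjS_cen1 g b ▸ conjS_mono g hR.le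
    have h7 : g * b * g⁻¹ ∈ Cen1 z := c1_symm (h6 (mem_syl hp hP (self_mem z) h1 hP.le))
    have h8 := (h.mx hG hz e).eq (conj_ne_one u1) (cen_of_pn hp (not_dvd_rel hP h6)
      fun c hc oc => c1_symm (h2 c hc oc h7))
    have h9 := h3 (g * a * g⁻¹) (h8 ▸ conjS_cen1 g b ▸ conj_mem_conjS (c1_symm h5)) (conj_ne_one a3)
      (by rwa [← MulAut.conj_apply, MulEquiv.orderOf_eq])
    rw [← h8, ← conjS_cen1, ← conjS_cen1] at h9
    rw [← h3 a ha a3 a4, conjS_injective g h9]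
  have h5 : ∀ g, ∀ u ∈ Cen1 z, u ≠ 1 → g * u * g⁻¹ ∈ Cen1 z → g ∈ Nor (Cen1 z) := fun g u hu u1 h5 =>
    mem_normalizer_iff_conjS.mpr (by
      conv_lhs => rw [← h3 a ha a3 a4, conjS_cen1]
      exact h3 _ (h4 _ h5 (conj_ne_one u1) (conjS_cen1 g u ▸ conj_mem_conjS (c1_symm (h2 a ha a4 hu))))
        (conj_ne_one a3) (by rwa [← MulAut.conj_apply, MulEquiv.orderOf_eq]))
  have K0 : Cen1 z ≠ ⊥ := fun e => hz (mem_bot.mp (e ▸ self_mem z))
  obtain ⟨W, b1, b2, b3, -⟩ := H5.exists_complement_of_coprime (le_normalizer (H := Cen1 z)) le_rfl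
    ((h.cop hG e.symm.dvd).coprime_dvd_right (e ▸ relIndex_dvd_index_of_le le_normalizer))
  have W0 : W ≠ ⊥ := fun e => not_frob ⟨K0, cen1_ne_top hG hz, fun g hg => eq_bot_iff.mpr fun u hu =>
    by_contra fun u1 => hg (by
      rw [e, sup_bot_eq] at b2
      exact (inv_mem_iff (H := Cen1 z)).mp (b2.ge (h5 g⁻¹ u hu.1 u1 (by
        simpa using H5.mem_conj_smul_iff.mp hu.2))))⟩
  have := Fintype.ofFinite G
  have hn := nil_of_cen hp h2
  exact not_reg hG (exc_of_frob (h.odd_nor hG K0 (h.cop hG e.symm.dvd)) hn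
    ⟨⟨z, self_mem z, hz⟩, le_top, fun g hg u hu => ⟨H5.conj_mem_of_mem_normalizer hg hu.1,
      conj_ne_one hu.2⟩, fun g _ u hu e => h5 g u hu.1 hu.2 e.1⟩ ⟨⟨b2, b3, b1⟩, K0, W0,
      fun w hw w1 => eq_bot_iff.mpr fun u hu => by_contra fun u1 => w1 (mem_bot.mp
        (b3.le ⟨h4 u hu.1 u1 (c1_symm hu.2), hw⟩))⟩) le_rfl hn hx (ex.trans cK.symm)
    (fun u hu u1 g e' => h.th.symm.ne_one hG (h.th.cop.symm.eq_one_of_dvd (((ix_conj g x).trans ex) ▸
      h.up hG (h.up hG e.symm.dvd u1 hu) (conj_ne_one hx) (c1_symm e'))))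
    fun w hw w1 => ex ▸ (h.th.cop.symm.coprime_dvd_left (h.th.card_dvd hG h.hc
      (h.th.symm.dvd_ix' hG (h.hc.trans (mul_comm _ _)) ex.symm.dvd w1 hw)))

end BO

end I4
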