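import Cfsg.Agent.I4.G

/-! Frobenius groups acting on `s`-groups; the holomorph. -/

set_option autoImplicit false
set_option linter.unusedSectionVars false
set_option linter.unusedVariables false

namespace I4

open Cfsg Subgroup FT H4 BS IT
open H5 (IsSylowOf im pre)
open scoped Classical commutatorElement

universe u

theorem norm_aux {V F : Type*} [CommGroup V] [Finite V] [Group F] [Finite F]
    (φ : F →* MulAut V) {N : Subgroup F} {q : F} {s : ℕ} (hs : 0 < s) (hn : q ∈ Nor N)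
    (hfpf : ∀ i, 0 < i → i < s → ∀ n ∈ N, n * q ^ i = q ^ i * n → n = 1)
    (hc : (Nat.card N).Coprime (Nat.card V)) (hN : ∀ v, (∀ n ∈ N, φ n v = v) → v = 1)
    (tr : ∀ w, ∏ i ∈ Finset.range s, φ (q ^ i) w = 1) (v : V) : v = 1 := by
  have := Fintype.ofFinite N
  have trN : ∀ w, ∏ n : N, φ n w = 1 := fun w => hN _ fun m hm => by
    rw [map_prod]
    refine Fintype.prod_equiv (Equiv.mulLeft (⟨m, hm⟩ : N)) _ _ fun a => ?_
    simp
  have h1 : ∏ n : N, ∏ i ∈ Finset.range s, φ ((n : F) * q ^ i * (n : F)⁻¹) v = 1 := by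
    apply Finset.prod_eq_one
    intro n _
    simp only [map_mul, MulAut.mul_apply]
    rw [← map_prod, tr, map_one]
  have h2 : ∀ i, 0 < i → i < s → ∏ n : N, φ ((n : F) * q ^ i * (n : F)⁻¹) v = 1 := by
    intro i i0 hi
    let h := q ^ i
    let t : N → N := fun n => ⟨n * (h * (n : F)⁻¹ * h⁻¹),
      N.mul_mem n.2 (H5.conj_mem_of_mem_normalizer (pow_mem hn i) (N.inv_mem n.2))⟩
    have ht : Function.Injective t := by
      intro a b e
      have e' : (a : F) * (h * (a : F)⁻¹ * h⁻¹) = b * (h * (b : F)⁻¹ * h⁻¹) :=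
        congrArg Subtype.val e
      have := hfpf i i0 hi ((b : F)⁻¹ * a) (N.mul_mem (N.inv_mem b.2) a.2) (by
          calc (b : F)⁻¹ * a * h = (b : F)⁻¹ * (a * (h * (a : F)⁻¹ * h⁻¹)) * (h * a) := by
                group
            _ = _ := by rw [e']; simp only [h]; group)
      rw [inv_mul_eq_one] at this
      exact Subtype.ext this.symm
    rw [← trN (φ h v)]
    refine Fintype.prod_bijective t (Finite.injective_iff_bijective.1 ht) _ _ fun n => ?_
    rw [← MulAut.mul_apply, ← map_mul]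
    congr 2
    simp only [t, h]
    group
  rw [Finset.prod_comm, Finset.prod_eq_single 0 (fun i hi h0 => h2 i (Nat.pos_of_ne_zero h0)
    (Finset.mem_range.mp hi)) (by simp [hs.ne'])] at h1
  simp only [pow_zero, mul_one, mul_inv_cancel, map_one, MulAut.one_apply,
    Finset.prod_const, Finset.card_univ, ← Nat.card_eq_fintype_card] at h1
  exact (pow_eq_one_iff_of_coprime hc).1 ⟨h1, pow_card_eq_one'⟩

variable {G : Type u} [Group G] [Finite G] {V N B Q T : Subgroup G} {q : G} {s : ℕ}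

/-- a splitting element of a Frobenius group -/
theorem split_ab (hp : s.Prime) (hV : IsMulCommutative V) (h1 : B ≤ Nor V) (h2 : q ∈ Nor V)
    (h3 : q ∈ Nor B) (hq : q ^ s = 1) (hf : B ⊓ Cen1 q = ⊥)
    (hc : (Nat.card B).Coprime (Nat.card V)) (h0 : V ⊓ Cen B = ⊥) (h : ∀ u ∈ V, (u * q) ^ s = 1) :
    V = ⊥ := by
  have : Fact s.Prime := ⟨hp⟩
  let : CommGroup V := { (inferInstance : Group V) with mul_comm := hV.is_comm.comm }
  let φ : Nor V →* MulAut V := V.normalizerMonoidHom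
  have hφ : ∀ (a : Nor V) (v : V), ((φ a v : V) : G) = a * v * (a : G)⁻¹ := fun a v => rfl
  have key : ∀ (w : V) n, ((w : G) * q) ^ n =
      (∏ i ∈ Finset.range n, φ (⟨q, h2⟩ ^ i) w : V) * q ^ n := fun w n => by
    induction n with
    | zero => simp
    | succ n ih =>
      rw [Finset.prod_range_succ, pow_succ, ih, Subgroup.coe_mul, hφ]
      simp only [SubmonoidClass.mk_pow]
      group
  refine eq_bot_iff.mpr fun v hv => congrArg Subtype.val (norm_aux φ (N := B.subgroupOf (Nor V))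
    (q := ⟨q, h2⟩) hp.pos (H5.subgroupOf_le_normalizer_subgroupOf (A := Nor B) le_rfl h3)
    (fun i i0 hi n hn e => Subtype.ext (mem_bot.mp (hf.le ⟨hn, H7.zpowers_le_of_pow_mem
      (N := Cen1 (n : G)) (hq ▸ one_mem _) (Nat.not_dvd_of_pos_of_lt i0 hi)
        (c1_iff.mpr (congrArg Subtype.val e).symm) |> c1_symm⟩)))
    (hc.coprime_dvd_left (H5.card_subgroupOf_dvd B)) (fun w hw => Subtype.ext (mem_bot.mp
      (h0.le ⟨w.2, fun x hx => ?_⟩))) (fun w => Subtype.ext ?_) ⟨v, hv⟩)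
  · exact mul_inv_eq_iff_eq_mul.1 ((hφ ⟨x, h1 hx⟩ w).symm.trans
      (congrArg Subtype.val (hw ⟨x, h1 hx⟩ hx)))
  · have := key w s
    rw [h w w.2, hq, mul_one] at this
    exact this.symm

theorem mul_pow_mem {u : G} (h : q ∈ Nor Q) (hu : u ∈ Q) (n : ℕ) : (u * q) ^ n * (q ^ n)⁻¹ ∈ Q := by
  induction n with
  | zero => simp
  | succ n ih =>
    exact H5.mem_of_eq (mul_mem ih (H5.conj_mem_of_mem_normalizer (pow_mem h n) hu))
      (by rw [pow_succ, pow_succ]; group)

/-- if the `s`-th powers in the coset `Q q` have small centralizers, then `B` centralizes `Q` -/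
theorem quad (hp : s.Prime) (ho : Odd s) (h3 : q ∈ Nor B) (hq : q ^ s = 1) (hf : B ⊓ Cen1 q = ⊥)
    (hc : (Nat.card B).Coprime s) (n : ℕ) : ∀ Q : Subgroup G, Nat.card Q = n → IsPGroup s Q →
      B ≤ Nor Q → q ∈ Nor Q → (∀ u ∈ Q, (u * q) ^ s ≠ 1 → Cen1 ((u * q) ^ s) ≤ Cen1 (u * q)) →
      Q ≤ Cen B := by
  have : Fact s.Prime := ⟨hp⟩
  induction n using Nat.strong_induction_on with
  | _ n ih =>
  intro Q e hQ h1 h2 h
  have ih' : ∀ X < Q, Nor Q ⊓ Nor B ≤ Nor X → X ≤ Cen B := fun X hX hn => ih _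
    (e ▸ H5.card_lt_of_lt hX) X rfl (hQ.to_le hX.le) ((le_inf h1 le_normalizer).trans hn)
    (hn ⟨h2, h3⟩) fun u hu => h u (hX.le hu)
  have cQ : (Nat.card B).Coprime (Nat.card Q) :=
    (H5.coprime_card_of_isPGroup hQ (hp.coprime_iff_not_dvd.mp hc.symm)).symm
  have sQ : Group.IsSolvable B ∨ Group.IsSolvable Q := .inr (H5.isSolvable_of_isPGroup hQ)
  by_contra hn
  have a1 : ⁅Q, B⁆ = Q := by_contra fun e' => hn (H5.le_centralizer_of_commutator_le h1 cQ sQ le_rfl
    (ih' _ (lt_of_le_of_ne (H5.commutator_le_left_of_le_normalizer h1) e')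
      (H5.le_normalizer_commutator inf_le_left inf_le_right)))
  have a2 : ⁅Q, Q⁆ ⊔ closure {y | ∃ x ∈ Q, y = x ^ s} ≤ Cen B := ih' _ (lt_of_le_of_ne
    (sup_le (commutator_le_self Q) ((closure_le _).mpr fun _ ⟨x, hx, e⟩ => e ▸ pow_mem hx s))
    fun e' => hn ((H7.eq_of_sup_frattini_like hQ bot_le (e'.ge.trans le_sup_right)).ge.trans bot_le))
    (inf_le_left.trans (H5.le_normalizer_sup (H5.le_normalizer_commutator le_rfl le_rfl)
      fun g hg => H5.mem_normalizer_of_map_conj_le (by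
        rw [MonoidHom.map_closure, closure_le]
        rintro _ ⟨_, ⟨x, hx, rfl⟩, rfl⟩
        exact subset_closure ⟨_, H5.conj_mem_of_mem_normalizer hg hx, by simp⟩)))
  set P := Q ⊓ Cen B with hP
  have a3 : ∀ a ∈ Q, ∀ b ∈ Q, ⁅a, b⁆ ∈ P := fun a ha b hb => ⟨commutator_le_self Q
    (commutator_mem_commutator ha hb), a2 (mem_sup_left (commutator_mem_commutator ha hb))⟩
  have a4 : ∀ a ∈ Q, a ^ s ∈ P := fun a ha => ⟨pow_mem ha s, a2 (mem_sup_right
    (subset_closure ⟨a, ha, rfl⟩))⟩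
  have nQ : Q ≤ Nor P := fun a ha => H7.mem_normalizer_of_forall_commutator_mem fun b hb =>
    a3 a ha b hb.1
  have nB : Nor Q ⊓ Nor B ≤ Nor P := H5.le_normalizer_inf inf_le_left
    (H5.le_normalizer_centralizer inf_le_right)
  have nq := nB ⟨h2, h3⟩
  have nB' := (le_inf h1 le_normalizer).trans nB
  have a5 : Q ≤ Cen P := a1 ▸ (commutator_le.mpr fun a ha b hb => H5.mem_of_eq (mul_mem
    (H5.conj_mem_of_mem_normalizer (H5.le_normalizer_centralizer nQ ha)
      (le_centralizer_iff.mp inf_le_right hb)) (inv_mem (le_centralizer_iff.mp inf_le_right hb)))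
    (by rw [commutatorElement_def]))
  have : (P.subgroupOf (Nor P)).Normal := normal_in_normalizer
  let f := QuotientGroup.mk' (P.subgroupOf (Nor P))
  have hk : f.ker = P.subgroupOf (Nor P) := QuotientGroup.ker_mk' _
  have f1 : ∀ x : Nor P, f x = 1 ↔ (x : G) ∈ P := fun x => H5.map_eq_one_iff_of_ker hk
  have a6 : ∀ u ∈ Q, (u * q) ^ s ∈ P := fun u hu => by
    by_cases e1 : (u * q) ^ s = 1
    · exact e1 ▸ one_mem _
    have b1 := h u hu e1
    have b2 : (u * q) ^ s ∈ Q := by simpa [hq] using mul_pow_mem h2 hu s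
    set w := u * q with hw
    have nw : w ∈ Nor Q := mul_mem (le_normalizer hu) h2
    have b3 : P ≤ Cen1 w := fun a ha => b1 (c1_iff.mpr (cen_iff.mp (a5 b2) a ha).symm)
    have b4 : ⁅w, u⁻¹⁆ ∈ Cen1 w := b1 (c1_iff'.mpr (by
      have e2 : w ^ s ∈ Cen1 w := pow_mem (self_mem w) s
      have e3 := c1_iff'.mp (inv_mem (c1_symm (mul_mem (b3 (a3 _ hu _ b2)) e2)))
      calc _ = w * u⁻¹ * (w⁻¹ * (⁅u, w ^ s⁆ * w ^ s) * w⁻¹⁻¹) * u * w⁻¹ := by
            simp only [commutatorElement_def]; group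
        _ = w ^ s := by rw [e3, commutatorElement_def]; group))
    have b5 : ⁅w, u⁻¹⁆ ∈ Q := H5.mem_of_eq (mul_mem (H5.conj_mem_of_mem_normalizer nw (inv_mem hu))
      hu) (by rw [commutatorElement_def, inv_inv])
    let x : Nor P := ⟨u⁻¹, nQ (inv_mem hu)⟩
    let y : Nor P := ⟨w, mul_mem (nQ hu) nq⟩
    have e4 := H7.mul_pow_of_class_two_odd (x := f x) (y := f y) (by
      rw [← map_commutatorElement, ← commutatorElement_eq_one_iff_commute, ← map_commutatorElement]
      exact (f1 _).mpr (a3 _ (inv_mem hu) _ b5)) (by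
      rw [← map_commutatorElement]
      exact Commute.map (Subtype.ext (c1_iff.mp b4).symm) f) ho (by
      rw [← map_commutatorElement, ← map_pow]
      exact (f1 _).mpr (a4 _ b5))
    rw [← map_mul, ← map_pow, ← map_pow, ← map_pow, (f1 (x ^ s)).mpr (a4 _ (inv_mem hu)), one_mul,
      (f1 _).mpr (by simp [x, y, hw, hq])] at e4
    exact (f1 _).mp e4.symm
  refine hn (((H5.im_eq_bot_iff hk nQ).mp (split_ab (B := im f B) (q := f ⟨q, nq⟩) hp
    (H5.isMulCommutative_of_forall ?_) (H5.im_le_normalizer h1) (H5.im_le_normalizer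
      (A := Nor Q) le_rfl (H5.mem_im_of_mem nq h2)) (H5.im_le_normalizer (A := Nor B) le_rfl
      (H5.mem_im_of_mem nq h3)) (by rw [← map_pow]; exact (f1 _).mpr (by simp [hq])) ?_
    (H5.coprime_im cQ) ?_ ?_)).trans inf_le_right)
  · rintro _ ⟨a, ha, rfl⟩ _ ⟨b, hb, rfl⟩
    rw [← commutatorElement_eq_one_iff_mul_comm, ← map_commutatorElement]
    exact (f1 _).mpr (a3 _ ha _ hb)
  · rw [← H5.im_inf_centralizer_singleton hk nq h3 ((H5.coprime_of_le_left inf_le_left
      hc).symm.coprime_dvd_left (orderOf_dvd_of_pow_eq_one hq))]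
    exact (congrArg (im f) hf).trans H5.im_bot
  · rw [← H5.im_inf_centralizer hk nB' h1 (H5.coprime_of_le_right inf_le_left cQ)
      (H5.solv_or_of_le sQ le_rfl inf_le_left)]
    exact H5.im_ker hk
  · rintro _ ⟨a, ha, rfl⟩
    rw [← map_mul, ← map_pow]
    exact (f1 _).mpr (a6 _ ha)

/-- the action of a Frobenius complement modulo the centralizer, inside the holomorph -/
theorem exists_hol (hn : N ≤ Nor B) (h0 : B ≠ ⊥)
    (h : ∀ n ∈ N, ∀ b ∈ B, b ≠ 1 → n ∈ Cen1 b → n ∈ Cen B) :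
    ∃ (H : Type u) (_ : Group H) (_ : Finite H) (f : N →* H) (B' : Subgroup H),
      f.ker = (Cen B).subgroupOf N ∧ B' ≠ ⊥ ∧ f.range ≤ Nor B' ∧ Semireg B' f.range := by
  let φ : N →* MulAut B := B.normalizerMonoidHom.comp (inclusion hn)
  have hφ : ∀ (a : N) (v : B), ((φ a v : B) : G) = a * v * (a : G)⁻¹ := fun a v => rfl
  have hk : φ.ker = (Cen B).subgroupOf N := by
    rw [← MonoidHom.comap_ker, normalizerMonoidHom_ker]; rfl
  have : Finite (B ⋊[MonoidHom.id _] MulAut B) := Finite.of_equiv _ SemidirectProduct.equivProd.symm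
  refine ⟨B ⋊[MonoidHom.id _] MulAut B, inferInstance, this, SemidirectProduct.inr.comp φ,
    SemidirectProduct.inl.range, by rw [MonoidHom.ker_comp_of_injective _ _
      SemidirectProduct.inr_injective, hk], fun e => h0 (eq_bot_iff.mpr fun b hb => congrArg
        Subtype.val (SemidirectProduct.inl_injective ((mem_bot.mp (e.le ⟨⟨b, hb⟩, rfl⟩)).trans
          (map_one _).symm))), ?_, ?_⟩
  · rw [SemidirectProduct.range_inl_eq_ker_rightHom, Nor, normalizer_eq_top]
    exact le_top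
  · rintro _ ⟨n, rfl⟩ n1
    refine eq_bot_iff.mpr ?_
    rintro _ ⟨⟨b, rfl⟩, hb⟩
    by_contra b1
    have e : φ n b = b := SemidirectProduct.inl_injective (φ := MonoidHom.id _) (by
      refine (SemidirectProduct.inl_aut (φ := MonoidHom.id _) (φ n) b).trans ?_
      rw [map_inv]
      exact c1_iff'.mp (c1_symm hb))
    exact n1 (by
      rw [MonoidHom.comp_apply, (MonoidHom.mem_ker (f := φ)).mp (hk ▸ h n n.2 b b.2 (fun e' => b1 (by
        rw [show b = 1 from Subtype.ext e', map_one]; exact one_mem _)) (c1_iff'.mpr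
          ((hφ n b).symm.trans (congrArg Subtype.val e)))), map_one])

section Hol
variable (hp : s.Prime) (h0 : B ≠ ⊥) (h : ∀ b ∈ B, b ≠ 1 → Cen1 b ≤ Cen B)
  (ho : Odd (Nat.card (Nor B)))
include hp h0 h ho

theorem hol_nor (h1 : q ∈ Nor B) (h2 : q ∉ Cen B) (h3 : q ^ s ∈ Cen B) :
    Nor B ≤ Nor (zpowers q ⊔ Cen B) := by
  have : Fact s.Prime := ⟨hp⟩
  obtain ⟨H, _, _, f, B', hk, a1, a2, a3⟩ := exists_hol (N := Nor B) le_rfl h0
    fun n _ b hb b1 e => h b hb b1 e
  rw [← H5.pre_im hk (centralizer_le_normalizer _) (zpowers_le.mpr h1), H5.im_zpowers h1]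
  refine H5.le_normalizer_pre le_rfl (le_trans (b := f.range) (fun _ ⟨x, _, e⟩ => ⟨x, e⟩)
    (prime_odd_regular_normal ?_ (ho.of_dvd_nat (card_range_dvd f)) (zpowers_le.mpr ⟨_, rfl⟩)
      a1 a2 a3))
  rw [Nat.card_zpowers, orderOf_eq_prime (p := s) (by
    rw [← map_pow]; exact (H5.map_eq_one_iff_of_ker hk).mpr h3)
    fun e => h2 ((H5.map_eq_one_iff_of_ker hk).mp e)]
  exact hp

theorem hol_cyc (hT : T ≤ Nor B) (h1 : IsPGroup s T) :
    (T ⊓ Cen B ≤ Cen T → IsMulCommutative T) ∧ ∀ q ∈ T, q ∉ Cen B → q ^ s = 1 →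
      ∀ t ∈ T, t ^ s = 1 → t ∈ zpowers q ⊔ Cen B := by
  have : Fact s.Prime := ⟨hp⟩
  obtain ⟨H, _, _, f, B', hk, a1, a2, a3⟩ := exists_hol (N := Nor B) le_rfl h0
    fun n _ b hb b1 e => h b hb b1 e
  have a4 : im f T ≤ f.range := fun _ ⟨x, _, e⟩ => ⟨x, e⟩
  have := odd_regular_pgroup_cyclic (H5.isPGroup_im (f := f) h1) (ho.of_dvd_nat
    ((H5.card_im_dvd T).trans (card_dvd_of_le hT))) a1 (a4.trans a2) fun x hx => a3 x (a4 hx)
  refine ⟨fun h2 => MonoidHom.isMulCommutative_of_isCyclic_of_ker_le_center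
    ((f.comp (inclusion hT)).codRestrict (im f T) fun t => H5.mem_im_of_mem _ t.2) fun t ht =>
      mem_center_iff.mpr fun g => Subtype.ext (cen_iff.mp (h2 ⟨t.2, (H5.map_eq_one_iff_of_ker hk).mp
        (congrArg Subtype.val ht)⟩) g g.2).symm, fun q hq h2 h3 t ht h4 => ?_⟩
  rw [← H5.pre_im hk (centralizer_le_normalizer _) (zpowers_le.mpr (hT hq)), H5.im_zpowers (hT hq)]
  exact H5.mem_pre.mpr ⟨hT ht, H7.mem_zpowers_of_isCyclic (p := s) (H5.mem_im_of_mem _ hq)
    (fun e => h2 ((H5.map_eq_one_iff_of_ker hk).mp e)) (by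
      rw [← map_pow]; exact (H5.map_eq_one_iff_of_ker hk).mpr (by simp [h3]))
    (H5.mem_im_of_mem _ ht) (by
      rw [← map_pow]; exact (H5.map_eq_one_iff_of_ker hk).mpr (by simp [h4]))⟩

end Hol

end I4
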