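import Cfsg.Agent.I4.H

/-! Two-headed simple groups: the odd component, non-nilpotent case. -/

set_option autoImplicit false
set_option linter.unusedSectionVars false
set_option linter.unusedVariables false

namespace I4

open Cfsg Subgroup FT H4 BS IT
open H5 (IsSylowOf)
open scoped Classical commutatorElement

universe u

variable {G : Type u} [Group G] [Finite G] {x y z w u v b c q : G} {α β d s k l m : ℕ}
  {X L B : Subgroup G}

/-- the abelian Hall subgroup -/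
structure C2 (α β d s k : ℕ) (B : Subgroup G) : Prop where
  bo : BO G α β d
  sp : s.Prime
  pw : s ^ (k + 1) * β = d
  sa : s ∣ α
  ty : ∀ w : G, w ≠ 1 → ix w = β → PE s w
  ne : B ≠ ⊥
  cs : (Nat.card B).Coprime s
  cb : (Nat.card B).Coprime β
  cen : ∀ b ∈ B, b ≠ 1 → Cen1 b = Cen B
  comm : IsMulCommutative (Cen B)
  mem : ∀ c ∈ Cen B, (orderOf c).Coprime s → c ∈ B

variable [hs : IsSimpleGroup G] (hG : ¬ IsMulCommutative G)
include hG

namespace BO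
variable (h : BO G α β d)
include h

theorem b_pos : 0 < β := by
  obtain ⟨y, -, e⟩ := h.th.exb
  exact e ▸ ix_pos y

theorem loc (hp : s.Prime) (hm : m * β = d) (hz : z ≠ 1) (e : ix z = β) (h1 : PE s z) :
    Loc (fun w : G => w ≠ 1 ∧ β ∣ ix w) d s z m := by
  obtain ⟨g, hg, ho, hn⟩ : ∃ g ∈ Cen1 z, (orderOf g).Coprime s ∧ ¬ Cen1 z ≤ Cen1 g := by
    by_contra! h2
    exact h.case1 hG hp hz e h1 h2
  have := (h.one hG).loc hp ⟨hz, e.symm.dvd⟩ (h.mx hG hz e) h1 hg ho hn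
  have e' := this.hm
  rw [e, ← hm] at e'
  rwa [Nat.eq_of_mul_eq_mul_right (h.b_pos hG) e'] at this

theorem full (hp : s.Prime) (h1 : s ∣ α) (h2 : s ∣ d) (hz : z ≠ 1) (h3 : PE s z) (h4 : ¬ s ∣ ix z) :
    ix z = β := (h.hd z hz (h.of_pe hG h1 h3 hz)).resolve_right fun e => h4 (e ▸ h2)

theorem ty (hp : s.Prime) (h1 : s ∣ α) (hm : s ^ (k + 1) * β = d) (hw : w ≠ 1) (e : ix w = β) :
    PE s w := by
  have : Fact s.Prime := ⟨hp⟩
  obtain ⟨a, ha, b, hb, e1, pa, ob⟩ := exists_pPart s w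
  by_contra hn
  obtain ⟨y, hy, hr⟩ := exists_prime_pow (x := b) fun e => hn (by rwa [e1, e, mul_one])
  have y1 := ne_one_of_prime_orderOf hr
  have oy : (orderOf y).Coprime s := ob.coprime_dvd_left (orderOf_dvd_of_mem_zpowers hy)
  have rs : orderOf y ≠ s := (Nat.coprime_primes hr hp).mp oy
  have ey : ix y = β := (congrArg index ((h.mx hG hw e).pow (zpowers_le.mpr hb hy) y1)).trans e
  obtain ⟨P, hP⟩ := H5.exists_isSylowOf s (Cen1 y)
  obtain ⟨z, hz, oz, hPz⟩ := exists_cen hp hP.isPGroup (hP.ne_bot (h.card_b hG ey ▸ h1))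
  have z1 := ne_one_of_orderOf hp oz
  have hP' := sylow_of_not_dvd hp hP fun e' => h.nd hG hp h1 (ey ▸ e')
  have sm : s ∣ s ^ (k + 1) := dvd_pow_self s k.succ_ne_zero
  have ez := h.full hG hp h1 (hm ▸ sm.mul_right β) z1 (PE.of_orderOf oz) (not_dvd_of_sylow hP' hPz)
  have L1 := h.loc hG hp hm z1 ez (PE.of_orderOf oz)
  have e2 := (h.mx hG z1 ez).eq y1 ((L1.cs (c1_symm (hP.le hz)) oy).cen sm
    (not_dvd_rel (hP'.of_le hPz le_top) hP.le))
  have L2 := L1.swap hr y1 (PE.of_orderOf rfl) e2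
  have nd : ∀ {l : ℕ}, l.Prime → l ≠ s → ∀ {g}, CS (Cen1 z) (s ^ (k + 1)) g →
      ¬ l ∣ (Cen1 g).relIndex (Cen1 z) := fun hl ls g hg e => hg.elim
    (fun e' => hl.one_lt.ne' (Nat.dvd_one.mp (relIndex_eq_one.mpr e' ▸ e))) fun e' =>
      ls ((Nat.prime_dvd_prime_iff_eq hl hp).mp (hl.dvd_of_dvd_pow (e' ▸ e)))
  have c1 : ∀ x ∈ Cen1 z, PE (orderOf y) x → Cen1 z ≤ Cen1 x := fun x hx px =>
    cen_of_pn hr (nd hr rs (L1.cs' hr rs hx px)) fun a ha oa => c1_symm (L2.pn (fun e =>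
      rs ((Nat.prime_dvd_prime_iff_eq hr hp).mp (hr.dvd_of_dvd_pow e))) (e2 ▸ ha) oa (e2 ▸ hx) px)
  have c2 : ∀ {l : ℕ}, l.Prime → l ≠ s → ∀ g ∈ Cen1 z, ¬ l ∣ (Cen1 g).relIndex (Cen1 z) :=
    fun hl ls g hg e => by
      have : Fact (orderOf y).Prime := ⟨hr⟩
      obtain ⟨a, ha, b, hb, rfl, pa, ob⟩ := exists_pPart (orderOf y) g
      refine nd hl ls (e2 ▸ L2.cs (e2 ▸ zpowers_le.mpr hg hb) ob) (rel_inf (Cen1 z) (Cen1 b) ▸
        e.trans (relIndex_dvd_of_le_left _ fun u hu => c1_symm (mul_mem (c1_symm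
          (c1 a (zpowers_le.mpr hg ha) pa hu.1)) (c1_symm hu.2))))
  refine h.case1 hG hp z1 ez (PE.of_orderOf oz) fun g hg og => cen_iff_le.mp (zpowers_le.mp
    (le_of_forall_primePow fun l hl x hx px => ?_))
  by_cases ls : l = s
  · obtain ⟨j, hj⟩ := px
    exact eq_one_of_pow_pow_of_coprime hj (ls ▸ og.coprime_dvd_left
      (orderOf_dvd_of_mem_zpowers hx)) ▸ one_mem _
  · have hx' := zpowers_le.mpr hg hx
    exact cen_iff_le.mpr (cen_of_pn hl (c2 hl ls x hx') fun a ha oa => c1_symm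
      (pn hl (fun g hg _ => c2 hl ls g hg) ha oa hx' px))

theorem exists_c2 : ∃ s k, ∃ B : Subgroup G, C2 α β d s k B := by
  obtain ⟨w, hw, a1, -, a2⟩ := exists_above hG h.th
  obtain ⟨m, hm⟩ := a2
  have e := h.ix_d hG hw ⟨m, hm⟩ a1
  obtain ⟨s, hp, a3⟩ := Nat.exists_prime_and_dvd (n := m) fun e => a1 (by rw [hm, e, mul_one])
  have : Fact s.Prime := ⟨hp⟩
  have a4 : m * β = d := by rw [← e, hm, mul_comm]
  have a5 : s ∣ α := a3.trans (Nat.dvd_of_mul_dvd_mul_right (h.b_pos hG) (a4 ▸ h.hc ▸ e ▸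
    index_dvd_card _))
  obtain ⟨z, oz, a6⟩ := exists_full hp (h.hc ▸ a5.mul_right β)
  have z1 := ne_one_of_orderOf hp oz
  have ez := h.full hG hp a5 (a4 ▸ a3.mul_right β) z1 (PE.of_orderOf oz) a6
  have L1 := h.loc hG hp a4 z1 ez (PE.of_orderOf oz)
  obtain ⟨k, hk⟩ := L1.pow_of_dvd a3
  obtain ⟨k, rfl⟩ := Nat.exists_eq_succ_of_ne_zero (n := k) fun e => hp.one_lt.ne'
    (Nat.dvd_one.mp (by rwa [hk, e, pow_zero] at a3))
  subst hk
  obtain ⟨B, hB⟩ := exists_hall {s}ᶜ (h.solv hG ez.symm.dvd)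
  have b1 := (piG_compl_singleton hp).mp hB.pi
  have b2 := comm_of (comm_of_pow hp (L1.pow ⟨_, rfl⟩) hB.le b1)
  obtain ⟨x, hx, ex⟩ := h.th.exa
  obtain ⟨l, hl, ls, b3⟩ := exists_other hp (ex ▸ (ix_pos x).ne') fun ⟨k, hk⟩ =>
    ix_ne_pow hG hx hp k (ex.trans hk)
  have b4 : B ≠ ⊥ := fun e => hl.one_lt.ne' (Nat.dvd_one.mp (by
    simpa [e] using hB.prime_dvd hl ls (h.card_b hG ez ▸ b3)))
  have b5 : ∀ b ∈ B, b ≠ 1 → Cen1 b ≤ Cen1 z ∧ Cen1 b ≤ Cen B ∧ Cen1 b ≤ Cen (Cen1 b) := by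
    intro b hb b0
    have ob := coprime_orderOf_of_mem b1 hb
    have mn := h.mn hG b0 (h.up hG ez.symm.dvd b0 (hB.le hb)) fun e => by
      obtain ⟨j, hj⟩ := h.ty hG hp a5 a4 b0 e
      exact b0 (eq_one_of_pow_pow_of_coprime hj ob)
    have c1 := mn.le (c1_symm (hB.le hb)) (oz ▸ ob)
    obtain ⟨P, hP⟩ := H5.exists_isSylowOf s (Cen1 b)
    have c2 := (hB.of_le (cen_iff_le.mp (b2 hb)) c1).sup_eq (by
      rw [compl_compl]; exact hall_singleton.mpr hP)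
    have c3 : P ≤ Cen (Cen1 b) := fun u hu => cen_iff_le.mpr (mn.le (hP.le hu)
      ((PE.of_mem hP.isPGroup hu).coprime ob).symm)
    have c4 : Cen1 b ≤ Cen B := c2.ge.trans (sup_le b2 (c3.trans (centralizer_anti
      (cen_iff_le.mp (b2 hb)))))
    exact ⟨c1, c4, c2.ge.trans (sup_le (le_centralizer_iff.mp c4) c3)⟩
  have b6 : ∀ b ∈ B, b ≠ 1 → Cen1 b = Cen B := fun b hb b0 => le_antisymm (b5 b hb b0).2.1
    fun u hu => c1_symm (cen_iff_le.mp hu hb)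
  obtain ⟨b, hb, b0⟩ := B.bot_or_exists_ne_one.resolve_left b4
  exact ⟨s, k, B, h, hp, a4, a5, fun w => h.ty hG hp a5 a4, b4, b1,
    H5.coprime_of_le_left hB.le (h.cop hG ez.symm.dvd), b6, b6 b hb b0 ▸
      H5.isMulCommutative_of_forall fun u hu v hv => cen_iff.mp ((b5 b hb b0).2.2 hu) v hv,
    fun c hc oc => zpowers_le.mp (hB.le_of_le_nor (piG_zpowers.mpr ((piNum_compl_singleton' hp).mpr oc))
      (zpowers_le.mpr ((b5 b hb b0).1 (b6 b hb b0 ▸ hc)))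
      (zpowers_le.mpr (centralizer_le_normalizer _ hc)))⟩

end BO

namespace C2
variable (h : C2 α β d s k B)
include h

omit hG hs in
theorem le : B ≤ Cen B := fun b hb => by_cases (fun e : b = 1 => e ▸ one_mem _)
  fun e => h.cen b hb e ▸ self_mem b

omit hG hs in
theorem ucen (hu : u ∈ Cen B) : Cen B ≤ Cen1 u := le_of_comm h.comm hu

omit hG hs in
theorem sd : s ∣ d := h.pw ▸ (dvd_pow_self s k.succ_ne_zero).mul_right β

omit hG hs in
theorem odd : Odd s := h.bo.odd.of_dvd_nat h.sa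

theorem ixc (h0 : c ≠ 1) (h1 : β ∣ ix c) (h2 : (orderOf c).Coprime s) : ix c = d :=
  h.bo.ix_d hG h0 h1 fun e => by
    obtain ⟨j, hj⟩ := h.ty c h0 e
    exact h0 (eq_one_of_pow_pow_of_coprime hj h2)

theorem idx : (Cen B).index = d := by
  obtain ⟨b, hb, b0⟩ := B.bot_or_exists_ne_one.resolve_left h.ne
  exact h.cen b hb b0 ▸ h.ixc hG b0 (h.bo.of_mem hG h.cb hb b0) (coprime_orderOf_of_mem h.cs hb)

theorem cu : (Nat.card (Cen B)).Coprime β := by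
  obtain ⟨b, hb, b0⟩ := B.bot_or_exists_ne_one.resolve_left h.ne
  exact h.cen b hb b0 ▸ h.bo.cop hG (h.bo.of_mem hG h.cb hb b0)

theorem nd (hl : l.Prime) (h1 : l ∣ α) (h2 : l ≠ s) : ¬ l ∣ d := fun e =>
  (hl.dvd_mul.mp (h.pw ▸ e)).elim (fun e => h2 ((Nat.prime_dvd_prime_iff_eq hl h.sp).mp
    (hl.dvd_of_dvd_pow e))) (h.bo.nd hG hl h1)

theorem eq_d (hu : u ∈ Cen B) (e : ix u = d) : Cen1 u = Cen B :=
  (eq_of_index (h.ucen hu) ((h.idx hG).trans e.symm)).symm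

theorem beta (hu : u ∈ Cen B) (h0 : u ≠ 1) (h1 : q ∈ Cen1 u) (h2 : q ∉ Cen B) : ix u = β :=
  (h.bo.hd u h0 (h.bo.of_mem hG (h.cu hG) hu h0)).resolve_right fun e => h2 (h.eq_d hG hu e ▸ h1)

theorem exists_b : ∃ b ∈ B, (orderOf b).Prime ∧ orderOf b ∣ α ∧ orderOf b ≠ s := by
  obtain ⟨b, hb, hr⟩ := exists_prime_orderOf_mem h.ne
  exact ⟨b, hb, hr, (orderOf_dvd_natCard B hb).trans (h.bo.dvd' hG h.cb),
    (Nat.coprime_primes hr h.sp).mp (coprime_orderOf_of_mem h.cs hb)⟩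

theorem conjm (h0 : w ≠ 1) (h1 : β ∣ ix w) : ∃ g, g * w * g⁻¹ ∈ Cen B := by
  obtain ⟨b, hb, hr, a1, a2⟩ := h.exists_b hG
  obtain ⟨g, hg⟩ := exists_conj_comm hr (y := w) (fun e => (h.bo.hd w h0 h1).elim
    (fun e' => h.bo.nd hG hr a1 (e' ▸ e)) fun e' => h.nd hG hr a1 a2 (e' ▸ e)) (PE.of_orderOf rfl)
  exact ⟨g, h.cen b hb (ne_one_of_prime_orderOf hr) ▸ c1_symm hg⟩

omit hG hs in
theorem ti {g : G} (hb : b ∈ B) (h0 : b ≠ 1) (h1 : g * b * g⁻¹ ∈ Cen B) : g ∈ Nor B := by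
  have a1 : ∀ b ∈ B, (orderOf (g * b * g⁻¹)).Coprime s := fun b hb => by
    rw [← MulAut.conj_apply, MulEquiv.orderOf_eq]; exact coprime_orderOf_of_mem h.cs hb
  have a2 := h.cen _ (h.mem _ h1 (a1 b hb)) (conj_ne_one h0)
  rw [← conjS_cen1, h.cen b hb h0] at a2
  exact H5.mem_normalizer_of_forall fun c hc => h.mem _ (a2.le (conj_mem_conjS (h.le hc))) (a1 c hc)

omit hG hs in
theorem conj (g : G) : C2 α β d s k (conjS g B) := by
  refine ⟨h.bo, h.sp, h.pw, h.sa, h.ty, fun e => h.ne (conjS_eq_bot_iff.mp e),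
    card_conjS g B ▸ h.cs, card_conjS g B ▸ h.cb, ?_, conjS_cen g B ▸
      (have := h.comm; inferInstance), fun c hc ho => mem_conjS.mpr (h.mem _ (mem_conjS.mp
        ((conjS_centralizer g B).ge hc)) ?_)⟩
  · rintro _ ⟨b, hb, rfl⟩ b0
    rw [← conjS_cen, ← h.cen b hb (fun e => b0 (by simp [e])), conjS_cen1]
    rfl
  · rwa [← MulAut.conj_inv_apply, MulEquiv.orderOf_eq]

theorem exists_conj (h0 : w ≠ 1) (h1 : β ∣ ix w) : ∃ B' : Subgroup G, C2 α β d s k B' ∧ w ∈ Cen B' := by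
  obtain ⟨g, hg⟩ := h.conjm hG h0 h1
  exact ⟨_, h.conj g⁻¹, (conjS_cen g⁻¹ B).le (mem_conjS.mpr (by simpa using hg))⟩

theorem oddN : Odd (Nat.card (Nor B)) := h.bo.odd_nor hG h.ne h.cb

omit hG hs in
theorem memY (hy : y ∈ Cen B) (h1 : PE s y) : y ∈ pCoreIn s (Cen B) :=
  zpowers_le.mp (le_pCoreIn (zpowers_le.mpr hy) ((h.ucen hy).trans ((centralizer_zpowers y).ge.trans
    (centralizer_le_normalizer _))) h1.isPGroup)

theorem syl {R : Subgroup G} (hl : l.Prime) (h1 : l ∣ α) (h2 : l ≠ s) (hR : IsSylowOf l R (Cen B)) :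
    IsSylowOf l R ⊤ := sylow_of_not_dvd hl hR (h.idx hG ▸ h.nd hG hl h1 h2)

theorem not_le : ¬ Nor B ≤ Cen B := fun hn => by
  obtain ⟨b, hb, hr, a1, a2⟩ := h.exists_b hG
  have : Fact (orderOf b).Prime := ⟨hr⟩
  obtain ⟨R, hR, a3⟩ := H5.exists_isSylowOf_ge (PE.of_orderOf (x := b) rfl).isPGroup
    (zpowers_le.mpr (h.le hb))
  have b0 := ne_one_of_prime_orderOf hr
  have a4 := Burnside_normal_complement (h.syl hG hr a1 a2 hR) fun g hg => le_centralizer_iff.mp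
    (hR.le.trans (comm_of h.comm)) (hn (h.ti hb b0 (hR.le (H5.conj_mem_of_mem_normalizer hg.2
      (a3 (mem_zpowers b))))))
  rcases hs.eq_bot_or_eq_top_of_normal _ (normal_of_top_le_normalizer a4.le_nor) with e | e
  · have a5 := a4.sup
    rw [e, bot_sup_eq] at a5
    exact hG ⟨⟨fun x y => H5.comm_of_isMulCommutative h.comm (hR.le (a5.ge (mem_top x)))
      (hR.le (a5.ge (mem_top y)))⟩⟩
  · exact b0 (mem_bot.mp (a4.inf.le ⟨e.ge (mem_top b), a3 (mem_zpowers b)⟩))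

theorem nv (hq : q ∈ Nor B) (h1 : q ∉ Cen B) (h2 : PE s q) (hv : v ∈ Nor B)
    (hl : (orderOf v).Prime) : orderOf v ∣ α := by
  obtain ⟨j, hj⟩ := h2
  obtain ⟨i, a1, a2⟩ := H7.exists_pow_notMem_pow_mem hj h1
  have a3 : PE s (q ^ s ^ i) := PE.of_zpowers ⟨j, hj⟩ (npow_mem_zpowers _ _)
  by_contra hn
  refine a1 (zpowers_le.mp (le_cen_of_nilpotent_of_coprime (h.bo.nil hG (coprime_card_sup
    (zpowers_le.mpr (H5.le_normalizer_centralizer le_rfl (pow_mem hq _))) (Nat.card_zpowers (q ^ s ^ i) ▸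
      a3.coprime (h.bo.th.cop.coprime_dvd_left h.sa).symm) (h.cu hG)) hl hn (hol_nor h.sp h.ne
        (fun b hb b0 => (h.cen b hb b0).le) (h.oddN hG) (pow_mem hq _) a1 a2 hv)) le_sup_left
    (h.le.trans le_sup_right) (Nat.card_zpowers (q ^ s ^ i) ▸ a3.coprime h.cs)))

theorem exists_q : ∃ q ∈ Nor B, q ∉ Cen B ∧ PE s q := by
  have : Fact s.Prime := ⟨h.sp⟩
  by_contra! hn
  have nU : Nor B ≤ Nor (Cen B) := H5.le_normalizer_centralizer le_rfl
  obtain ⟨v, hv, hl, a1⟩ : ∃ v ∈ Nor B, (orderOf v).Prime ∧ ¬ orderOf v ∣ α := by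
    by_contra! hc
    refine h.not_le hG (H5.le_of_forall_sylow fun l hl hd => ?_)
    by_cases ls : l = s
    · obtain ⟨P, hP⟩ := H5.exists_isSylowOf l (Nor B)
      exact ⟨P, hP, fun x hx => by_contra fun e => hn x (hP.le hx) e (ls ▸ PE.of_mem hP.isPGroup hx)⟩
    · obtain ⟨P, hP⟩ := H5.exists_isSylowOf l (Cen B)
      obtain ⟨v, hv, ov⟩ := exists_mem_of_dvd hl.out hd
      exact ⟨P, (h.syl hG hl.out (ov ▸ hc v hv (ov ▸ hl.out)) ls hP).of_le
        (hP.le.trans (centralizer_le_normalizer _)) le_top, hP.le⟩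
  set Y := pCoreIn s (Cen B)
  have nY : Nor B ≤ Nor Y := nU.trans (normalizer_le_normalizer_pCoreIn s _)
  have pY := isPGroup_pCoreIn s (Cen B)
  obtain ⟨z, oz, -⟩ := exists_full h.sp (h.bo.hc ▸ h.sa.mul_right β)
  have z1 := ne_one_of_orderOf h.sp oz
  obtain ⟨g, hg⟩ := h.conjm hG z1 (h.bo.of_pe hG h.sa (PE.of_orderOf oz) z1)
  have a2 := h.memY hg ((PE.of_orderOf oz).conj g)
  have a3 := h.bo.of_mem hG (h.cu hG) hg (conj_ne_one z1)
  have UM : Cen B ≤ Nor Y := (centralizer_le_normalizer _).trans nY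
  have a4 : fittingIn (Nor Y) ≤ Cen B := fit_le fun l hl => by
    have : Fact l.Prime := ⟨hl⟩
    have pl := isPGroup_pCoreIn l (Nor Y)
    by_cases ls : l = s
    · subst ls
      exact le_cen_of_nilpotent_of_coprime (h.bo.nil hG (coprime_card_sup (h.le.trans
        (UM.trans (le_normalizer_pCoreIn l _))) h.cb (H5.coprime_card_of_isPGroup pl
          (h.bo.nd hG hl h.sa))) ‹_› a1 (H5.le_normalizer_sup le_rfl (nY.trans
            (le_normalizer_pCoreIn l _)) hv)) le_sup_right le_sup_left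
        (H5.coprime_card_of_isPGroup pl (hl.coprime_iff_not_dvd.mp h.cs.symm))
    by_cases la : l ∣ α
    · obtain ⟨P, hP⟩ := H5.exists_isSylowOf l (Cen B)
      exact (((h.syl hG hl la ls hP).of_le (hP.le.trans UM) le_top).le_of_le_normalizer pl
        (pCoreIn_le _ _) ((hP.le.trans UM).trans (le_normalizer_pCoreIn l _))).trans hP.le
    · refine (H5.eq_bot_of_isPGroup_of_not_dvd pl fun e => la (e.trans ((card_dvd_of_le
        fun x hx => ?_).trans (h.bo.dvd hG a3)))).le.trans bot_le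
      exact c1_iff.mpr (commutator_eq_bot_iff'.mp (commutator_eq_bot_of_pGroup_coprime pl
        (coprime_card_of_pGroup (Ne.symm ls) pY) (pCoreIn_le _ _)
        (le_normalizer.trans (le_normalizer_pCoreIn l _))) x hx _ a2)
  have a5 : B ≤ fittingIn (Nor Y) := (le_inf (h.le.trans UM) (le_centralizer_iff.mp a4)).trans
    (inf_centralizer_fittingIn_le (odd_solvable (h.bo.odd_nor hG (fun e => conj_ne_one z1
      (mem_bot.mp (e.le a2))) (H5.coprime_of_le_left (pCoreIn_le _ _) (h.cu hG)))))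
  obtain ⟨S, hS, a6⟩ := H5.exists_isSylowOf_ge pY le_top
  obtain ⟨x, hx, a7, a8, -⟩ := H7.exists_mem_normalizer_of_lt hS.isPGroup (lt_of_le_of_ne a6
    fun e => not_dvd_of_sylow hS (e.ge.trans (pCoreIn_le _ _)) (h.idx hG ▸ h.sd))
  obtain ⟨b, hb, b0⟩ := B.bot_or_exists_ne_one.resolve_left h.ne
  exact hn x (h.ti hb b0 (a4 (H5.conj_mem_of_mem_normalizer (le_normalizer_fittingIn _ a8) (a5 hb))))
    (fun e => a7 (h.memY e (PE.of_mem hS.isPGroup hx))) (PE.of_mem hS.isPGroup hx)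

end C2

end I4
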