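import Cfsg.Agent.I4.J

/-! Two-headed simple groups: the odd component, end of the non-nilpotent case. -/

set_option autoImplicit false
set_option linter.unusedSectionVars false
set_option linter.unusedVariables false

namespace I4

open Cfsg Subgroup FT H4 BS IT
open H5 (IsSylowOf)
open scoped Classical commutatorElement

universe u

variable {G : Type u} [Group G] [Finite G] {x y z w u v b c q : G} {α β d s k l m : ℕ}
  {X L B B' : Subgroup G}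

variable [hs : IsSimpleGroup G] (hG : ¬ IsMulCommutative G)
include hG

namespace C2
variable (h : C2 α β d s k B)
include h

theorem piN : (Nat.card (Nor B)).Coprime β := Nat.coprime_of_dvd fun l hl h1 h2 => by
  obtain ⟨q, hq, a1, a2⟩ := h.exists_q hG
  obtain ⟨v, hv, ov⟩ := exists_mem_of_dvd hl h1
  exact h.bo.nd hG hl (ov ▸ h.nv hG hq a1 a2 hv (ov ▸ hl)) h2

section
variable (hz : z ≠ 1) (e : ix z = β) (hB : B ≤ Cen1 z)
include hz e hB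

theorem hall : Hall {s}ᶜ B (Cen1 z) := by
  obtain ⟨H, h1, h2⟩ := exists_hall_ge (h.bo.solv hG e.symm.dvd) hB
    ((piG_compl_singleton h.sp).mpr h.cs)
  have h3 := (piG_compl_singleton h.sp).mp h1.pi
  have h4 := comm_of (comm_of_pow h.sp ((h.bo.loc hG h.sp h.pw hz e (h.ty z hz e)).pow ⟨_, rfl⟩)
    h1.le h3)
  rwa [le_antisymm h2 fun c hc => h.mem c (centralizer_anti h2 (h4 hc))
    (coprime_orderOf_of_mem h3 hc)]

theorem memQ (hc : c ∈ Cen1 z) (ho : (orderOf c).Coprime s) : c ∈ pCoreIn s (Cen1 z) ⊔ B := by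
  have nQ := le_normalizer_pCoreIn s (Cen1 z)
  have a1 : pCoreIn s (Cen1 z) ⊔ B ≤ Cen1 z := sup_le (pCoreIn_le _ _) hB
  have a2 : c ∈ Nor (pCoreIn s (Cen1 z) ⊔ B) := H5.mem_normalizer_of_forall fun t ht => by
    obtain ⟨u, hu, b, hb, rfl⟩ := (H5.mem_sup_left_iff (hB.trans nQ)).mp ht
    exact H5.mem_of_eq (mul_mem (mem_sup_left (mul_mem (H5.conj_mem_of_mem_normalizer (nQ hc) hu)
      (comm_mod h.sp ((h.bo.loc hG h.sp h.pw hz e (h.ty z hz e)).pow ⟨_, rfl⟩) hc (hB hb) ho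
        (coprime_orderOf_of_mem h.cs hb)))) (mem_sup_right hb))
      (by rw [commutatorElement_def]; group)
  exact mem_of_pow_mem_of_coprime (pow_relIndex_mem' (H := Cen1 z ⊓ Nor _) inf_le_right ⟨hc, a2⟩)
    (((piNum_compl_singleton' h.sp).mpr ho).coprime ((h.hall hG hz e hB).idx.of_dvd
      ((Dvd.intro _ (relIndex_mul_relIndex _ _ _ (le_inf a1 le_normalizer) inf_le_left)).trans
        (relIndex_dvd_of_le_left _ le_sup_right))))

theorem typeb (hq : q ∈ Nor B) (h1 : q ∈ Cen1 z) (h2 : q ∉ Cen B) (h3 : PE s q)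
    (hu : u ∈ pCoreIn s (Cen1 z)) : u * q ≠ 1 ∧ ix (u * q) = β := by
  have : Fact s.Prime := ⟨h.sp⟩
  have nQ := le_normalizer_pCoreIn s (Cen1 z)
  have pQ := isPGroup_pCoreIn s (Cen1 z)
  have a1 : ∀ c ∈ Cen1 z, (orderOf c).Coprime s → c ∈ Cen1 (u * q) → c = 1 := fun c hc ho h4 => by
    obtain ⟨u', hu', b, hb, rfl⟩ := (H5.mem_sup_left_iff (hB.trans nQ)).mp (h.memQ hG hz e hB hc ho)
    have a2 : b * q * b⁻¹ * q⁻¹ = 1 := mem_bot.mp ((inf_eq_bot_of_pGroup_coprime pQ h.cs).le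
      ⟨H5.mem_of_eq (mul_mem (mul_mem (mul_mem (inv_mem (H5.conj_mem_of_mem_normalizer (nQ (hB hb))
        hu)) (inv_mem hu')) hu) (H5.conj_mem_of_mem_normalizer (nQ h1) hu')) (by
          calc _ = (b * u * b⁻¹)⁻¹ * u'⁻¹ * (u * q * (u' * b)) * b⁻¹ * q⁻¹ := by group
            _ = _ := by rw [← c1_iff.mp h4]; group),
        H5.mem_of_eq (mul_mem hb (H5.conj_mem_of_mem_normalizer hq (inv_mem hb))) (by group)⟩)
    have a3 : b = 1 := by_contra fun b0 => h2 (h.cen b hb b0 ▸ c1_symm (c1_iff'.mpr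
      (mul_inv_eq_one.mp a2)))
    rw [a3, mul_one] at ho ⊢
    obtain ⟨j, hj⟩ := exists_pow_pow_of_mem pQ hu'
    exact eq_one_of_pow_pow_of_coprime hj ho
  obtain ⟨b, hb, b0⟩ := B.bot_or_exists_ne_one.resolve_left h.ne
  have ob := coprime_orderOf_of_mem h.cs hb
  have a2 : u * q ≠ 1 := fun e' => b0 (a1 b (hB hb) ob (by rw [e', c1_iff, mul_one, one_mul]))
  have a3 := h.bo.up hG e.symm.dvd a2 (mul_mem (pCoreIn_le _ _ hu) h1)
  refine ⟨a2, (h.bo.hd _ a2 a3).resolve_right fun e' => ?_⟩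
  obtain ⟨B', h', a4⟩ := h.exists_conj hG a2 a3
  obtain ⟨c, hc, c0⟩ := B'.bot_or_exists_ne_one.resolve_left h'.ne
  have a5 := h'.eq_d hG a4 e'
  exact c0 (a1 c (h'.ucen (a5.le (c1_symm (mul_mem (pCoreIn_le _ _ hu) h1))) (h'.le hc))
    (coprime_orderOf_of_mem h'.cs hc) (a5.ge (h'.le hc)))

theorem pow_eq (hq : q ∈ Nor B) (h1 : q ∈ Cen1 z) (h2 : q ∉ Cen B) (h3 : PE s q)
    (h4 : q ^ s ∈ Cen B) : q ^ s = 1 := by_contra fun e' => by
  obtain ⟨a1, a2⟩ := h.typeb hG hz e hB hq h1 h2 h3 (one_mem _)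
  rw [one_mul] at a1 a2
  exact h2 (cen_iff_le.mpr (h.le.trans ((h.ucen h4).trans
    ((h.bo.mx hG a1 a2).pow (npow_mem_zpowers q s) e').le)))

end

theorem exists_K : ∃ z ∈ Cen B, z ≠ 1 ∧ ix z = β ∧ Cen1 z = Nor B := by
  have : Fact s.Prime := ⟨h.sp⟩
  obtain ⟨q₀, hq₀, a1, j, a2⟩ := h.exists_q hG
  obtain ⟨i, a3, a4⟩ := H7.exists_pow_notMem_pow_mem a2 a1
  set q := q₀ ^ s ^ i
  have hq : q ∈ Nor B := pow_mem hq₀ _
  have pq : PE s q := PE.of_zpowers ⟨j, a2⟩ (npow_mem_zpowers _ _)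
  obtain ⟨S, hS, a5⟩ := H5.exists_isSylowOf_ge pq.isPGroup (zpowers_le.mpr hq)
  obtain ⟨z₀, oz, -⟩ := exists_full h.sp (h.bo.hc ▸ h.sa.mul_right β)
  have z1 := ne_one_of_orderOf h.sp oz
  obtain ⟨g, hg⟩ := h.conjm hG z1 (h.bo.of_pe hG h.sa (PE.of_orderOf oz) z1)
  obtain ⟨z, hz, z0, -, a6⟩ := H7.exists_fixed_order_p (isPGroup_pCoreIn s (Cen B)) hS.isPGroup
    (hS.le.trans ((H5.le_normalizer_centralizer le_rfl).trans (normalizer_le_normalizer_pCoreIn s _)))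
    fun e => conj_ne_one z1 (mem_bot.mp (e.le (h.memY hg ((PE.of_orderOf oz).conj g))))
  have hz' := pCoreIn_le _ _ hz
  have a7 : S ≤ Cen1 z := fun x hx => c1_iff.mpr (a6 x (mem_sup_right hx))
  have a8 := a7 (a5 (mem_zpowers q))
  have ez := h.beta hG hz' z0 a8 a3
  have hB := h.le.trans (h.ucen hz')
  have a9 := h.pow_eq hG z0 ez hB hq a8 a3 pq a4
  have nQ := le_normalizer_pCoreIn s (Cen1 z)
  refine ⟨z, hz', z0, ez, le_antisymm (nor_of_hall h.sp (h.bo.solv hG ez.symm.dvd)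
    (h.hall hG z0 ez hB) (H5.isMulCommutative_of_le h.comm h.le) (quad h.sp h.odd hq a9
      (eq_bot_iff.mpr fun b hb => by_contra fun b0 => a3 (h.cen b hb.1 b0 ▸ c1_symm hb.2)) h.cs _ _
      rfl (isPGroup_pCoreIn s _) (hB.trans nQ) (nQ a8) fun u hu e => ?_))
    (H5.le_of_forall_sylow fun l hl hd => ?_)⟩
  · obtain ⟨b1, b2⟩ := h.typeb hG z0 ez hB hq a8 a3 pq hu
    exact ((h.bo.mx hG b1 b2).pow (npow_mem_zpowers _ s) e).le
  · by_cases ls : l = s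
    · subst ls
      exact ⟨S, hS, a7⟩
    · obtain ⟨P, hP⟩ := H5.exists_isSylowOf l (Cen B)
      exact ⟨P, (h.syl hG hl.out (hd.trans (h.bo.dvd' hG (h.piN hG))) ls hP).of_le
        (hP.le.trans (centralizer_le_normalizer _)) le_top, hP.le.trans (h.ucen hz')⟩

theorem idxN : (Nor B).index = β := by
  obtain ⟨z, -, -, e, e'⟩ := h.exists_K hG
  exact e' ▸ e

theorem rel (hU : Cen B ≤ X) (e : X.index = β) : (Cen B).relIndex X = s ^ (k + 1) :=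
  Nat.eq_of_mul_eq_mul_right (h.bo.b_pos hG) (by
    rw [h.pw, ← h.idx hG, ← e, relIndex_mul_index hU])

theorem typeb' (hq : q ∈ Nor B) (h2 : q ∉ Cen B) (h3 : PE s q) : ix q = β := by
  obtain ⟨z, hz, z0, e, e'⟩ := h.exists_K hG
  simpa using (h.typeb hG z0 e (h.le.trans (h.ucen hz)) hq (e'.ge hq) h2 h3 (one_mem _)).2

theorem cen_eq (hz : z ∈ Cen B) (e : ix z = β) : Cen1 z = Nor B := by
  have := Fintype.ofFinite G
  obtain ⟨b, hb, b0⟩ := B.bot_or_exists_ne_one.resolve_left h.ne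
  have ob : ∀ g, (orderOf (g * b * g⁻¹)).Coprime s := fun g => by
    rw [← MulAut.conj_apply, MulEquiv.orderOf_eq]; exact coprime_orderOf_of_mem h.cs hb
  have a1 : s ^ (k + 1) ∣ ((B : Set G) \ {1}).ncard := dvd_ncard (X := Nor B)
    (fun g hg t ht => ⟨H5.conj_mem_of_mem_normalizer hg ht.1, conj_ne_one ht.2⟩) fun t ht => by
      rw [h.cen t ht.1 ht.2, h.rel hG (centralizer_le_normalizer _) (h.idxN hG)]
  have a2 : Nat.card B ∣ ((cob (Cen1 z) b : Set G) \ B).ncard := by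
    refine card_dvd_ncard_of_free B _ (fun g hg t ⟨ht, ht'⟩ => ⟨?_, fun e => ht'
      (H5.mem_of_eq (mul_mem (mul_mem (inv_mem hg) e) hg) (by group))⟩) fun g hg t ⟨ht, ht'⟩ e => ?_
    · obtain ⟨u, hu, rfl⟩ := mem_cob.mp ht
      exact mem_cob.mpr ⟨g * u, mul_mem (h.ucen hz (h.le hg)) hu, by group⟩
    · obtain ⟨u, hu, rfl⟩ := mem_cob.mp ht
      exact by_contra fun g0 => ht' (h.mem _ (h.cen g hg g0 ▸ c1_symm (c1_iff'.mpr e)) (ob u))
  have a3 := Set.ncard_le_ncard (Set.sdiff_subset (s := (cob (Cen1 z) b : Set G)) (t := B))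
  rw [Set.ncard_coe_finset, card_cob', h.cen b hb b0, h.rel hG (h.ucen hz) e] at a3
  rw [Set.ncard_sdiff_singleton_of_mem (one_mem B), ← Nat.card_coe_set_eq] at a1
  have a4 : 1 < Nat.card B := one_lt_card_iff_ne_bot B |>.mpr h.ne
  have a5 := Nat.le_of_dvd (Nat.sub_pos_of_lt a4) a1
  have a6 := (Set.ncard_eq_zero (Set.toFinite _)).mp (Nat.eq_zero_of_dvd_of_lt a2 (by
    change _ ≤ Nat.card B - 1 at a5; omega))
  exact eq_of_index (fun g hg => h.ti hb b0 (h.le (Set.sdiff_eq_empty.mp a6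
    (mem_cob.mpr ⟨g, hg, rfl⟩)))) (e.trans (h.idxN hG).symm)

theorem mem_Z (hu : u ∈ Cen B) (h0 : u ≠ 1) (h1 : q ∈ Cen1 u) (h2 : q ∉ Cen B) : u ∈ Zc (Nor B) :=
  ⟨centralizer_le_normalizer _ hu, cen_iff_le.mpr (h.cen_eq hG hu (h.beta hG hu h0 h1 h2)).ge⟩

theorem cyc (hq : q ∈ Nor B) (h2 : q ∉ Cen B) (h3 : PE s q) : IsCyclic (Zc (Nor B)) := by
  have a1 := h.typeb' hG hq h2 h3
  obtain ⟨B', h', a2⟩ := h.exists_conj (w := q) hG (fun e => h2 (e ▸ one_mem _)) a1.symm.dvd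
  have a3 := h'.cen_eq hG a2 a1
  obtain ⟨z, hz, z0, e, e'⟩ := h.exists_K hG
  refine abelian_regular_cyclic (H5.isMulCommutative_of_forall fun a ha b hb => cen_iff.mp ha.2 b hb.1)
    h'.ne (fun t ht => a3.le (c1_symm (cen_iff_le.mp ht.2 hq))) fun t ht t0 => eq_bot_iff.mpr
      fun b hb => by_contra fun b0 => h2 (cen_iff_le.mpr (le_normalizer.trans ?_))
  have a4 := (h.bo.mx hG z0 e).eq t0 (e'.le.trans (cen_iff_le.mp ht.2))
  rw [a3, ← h'.cen_eq hG (h'.cen b hb.1 b0 ▸ c1_symm hb.2) ((congrArg index a4).trans e), a4, e']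

theorem tv (hq : q ∈ Nor B) (h2 : q ∉ Cen B) (h3 : q ^ s = 1) (hz : z ∈ Cen B) (z0 : z ≠ 1)
    (h4 : z ^ s = 1) (h5 : q ∈ Cen1 z) (hn : ¬ pCoreIn s (Cen B) ≤ Cen1 q) :
    ∃ y ∈ Cen1 z, y * q * y⁻¹ = z * q := by
  have : Fact s.Prime := ⟨h.sp⟩
  have pq : PE s q := ⟨1, by simpa using h3⟩
  have nY := zpowers_le.mpr (((H5.le_normalizer_centralizer le_rfl).trans
    (normalizer_le_normalizer_pCoreIn s _)) hq)
  obtain ⟨x, hx, a1, a2, -⟩ := H7.exists_central_mod (N := pCoreIn s (Cen B) ⊓ Cen1 q)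
    ((isPGroup_pCoreIn s (Cen B)).to_sup_of_normal_left' pq.isPGroup nY) le_sup_left
    (sup_le le_normalizer nY) fun e => hn (e.trans inf_le_right)
  have a3 := a2 q (mem_sup_right (mem_zpowers q))
  have a4 := pCoreIn_le _ _ a3.1
  have a5 : ⁅x, q⁆ ≠ 1 := fun e => a1 ⟨hx, c1_iff.mpr (commutatorElement_eq_one_iff_mul_comm.mp e)⟩
  have := h.cyc hG hq h2 pq
  obtain ⟨i, hi⟩ := mem_powers_iff_mem_zpowers.mpr (H7.mem_zpowers_of_isCyclic (p := s)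
    (h.mem_Z hG a4 a5 (c1_symm a3.2) h2) a5 (by
      rw [← H7.commutator_pow_right (c1_iff.mp a3.2).symm, h3, commutatorElement_one_right])
    (h.mem_Z hG hz z0 h5 h2) h4)
  refine ⟨x ^ i, pow_mem (h.ucen hz (pCoreIn_le _ _ hx)) i, ?_⟩
  rw [← hi]
  simp only
  rw [← H7.commutator_pow_left (H5.comm_of_isMulCommutative h.comm (pCoreIn_le _ _ hx) a4),
    commutatorElement_def, inv_mul_cancel_right]

theorem ab (hq : q ∈ Nor B) (h2 : q ∉ Cen B) (h3 : q ^ s = 1) (hn : pCoreIn s (Cen B) ≤ Cen1 q) :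
    False := by
  have : Fact s.Prime := ⟨h.sp⟩
  have := Fintype.ofFinite G
  have pq : PE s q := ⟨1, by simpa using h3⟩
  have := h.cyc hG hq h2 pq
  have a1 : ∀ y ∈ Cen B, PE s y → y ∈ Zc (Nor B) := fun y hy py => by_cases
    (fun e : y = 1 => e ▸ one_mem _) fun e => h.mem_Z hG hy e (c1_symm (hn (h.memY hy py))) h2
  obtain ⟨S, hS, a2⟩ := H5.exists_isSylowOf_ge pq.isPGroup (zpowers_le.mpr hq)
  have a3 := a2 (mem_zpowers q)
  obtain ⟨a4, a5⟩ := hol_cyc h.sp h.ne (fun b hb b0 => (h.cen b hb b0).le) (h.oddN hG) hS.le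
    hS.isPGroup
  have cS := a4 fun y hy => centralizer_anti hS.le (a1 y hy.2 (PE.of_mem hS.isPGroup hy.1)).2
  have hS' := sylow_of_not_dvd h.sp hS (h.idxN hG ▸ h.bo.nd hG h.sp h.sa)
  obtain ⟨z₀, oz, -⟩ := exists_full h.sp (h.bo.hc ▸ h.sa.mul_right β)
  obtain ⟨g, hz⟩ := h.conjm hG (ne_one_of_orderOf h.sp oz) (h.bo.of_pe hG h.sa (PE.of_orderOf oz)
    (ne_one_of_orderOf h.sp oz))
  have z0 : g * z₀ * g⁻¹ ≠ 1 := conj_ne_one (ne_one_of_orderOf h.sp oz)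
  have zs : (g * z₀ * g⁻¹) ^ s = 1 := by rw [conj_pow, ← oz, pow_orderOf_eq_one]; simp
  generalize g * z₀ * g⁻¹ = z at hz z0 zs
  have pe : ∀ {t : G}, t ^ s = 1 → PE s t := fun e => ⟨1, by simpa using e⟩
  have zZ := a1 z hz (pe zs)
  have zS := mem_syl h.sp hS zZ.1 (pe zs) (hS.le.trans (cen_iff_le.mp zZ.2))
  have a6 : ∀ y ∈ Cen B, y ^ s = 1 → y ∈ zpowers z := fun y hy e =>
    H7.mem_zpowers_of_isCyclic (p := s) zZ z0 zs (a1 y hy (pe e)) e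
  have ez := h.beta hG hz z0 (cen_iff_le.mp zZ.2 hq) h2
  have Kz := h.cen_eq hG hz ez
  obtain ⟨b1, b2⟩ := H7.ea_zpowers_sup (p := s) z0 zs (cen_iff.mp zZ.2 q hq) h3
    fun e => h2 (zpowers_le.mpr hz e)
  set E := zpowers z ⊔ zpowers q
  have ES : E ≤ S := sup_le (zpowers_le.mpr zS) a2
  have b3 : ∀ t ∈ S, t ^ s = 1 → t ∈ E := fun t ht e => by
    obtain ⟨a, ha, y, hy, rfl⟩ := (H5.mem_sup_right_iff (zpowers_le.mpr
      (H5.le_normalizer_centralizer le_rfl hq))).mp (a5 q a3 h2 h3 t ht e)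
    have c1 := (mul_mem_cancel_left (a2 ha)).mp ht
    rw [Commute.mul_pow (H5.comm_of_isMulCommutative cS (a2 ha) c1),
      H7.pow_eq_one_of_mem_zpowers h3 ha, one_mul] at e
    exact mul_mem (mem_sup_right ha) (mem_sup_left (a6 y hy e))
  have b4 : ∀ c ∈ cob (Nor S) z, c ∈ S ∧ c ≠ 1 ∧ c ^ s = 1 := fun c hc => by
    obtain ⟨x, hx, rfl⟩ := mem_cob.mp hc
    exact ⟨H5.conj_mem_of_mem_normalizer hx zS, conj_ne_one z0, by rw [conj_pow, zs]; simp⟩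
  have b5 : ∀ x y : G, ∀ t, t ≠ 1 → t ∈ zpowers (x * z * x⁻¹) → t ∈ zpowers (y * z * y⁻¹) →
      x * z * x⁻¹ = y * z * y⁻¹ := fun x y t t0 c1 c2 => by
    have c3 : ∀ x : G, t ∈ zpowers (x * z * x⁻¹) → Cen1 t = conjS x (Nor B) := fun x e => by
      rw [(h.bo.mx hG (conj_ne_one z0) ((ix_conj x z).trans ez)).pow e t0, ← conjS_cen1, Kz]
    have c4 : y⁻¹ * x ∈ Nor (Nor B) := mem_normalizer_iff_conjS.mpr (by
      rw [← conjS_conjS, ← c3 x c1, c3 y c2, conjS_inv_conjS])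
    have c5 := c1_iff'.mp (Kz.ge ((Kz ▸ h.hall hG z0 ez (le_normalizer.trans Kz.ge)).nor_le_nor
      le_rfl c4))
    calc _ = y * (y⁻¹ * x * z * (y⁻¹ * x)⁻¹) * y⁻¹ := by group
      _ = _ := by rw [c5]
  have b6 := Finset.card_mul_eq_card_mul (s := cob (Nor S) z) (t := (E : Set G).toFinset.erase 1)
    (m := s - 1) (n := 1) (fun c t => t ∈ zpowers c) (fun c hc => by
      obtain ⟨c1, c2, c3⟩ := b4 c hc
      rw [show Finset.bipartiteAbove _ _ c = (zpowers c : Set G).toFinset.erase 1 from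
        Finset.ext fun t => ?_, Finset.card_erase_of_mem (by simp), Set.toFinset_card,
        ← Nat.card_eq_fintype_card, SetLike.coe_sort_coe, Nat.card_zpowers, orderOf_eq_prime c3 c2]
      simp only [Finset.mem_bipartiteAbove, Finset.mem_erase, Set.mem_toFinset, SetLike.mem_coe]
      exact ⟨fun e => ⟨e.1.1, e.2⟩, fun e => ⟨⟨e.1, zpowers_le.mpr (b3 c c1 c3) e.2⟩, e.2⟩⟩)
    fun t ht => by
      simp only [Finset.mem_erase, Set.mem_toFinset, SetLike.mem_coe] at ht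
      have c1 : t ^ s = 1 := b1.2 t ht.2
      obtain ⟨g, hg⟩ := h.conjm hG ht.1 (h.bo.of_pe hG h.sa (pe c1) ht.1)
      have c2 := a6 _ hg (by rw [conj_pow, c1]; simp)
      obtain ⟨n, -, hn, c3⟩ := W.burnside_fusion hS' (comm_of cS (zpowers_le.mpr zS c2))
        (mem_top g⁻¹) (by simpa [mul_assoc] using comm_of cS (ES ht.2))
      have c4 : t ∈ zpowers (n * z * n⁻¹) := by
        obtain ⟨i, hi⟩ := c2
        exact ⟨i, by simp only at hi ⊢; rw [conj_zpow, hi, c3]; group⟩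
      refine Finset.card_eq_one.mpr ⟨n * z * n⁻¹, Finset.eq_singleton_iff_unique_mem.mpr
        ⟨Finset.mem_bipartiteBelow _ |>.mpr ⟨mem_cob.mpr ⟨n, hn, rfl⟩, c4⟩, fun c hc => ?_⟩⟩
      obtain ⟨hc, c5⟩ := (Finset.mem_bipartiteBelow _).mp hc
      obtain ⟨x, hx, rfl⟩ := mem_cob.mp hc
      exact b5 x n t ht.1 c5 c4
  rw [Finset.card_erase_of_mem (by simp), Set.toFinset_card, ← Nat.card_eq_fintype_card,
    SetLike.coe_sort_coe, b2, card_cob', mul_one, ← one_pow 2, Nat.sq_sub_sq] at b6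
  have b7 := (h.bo.odd_nor hG (fun e => z0 (mem_bot.mp (e.le zS))) (H5.coprime_card_of_isPGroup
    hS.isPGroup (h.bo.nd hG h.sp h.sa))).of_dvd_nat (relIndex_dvd_card (Cen1 z) (Nor S))
  rw [Nat.eq_of_mul_eq_mul_right (Nat.sub_pos_of_lt h.sp.one_lt) b6] at b7
  exact Nat.not_even_iff_odd.mpr b7 (h.odd.add_one)

theorem false : False := by
  have : Fact s.Prime := ⟨h.sp⟩
  obtain ⟨q₀, hq₀, a1, j, a2⟩ := h.exists_q hG
  obtain ⟨i, a3, a4⟩ := H7.exists_pow_notMem_pow_mem a2 a1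
  have hq : q₀ ^ s ^ i ∈ Nor B := pow_mem hq₀ _
  have pq : PE s (q₀ ^ s ^ i) := PE.of_zpowers ⟨j, a2⟩ (npow_mem_zpowers _ _)
  generalize q₀ ^ s ^ i = q at a3 a4 hq pq
  obtain ⟨z₀, hz₀, z1, e, e'⟩ := h.exists_K hG
  have a5 := h.pow_eq hG z1 e (le_normalizer.trans e'.ge) hq (e'.ge hq) a3 pq a4
  obtain ⟨z, hz, oz⟩ := exists_pow_of_dvd h.sp ((h.ty z₀ z1 e).dvd h.sp z1)
  have z0 := ne_one_of_orderOf h.sp oz
  have zs : z ^ s = 1 := oz ▸ pow_orderOf_eq_one z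
  have a6 := zpowers_le.mpr hz₀ hz
  have a7 := cen1_le_of_mem hz (e'.ge hq)
  have q0 : q ≠ 1 := fun e => a3 (e ▸ one_mem _)
  have a8 := h.typeb' hG hq a3 pq
  obtain ⟨B', h', a9⟩ := h.exists_conj hG q0 a8.symm.dvd
  have b1 := h'.cen_eq hG a9 a8
  have b2 := h.beta hG a6 z0 a7 a3
  have b3 : z ∉ Cen B' := fun e => a3 (cen_iff_le.mpr (le_normalizer.trans (by
    rw [b1, ← h'.cen_eq hG e b2, h.cen_eq hG a6 b2])))
  have b4 := b1.le (c1_symm a7)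
  obtain ⟨y, hy, e1⟩ := h.tv hG hq a3 a5 a6 z0 zs a7 (h.ab hG hq a3 a5)
  obtain ⟨y', hy', e2⟩ := h'.tv hG b4 b3 zs (inv_mem a9) (inv_ne_one.mpr q0) (by simp [a5])
    (c1_symm (inv_mem a7)) (h'.ab hG b4 b3 zs)
  have c0 : q⁻¹ * z * q⁻¹⁻¹ = z := c1_iff'.mp (inv_mem a7)
  have c1 : y * y' * q * (y * y')⁻¹ = z * q := by
    calc _ = y * (y' * q⁻¹ * y'⁻¹)⁻¹ * y⁻¹ := by group
      _ = _ := by rw [c1_iff'.mp hy', inv_inv, e1]
  have c2 : y * y' * z * (y * y')⁻¹ = q⁻¹ := by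
    calc _ = y * (y' * z * y'⁻¹) * y⁻¹ := by group
      _ = (y * q * y⁻¹)⁻¹ * (y * z * y⁻¹) := by rw [e2]; group
      _ = _ := by rw [c1_iff'.mp hy, e1]; group
  generalize y * y' = g at c1 c2
  have c3 : g * g * g * q * (g * g * g)⁻¹ = q⁻¹ := by
    calc _ = g * g * (g * q * g⁻¹) * g⁻¹ * g⁻¹ := by group
      _ = g * g * (z * q) * g⁻¹ * g⁻¹ := by rw [c1]
      _ = g * (g * z * g⁻¹ * (g * q * g⁻¹)) * g⁻¹ := by group
      _ = g * (q⁻¹ * z * q⁻¹⁻¹) * g⁻¹ := by rw [c1, c2]; group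
      _ = _ := by rw [c0, c2]
  have c4 := sq_eq_one_of_inv ((h.bo.odd_nor hG (X := zpowers q) (by simpa using q0)
    (Nat.card_zpowers q ▸ pq.coprime (h.bo.th.cop.coprime_dvd_left h.sa).symm)).of_dvd_nat
    (orderOf_dvd_natCard _ (mem_normalizer_of_conjS_le (by
      rw [conjS, MonoidHom.map_zpowers, zpowers_le]
      exact H5.mem_of_eq (inv_mem (mem_zpowers q)) c3.symm)))) c3
  exact q0 ((pow_eq_one_iff_of_coprime (Nat.coprime_two_left.mpr h.odd)).mp ⟨by rwa [sq], a5⟩)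

end C2

theorem BO.false (h : BO G α β d) : False := by
  obtain ⟨s, k, B, h'⟩ := h.exists_c2 hG
  exact h'.false hG

theorem cn_aux {c e : ℕ} (h : TH G α β)
    (h1 : ∀ z : G, z ≠ 1 → ix z = α ∨ ix z = β ∨ ix z = c ∨ ix z = d ∨ ix z = e)
    (c1 : α ∣ c) (c2 : ¬ β ∣ c) (d1 : ¬ α ∣ d) (e1 : α ∣ e) (e2 : ∃ u : G, u ≠ 1 ∧ ix u = e) :
    Cn G := by
  have h2 : ¬ α ∣ β := fun e => h.ne_one hG (h.cop.eq_one_of_dvd e)
  have h3 : ¬ β ∣ α := fun e => h.symm.ne_one hG (h.cop.symm.eq_one_of_dvd e)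
  have h4 : ∀ z : G, z ≠ 1 → ¬ α ∣ ix z → ix z = β ∨ ix z = d := fun z hz a => by
    rcases h1 z hz with e' | e' | e' | e' | e'
    exacts [absurd e'.symm.dvd a, .inl e', absurd (e' ▸ c1) a, .inr e', absurd (e' ▸ e1) a]
  by_cases e3 : β ∣ e
  · obtain ⟨u, u1, rfl⟩ := e2
    refine (caseA (e := ix u) hG h (fun z hz a b => ?_) h4 ⟨u, u1, e1, e3⟩).elim
    rcases h1 z hz with e' | e' | e' | e' | e'
    exacts [absurd (e' ▸ b) h3, absurd (e' ▸ a) h2, absurd (e' ▸ b) c2, absurd (e' ▸ a) d1, e']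
  have h5 : ∀ z : G, z ≠ 1 → α ∣ ix z → ¬ β ∣ ix z := fun z hz a b => by
    rcases h1 z hz with e' | e' | e' | e' | e'
    exacts [h3 (e' ▸ b), h2 (e' ▸ a), c2 (e' ▸ b), d1 (e' ▸ a), e3 (e' ▸ b)]
  have h6 : ∀ z : G, z ≠ 1 → β ∣ ix z → ix z = β ∨ ix z = d := fun z hz b =>
    h4 z hz fun a => h5 z hz a b
  have hc := hc_of hG h h5 fun z hz b n => ⟨hz, fun y hy e' => (h6 y hy (b.trans e')).elim
    (fun e'' => Nat.dvd_antisymm (e'' ▸ b) e') fun e'' =>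
      e''.trans ((h6 z hz b).resolve_left n).symm⟩
  by_cases o : 2 ∣ α
  · exact cn_of_even hG h hc o h6
  · exact (BO.false hG ⟨h, hc, h6, Nat.not_even_iff_odd.mp fun e => o e.two_dvd⟩).elim

theorem cn_of_five (h5 : (TS G).ncard = 5) (h0 : (Hd G).ncard ≠ 3) : Cn G := by
  by_cases h1 : (Hd G).ncard ≤ 2
  swap; · exact cn_of_hd hG (by omega)
  obtain ⟨α, β, h⟩ := th_of_hd hG h1
  obtain ⟨u, u1, u2, u3, u4⟩ := exists_above hG h.symm
  obtain ⟨w, w1, w2, w3, w4⟩ := exists_above hG h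
  have h2 : ¬ α ∣ β := fun e => h.ne_one hG (h.cop.eq_one_of_dvd e)
  have h3 : {α, β, ix u, ix w} ⊆ TS G := by
    obtain ⟨x, hx, rfl⟩ := h.exa
    obtain ⟨y, hy, rfl⟩ := h.exb
    rintro _ (rfl | rfl | rfl | rfl)
    exacts [⟨x, hx, rfl⟩, ⟨y, hy, rfl⟩, ⟨u, u1, rfl⟩, ⟨w, w1, rfl⟩]
  have h4 : ({α, β, ix u, ix w} : Set ℕ).ncard = 4 := by
    rw [Set.ncard_insert_of_notMem, Set.ncard_insert_of_notMem, Set.ncard_pair]
    · exact fun e => w3 (e ▸ u4)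
    · rintro (e | e)
      exacts [u3 e.dvd, w2 e.symm]
    · rintro (e | e | e)
      exacts [h2 e.dvd, u2 e.symm, w3 e.dvd]
  obtain ⟨_, ⟨v, v1, rfl⟩, h6⟩ := Set.exists_mem_notMem_of_ncard_lt_ncard
    (s := ({α, β, ix u, ix w} : Set ℕ)) (t := TS G) (by omega)
  have h7 : insert (ix v) {α, β, ix u, ix w} = TS G := Set.eq_of_subset_of_ncard_le
    (Set.insert_subset ⟨v, v1, rfl⟩ h3) (by rw [Set.ncard_insert_of_notMem h6, h4, h5]) ts_fin
  have h8 : ∀ z : G, z ≠ 1 → ix z = ix v ∨ ix z = α ∨ ix z = β ∨ ix z = ix u ∨ ix z = ix w :=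
    fun z hz => h7.ge ⟨z, hz, rfl⟩
  rcases h.dvd v v1 with e | e
  · exact cn_aux hG h (fun z hz => by have := h8 z hz; tauto) u4 u3 w3 e ⟨v, v1, rfl⟩
  · exact cn_aux hG h.symm (fun z hz => by have := h8 z hz; tauto) w4 w3 u3 e ⟨v, v1, rfl⟩

theorem hd_eq : {a | a ∈ TS G ∧ ∀ c ∈ TS G, c ∣ a → c = a} = Hd G := Set.ext fun a =>
  ⟨fun ⟨⟨x, hx, e⟩, h⟩ => ⟨x, ⟨hx, fun y hy e' => (h _ ⟨y, hy, rfl⟩ (e ▸ e')).trans e⟩, e⟩,
    fun ⟨x, hx, e⟩ => ⟨⟨x, hx.1, e⟩, fun c ⟨y, hy, e'⟩ h => by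
      rw [e, e'] at h ⊢; exact hx.2 y hy h⟩⟩

theorem Cn.five (h : Cn G) (h5 : (TS G).ncard = 5) : Cfsg.Lie.IsoSuzuki G ∨
    ∃ (F : Type) (_ : Field F) (_ : Fintype F), Fintype.card F = 4 ∧
      Nonempty (G ≃* Matrix.ProjectiveSpecialLinearGroup (Fin 3) F) := by
  have h1 : TS' G = TS G := ts_eq hG
  have hL : ¬ ∃ (F : Type) (_ : Field F) (_ : Fintype F), 3 < Fintype.card F ∧
      Nonempty (G ≃* Matrix.ProjectiveSpecialLinearGroup (Fin 2) F) := fun ⟨F, _, _, h2, ⟨e⟩⟩ => by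
    rcases l2_cases h2 e with h3 | ⟨k, hk⟩
    · have := h3.rank_three.2.2
      rw [h1] at this
      omega
    · have := psl_le_four hk
      rw [← ts_congr e, h1] at this
      omega
  have h7 : ¬ Nonempty (G ≃* alternatingGroup (Fin 7)) := fun ⟨e⟩ => by
    have := a7_rank
    rw [← ts_congr e, h1] at this
    omega
  rcases h with h | h | ⟨h2, M, hM⟩ | ⟨V, W, h2⟩
  · exact absurd h hL
  · exact absurd h h7
  · rcases CIT.concl_of_se hG h2 hM with h | h | h | h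
    exacts [absurd h hL, .inl h, absurd h h7, .inr h]
  · exact .inr (CIT.l34 G V W h2)

end I4
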